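import Cfsg.Agent.Lib.SolvSF.Main
import Cfsg.Agent.Lib.FixedFittingLength.Apply
import Cfsg.Prelude.Def_CaseTheorems

/-! Consequences of the solvable signalizer functor theorem. -/

set_option autoImplicit false
set_option linter.unusedSectionVars false

namespace CfsgLib.SolvSF

open Cfsg Subgroup CfsgLib.Signalizer

universe u
variable {G : Type u} [Group G] [Finite G] {p : ℕ} [Fact p.Prime] {A : Subgroup G} {θ : G → Subgroup G}

theorem ea_of_comm {B : Subgroup G} (hc : ∀ a ∈ B, ∀ b ∈ B, a * b = b * a) (he : ∀ a ∈ B, a ^ p = 1) :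
    IsElementaryAbelian p B :=
  ⟨⟨⟨fun x y => Subtype.ext (hc x x.2 y y.2)⟩⟩, he⟩

theorem lt_card_of_sq_le {B : Subgroup G} (h : p ^ 2 ≤ Nat.card B) : p < Nat.card B :=
  lt_of_lt_of_le (by nlinarith [(Fact.out : p.Prime).one_lt]) h

/-- The closure is the complete member. -/
theorem closure_spec (hA : IsElementaryAbelian p A) (hA3 : p ^ 3 ≤ Nat.card A)
    (hθ : IsSolvableSignalizerFunctor p A θ) :
    Mem p A θ (⨆ a : {a : G // a ∈ A ∧ a ≠ 1}, θ a) ∧
      ∀ a ∈ A, a ≠ 1 → (⨆ b : {a : G // a ∈ A ∧ a ≠ 1}, θ b) ⊓ centralizer {a} = θ a := by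
  obtain ⟨X, hX, hle⟩ := complete hA hA3 hθ
  have hA2 : p < Nat.card A :=
    lt_card_of_sq_le ((Nat.pow_le_pow_right (Fact.out : p.Prime).pos (by norm_num)).trans hA3)
  have he : (⨆ a : {a : G // a ∈ A ∧ a ≠ 1}, θ a) = X :=
    le_antisymm (iSup_le fun a => hle a a.2.1 a.2.2) (gen_le hA hA2 hX.2.1 (mem_normalizes hX) fun a ha ha1 =>
      (hX.2.2.2 a ha ha1).trans (le_iSup (fun b : {a : G // a ∈ A ∧ a ≠ 1} => θ b) ⟨a, ha, ha1⟩))
  rw [he]
  exact ⟨hX, fun a ha ha1 => le_antisymm (hX.2.2.2 a ha ha1) (le_inf (hle a ha ha1) (hθ.1.1 a ha ha1))⟩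

theorem sigSolvable : FFLength.SigSolvable.{u} := by
  intro G _ _ p _ A hc he hA3 θ h1 h2 h3 h4 h5
  exact (closure_spec (ea_of_comm hc he) hA3 ⟨⟨h1, h2, h3, h5⟩, h4⟩).1.1

/-! ### The equivariant assignment on a connected group -/

/-- The elements at which an equivariant assignment is given. -/
def Adm (p : ℕ) (a : G) : Prop := orderOf a = p ∧ ¬ PRankLE p 2 ↥(centralizer ({a} : Set G))

theorem exists_rank_three_of {C : Subgroup G} (h : ¬ PRankLE p 2 ↥C) :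
    ∃ F : Subgroup G, F ≤ C ∧ IsElementaryAbelian p F ∧ p ^ 3 ≤ Nat.card F := by
  simp only [PRankLE, not_forall, not_le] at h
  obtain ⟨F₀, hc, he, hlt⟩ := h
  refine ⟨F₀.map C.subtype, Subgroup.map_subtype_le _, ea_of_comm ?_ ?_, ?_⟩
  · rintro _ ⟨a, ha, rfl⟩ _ ⟨b, hb, rfl⟩
    exact congrArg Subtype.val (congrArg Subtype.val (hc.is_comm.comm ⟨a, ha⟩ ⟨b, hb⟩))
  · rintro _ ⟨a, ha, rfl⟩
    rw [← map_pow, he a ha, map_one]
  · rw [Subgroup.card_map_of_injective C.subtype_injective]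
    have hp := (Fact.out : p.Prime)
    have hF : IsPGroup p F₀ := fun a => ⟨1, Subtype.ext (by rw [pow_one]; exact he a a.2)⟩
    obtain ⟨i, hi⟩ := IsPGroup.iff_card.mp hF
    rw [hi] at hlt ⊢
    exact Nat.pow_le_pow_right hp.pos ((Nat.pow_lt_pow_iff_right hp.one_lt).mp hlt)

theorem not_prankle_of_le {A C : Subgroup G} (hA : IsElementaryAbelian p A) (hA3 : p ^ 3 ≤ Nat.card A)
    (hAC : A ≤ C) : ¬ PRankLE p 2 ↥C := fun h => by
  have hp := (Fact.out : p.Prime)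
  have h1 := h (A.subgroupOf C)
    ⟨⟨fun x y => Subtype.ext (Subtype.ext (ea_comm hA x.2 y.2))⟩⟩
    (fun x hx => Subtype.ext (by simpa using hA.2 (x : G) hx))
  rw [Nat.card_congr (Subgroup.subgroupOfEquivOfLe hAC).toEquiv] at h1
  exact absurd ((Nat.pow_le_pow_iff_right hp.one_lt).mp (hA3.trans h1)) (by norm_num)

theorem adm_of_mem (hA : IsElementaryAbelian p A) (hA3 : p ^ 3 ≤ Nat.card A) {a : G} (ha : a ∈ A) (ha1 : a ≠ 1) :
    Adm p a :=
  ⟨orderOf_eq_prime_of_ea hA ha ha1, not_prankle_of_le hA hA3 fun _ hx =>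
    Subgroup.mem_centralizer_singleton_iff.mpr (ea_comm hA hx ha)⟩

theorem trivial_of_connected (hO : pPrimeCore p G = ⊥) (hconn : IsRankGraphConnected p 2 G)
    (hC : ∀ a : G, Adm p a →
      θ a ≤ centralizer ({a} : Set G) ∧ ¬ p ∣ Nat.card ↥(θ a) ∧ Group.IsSolvable ↥(θ a))
    (heq : ∀ a g : G, Adm p a → θ (g * a * g⁻¹) = (θ a).map (MulAut.conj g).toMonoidHom)
    (hbal : ∀ a b : G, Adm p a → Adm p b → a * b = b * a → θ a ⊓ centralizer {b} ≤ θ b)
    {a : G} (ha : Adm p a) : θ a = ⊥ := by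
  classical
  have hp := (Fact.out : p.Prime)
  let Wf : Subgroup G → Subgroup G := fun E => ⨆ e : {e : G // e ∈ E ∧ e ≠ 1}, θ e
  have hfun : ∀ A : Subgroup G, IsElementaryAbelian p A → p ^ 3 ≤ Nat.card A →
      IsSolvableSignalizerFunctor p A θ := fun A hA hA3 =>
    ⟨⟨fun a ha h1 => (hC a (adm_of_mem hA hA3 ha h1)).1, fun a ha h1 => (hC a (adm_of_mem hA hA3 ha h1)).2.1,
      fun a ha h1 b hb x hx => by
        have h2 := heq a b (adm_of_mem hA hA3 ha h1)
        rw [show b * a * b⁻¹ = a by rw [ea_comm hA hb ha, mul_inv_cancel_right]] at h2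
        rw [h2]
        exact ⟨x, hx, rfl⟩,
      fun a ha h1 b hb hb1 => hbal a b (adm_of_mem hA hA3 ha h1) (adm_of_mem hA hA3 hb hb1) (ea_comm hA ha hb)⟩,
      fun a ha h1 => (hC a (adm_of_mem hA hA3 ha h1)).2.2⟩
  have hsame : ∀ A E : Subgroup G, IsElementaryAbelian p A → p ^ 3 ≤ Nat.card A → E ≤ A → p ^ 2 ≤ Nat.card E →
      Wf E = Wf A := by
    intro A E hA hA3 hEA hE
    obtain ⟨hX, hc⟩ := closure_spec hA hA3 (hfun A hA hA3)
    refine le_antisymm (iSup_le fun e => le_iSup_of_le (⟨e, hEA e.2.1, e.2.2⟩ : {e : G // e ∈ A ∧ e ≠ 1}) le_rfl)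
      (gen_le (ea_le hA hEA) (lt_card_of_sq_le hE) hX.2.1 (hEA.trans (mem_normalizes hX)) fun e he he1 => ?_)
    exact (hc e (hEA he) he1).le.trans (le_iSup (fun e : {e : G // e ∈ E ∧ e ≠ 1} => θ e) ⟨e, he, he1⟩)
  -- joins of commuting vertices
  have hjoin : ∀ E F : Subgroup G, IsElementaryAbelian p E → IsElementaryAbelian p F →
      (∀ x ∈ E, ∀ y ∈ F, x * y = y * x) → IsElementaryAbelian p (E ⊔ F : Subgroup G) := by
    intro E F hE hF hEF
    have hdec : ∀ z ∈ E ⊔ F, ∃ x ∈ E, ∃ y ∈ F, z = x * y := fun z hz =>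
      Comp.mem_sup_of_commutator_eq_bot (Subgroup.commutator_eq_bot_iff_le_centralizer.mpr
        fun x hx y hy => (hEF x hx y hy).symm) hz
    refine ea_of_comm ?_ ?_
    · intro z hz w hw
      obtain ⟨x, hx, y, hy, rfl⟩ := hdec z hz
      obtain ⟨x', hx', y', hy', rfl⟩ := hdec w hw
      exact (((show Commute x x' from ea_comm hE hx hx').mul_right (hEF x hx y' hy')).mul_left
        ((show Commute y x' from (hEF x' hx' y hy).symm).mul_right (ea_comm hF hy hy'))).eq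
    · intro z hz
      obtain ⟨x, hx, y, hy, rfl⟩ := hdec z hz
      rw [(show Commute x y from hEF x hx y hy).mul_pow, hE.2 x hx, hF.2 y hy, one_mul]
  have hedge : ∀ E F : Subgroup G, IsRankGraphVertex p 2 E → IsRankGraphVertex p 2 F →
      (∀ x ∈ E, ∀ y ∈ F, x * y = y * x) → Wf E = Wf F := by
    intro E F hE hF hEF
    have hJ := hjoin E F hE.1 hF.1 hEF
    by_cases h3 : p ^ 3 ≤ Nat.card ↥(E ⊔ F)
    · exact (hsame _ E hJ h3 le_sup_left hE.2.1).trans (hsame _ F hJ h3 le_sup_right hF.2.1).symm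
    · obtain ⟨i, hi⟩ := IsPGroup.iff_card.mp (isPGroup_ea hJ)
      rw [hi] at h3
      have hi2 : i ≤ 2 := by
        have := mt (Nat.pow_le_pow_right hp.pos) h3
        omega
      have hle : Nat.card ↥(E ⊔ F) ≤ p ^ 2 := hi ▸ Nat.pow_le_pow_right hp.pos hi2
      rw [Subgroup.eq_of_le_of_card_ge (le_sup_left : E ≤ E ⊔ F) (hle.trans hE.2.1),
        ← Subgroup.eq_of_le_of_card_ge (le_sup_right : F ≤ E ⊔ F) (hle.trans hF.2.1)]
  have hconst : ∀ E F : Subgroup G, IsRankGraphVertex p 2 E → IsRankGraphVertex p 2 F → Wf E = Wf F := by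
    intro E F hE hF
    have h := hconn E F hE hF
    clear hE hF
    induction h with
    | refl => rfl
    | tail _ hbc ih => exact ih.trans (hedge _ _ hbc.1 hbc.2.1 hbc.2.2)
  -- a vertex containing `a`
  obtain ⟨F, hFC, hF, hF3⟩ := exists_rank_three_of ha.2
  have haE : IsElementaryAbelian p (zpowers a) := by
    refine ea_of_comm ?_ ?_
    · rintro _ ⟨i, rfl⟩ _ ⟨j, rfl⟩
      exact (Commute.zpow_zpow (Commute.refl a) i j).eq
    · rintro _ ⟨i, rfl⟩
      show (a ^ i) ^ p = 1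
      rw [← zpow_natCast, ← zpow_mul, mul_comm, zpow_mul, zpow_natCast, ← ha.1, pow_orderOf_eq_one, one_zpow]
  set E := zpowers a ⊔ F with hEdef
  have hE : IsElementaryAbelian p E := hjoin _ _ haE hF fun x hx y hy => by
    obtain ⟨i, rfl⟩ := hx
    exact ((show Commute a y from (Subgroup.mem_centralizer_singleton_iff.mp (hFC hy)).symm).zpow_left i).eq
  have hE3 : p ^ 3 ≤ Nat.card E := hF3.trans (Subgroup.card_le_of_le le_sup_right)
  have hEv : IsRankGraphVertex p 2 E := ⟨hE, (Nat.pow_le_pow_right hp.pos (by norm_num)).trans hE3,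
    not_prankle_of_le hE hE3 fun x hx y hy => ea_comm hE hy hx⟩
  obtain ⟨hX, -⟩ := closure_spec hE hE3 (hfun E hE hE3)
  haveI : (Wf E).Normal := by
    refine ⟨fun w hw g => ?_⟩
    have hE' : IsElementaryAbelian p (E.map (MulAut.conj g).toMonoidHom) := by
      refine ea_of_comm ?_ ?_
      · rintro _ ⟨x, hx, rfl⟩ _ ⟨y, hy, rfl⟩
        rw [← map_mul, ← map_mul, ea_comm hE hx hy]
      · rintro _ ⟨x, hx, rfl⟩
        rw [← map_pow, hE.2 x hx, map_one]
    have hc : Nat.card ↥(E.map (MulAut.conj g).toMonoidHom) = Nat.card E :=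
      Subgroup.card_map_of_injective (MulAut.conj g).injective
    have hv : IsRankGraphVertex p 2 (E.map (MulAut.conj g).toMonoidHom) :=
      ⟨hE', hc.symm ▸ hEv.2.1, not_prankle_of_le hE' (hc.symm ▸ hE3) fun x hx y hy => ea_comm hE' hy hx⟩
    have h1 : (Wf E).map (MulAut.conj g).toMonoidHom ≤ Wf (E.map (MulAut.conj g).toMonoidHom) := by
      rw [Subgroup.map_iSup]
      refine iSup_le fun e => ?_
      rw [← heq _ g (adm_of_mem hE hE3 e.2.1 e.2.2)]
      exact le_iSup (fun e : {e : G // e ∈ E.map (MulAut.conj g).toMonoidHom ∧ e ≠ 1} => θ e)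
        ⟨g * e * g⁻¹, ⟨e, e.2.1, rfl⟩, fun h => e.2.2 (conj_eq_one_iff.mp h)⟩
    rw [hconst E _ hEv hv]
    exact h1 ⟨w, hw, rfl⟩
  have hbot : Wf E = ⊥ := le_bot_iff.mp (hO ▸ le_pPrimeCore
    ((hp.coprime_iff_not_dvd.mpr hX.2.1).symm))
  have ha1 : a ≠ 1 := fun e => hp.ne_one (ha.1 ▸ e ▸ orderOf_one)
  exact le_bot_iff.mp (hbot ▸ le_iSup (fun e : {e : G // e ∈ E ∧ e ≠ 1} => θ e)
    ⟨a, Subgroup.mem_sup_left (Subgroup.mem_zpowers a), ha1⟩)

end CfsgLib.SolvSF
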