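import Cfsg.Agent.Lib.Signalizer.Functor

/-! Balance of `O_{p'}` of centralisers with trivial `p`-layer. -/

set_option autoImplicit false

namespace CfsgLib.SolvSF

open Cfsg Subgroup

universe u
variable {G : Type u} [Group G] [Finite G] {p : ℕ} [Fact p.Prime]

theorem core_balance_of_pLayer {a b : G} (ha : orderOf a = p)
    (hL : pLayer p ↥(Subgroup.centralizer ({b} : Set G)) = ⊥) (hab : a * b = b * a) :
    centralizerPPrimeCore p a ⊓ Subgroup.centralizer {b} ≤ centralizerPPrimeCore p b := by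
  have hp := (Fact.out : p.Prime)
  have hnd : ¬ p ∣ Nat.card (centralizerPPrimeCore p a) := fun h => by
    rw [centralizerPPrimeCore, Subgroup.card_map_of_injective (Subgroup.subtype_injective _)] at h
    exact CfsgLib.not_dvd_card_pPrimeCore hp h
  have hnorm : Subgroup.centralizer ({a} : Set G) ≤
      Subgroup.normalizer (centralizerPPrimeCore p a : Set G) := fun g hg =>
    CfsgLib.Comp.mem_normalizer_of_maps (by
      rintro _ ⟨w, hw, rfl⟩
      exact ⟨⟨g, hg⟩ * w * ⟨g, hg⟩⁻¹, (inferInstance : (pPrimeCore p _).Normal).conj_mem w hw _, rfl⟩)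
  set H := Subgroup.centralizer ({b} : Set G) with hH
  have haH : a ∈ H := Subgroup.mem_centralizer_singleton_iff.mpr hab
  set P := Subgroup.zpowers (⟨a, haH⟩ : H) with hP
  have hPp : IsPGroup p P := by
    refine IsPGroup.of_card_dvd_pow (n := 1) ?_
    rw [Nat.card_zpowers, Subgroup.orderOf_mk, pow_one, ha]
  have key := (CfsgLib.Comp.pLayer_normalizer hL P hPp).2
  set CH := Subgroup.centralizer (P : Set H) with hCH
  set D : Subgroup H := (centralizerPPrimeCore p a).subgroupOf H with hD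
  have hDC : D ≤ CH := fun x hx q hq => by
    obtain ⟨i, rfl⟩ := Subgroup.mem_zpowers_iff.mp (SetLike.mem_coe.mp hq)
    exact Subtype.ext (by
      push_cast
      exact ((show Commute a (x : G) from
        (Subgroup.mem_centralizer_singleton_iff.mp (Subgroup.map_subtype_le _ hx)).symm).zpow_left i).eq)
  have hDn : CH ≤ Subgroup.normalizer (D : Set H) := fun g hg => CfsgLib.Comp.mem_normalizer_of_maps fun x hx =>
    (Subgroup.mem_normalizer_iff.mp (hnorm (Subgroup.mem_centralizer_singleton_iff.mpr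
      (congrArg Subtype.val (hg ⟨a, haH⟩ (Subgroup.mem_zpowers _))).symm)) (x : G)).mp hx
  have hDp : (Nat.card D).Coprime p := by
    have h1 : Nat.card D ∣ Nat.card (centralizerPPrimeCore p a) :=
      Subgroup.card_dvd_of_injective (H.subtype.subgroupComap (centralizerPPrimeCore p a))
        (fun u v e => Subtype.ext (Subtype.ext (congrArg (fun z : centralizerPPrimeCore p a => (z : G)) e)))
    exact Nat.Coprime.coprime_dvd_left h1 (hp.coprime_iff_not_dvd.mpr hnd).symm
  haveI : (D.subgroupOf CH).Normal := (Subgroup.normal_subgroupOf_iff_le_normalizer hDC).mpr hDn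
  set N := Subgroup.normalizer (P : Set H) with hN
  have hCN : CH ≤ N := CfsgLib.Comp.centralizer_le_normalizer' P
  haveI : (CH.subgroupOf N).Normal := centralizer_subgroupOf_normalizer_normal P
  have hD1 : (D.subgroupOf N).IsSubnormal := by
    refine Subgroup.IsSubnormal.step _ (CH.subgroupOf N) (fun x hx => hDC hx)
      (Subgroup.Normal.isSubnormal inferInstance) ?_
    refine (Subgroup.normal_subgroupOf_iff_le_normalizer
      (show D.subgroupOf N ≤ CH.subgroupOf N from fun x hx => hDC hx)).mpr fun g hg => ?_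
    exact CfsgLib.Comp.mem_normalizer_of_maps fun x hx => (Subgroup.mem_normalizer_iff.mp (hDn hg) (x : H)).mp hx
  have hD2 : D.subgroupOf N ≤ pPrimeCore p ↥N := CfsgLib.Comp.subnormal_coprime_le hD1 (by
    rwa [Nat.card_congr (Subgroup.subgroupOfEquivOfLe (hDC.trans hCN)).toEquiv])
  rintro x ⟨hxa, hxb⟩
  have hxD : (⟨x, hxb⟩ : H) ∈ D := hxa
  exact ⟨⟨x, hxb⟩, key ⟨⟨⟨x, hxb⟩, hCN (hDC hxD)⟩, hD2 hxD, rfl⟩, rfl⟩

theorem conj_mem_centralizerPPrimeCore (c a : G) {x : G} (hx : x ∈ centralizerPPrimeCore p a) :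
    c * x * c⁻¹ ∈ centralizerPPrimeCore p (c * a * c⁻¹) := by
  obtain ⟨y, hy, rfl⟩ := hx
  have hmem : ∀ z : Subgroup.centralizer ({a} : Set G),
      (MulAut.conj c) (z : G) ∈ Subgroup.centralizer ({c * a * c⁻¹} : Set G) := fun z => by
    rw [Subgroup.mem_centralizer_singleton_iff]
    show c * (z : G) * c⁻¹ * (c * a * c⁻¹) = c * a * c⁻¹ * (c * (z : G) * c⁻¹)
    have hz := Subgroup.mem_centralizer_singleton_iff.mp z.2
    calc c * (z : G) * c⁻¹ * (c * a * c⁻¹) = c * ((z : G) * a) * c⁻¹ := by group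
      _ = c * (a * (z : G)) * c⁻¹ := by rw [hz]
      _ = _ := by group
  have hinv : ∀ z : Subgroup.centralizer ({c * a * c⁻¹} : Set G),
      (MulAut.conj c⁻¹) (z : G) ∈ Subgroup.centralizer ({a} : Set G) := fun z => by
    rw [Subgroup.mem_centralizer_singleton_iff]
    show c⁻¹ * (z : G) * c⁻¹⁻¹ * a = a * (c⁻¹ * (z : G) * c⁻¹⁻¹)
    have hz := Subgroup.mem_centralizer_singleton_iff.mp z.2
    calc c⁻¹ * (z : G) * c⁻¹⁻¹ * a = c⁻¹ * ((z : G) * (c * a * c⁻¹)) * c := by group
      _ = c⁻¹ * (c * a * c⁻¹ * (z : G)) * c := by rw [hz]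
      _ = _ := by group
  let f : Subgroup.centralizer ({a} : Set G) ≃* Subgroup.centralizer ({c * a * c⁻¹} : Set G) :=
    { toFun := fun z => ⟨_, hmem z⟩
      invFun := fun z => ⟨_, hinv z⟩
      left_inv := fun z => Subtype.ext (by simp [mul_assoc])
      right_inv := fun z => Subtype.ext (by simp [mul_assoc])
      map_mul' := fun z w => Subtype.ext (map_mul (MulAut.conj c) (z : G) w) }
  exact ⟨f y, (CfsgLib.pPrimeCore_map_equiv p f).le ⟨y, hy, rfl⟩, rfl⟩

theorem map_centralizerPPrimeCore' (g a : G) :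
    (centralizerPPrimeCore p a).map (MulAut.conj g).toMonoidHom = centralizerPPrimeCore p (g * a * g⁻¹) := by
  refine le_antisymm ?_ fun x hx => ?_
  · rintro _ ⟨x, hx, rfl⟩
    exact conj_mem_centralizerPPrimeCore g a hx
  · have h := conj_mem_centralizerPPrimeCore g⁻¹ (g * a * g⁻¹) hx
    rw [show g⁻¹ * (g * a * g⁻¹) * g⁻¹⁻¹ = a by group] at h
    exact ⟨_, h, by simp [mul_assoc]⟩

end CfsgLib.SolvSF
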