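import Cfsg.Agent.Lib.SolvSF.Setup
import Cfsg.Agent.Lib.HallSolvable
import Cfsg.Agent.Lib.PSolvable

/-! Reduction to a minimal counterexample. -/

set_option autoImplicit false
set_option linter.unusedSectionVars false

namespace CfsgLib.SolvSF

open Cfsg Subgroup CfsgLib.Signalizer
open scoped Pointwise

universe u
variable {G : Type u} [Group G] [Finite G] {p : ℕ} [Fact p.Prime] {A : Subgroup G} {θ : G → Subgroup G}

/-- The statement proved by the other files. -/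
def NoCtx : Prop :=
  ∀ {G : Type u} [Group G] [Finite G] {p : ℕ} [Fact p.Prime] {A : Subgroup G} {θ : G → Subgroup G},
    Ctx p A θ → False

/-- The total size of a functor. -/
noncomputable def fsize (A : Subgroup G) (θ : G → Subgroup G) : ℕ :=
  Nat.card ((a : {a : G // Pt A a}) × ↥(θ a))

theorem fsize_lt {ψ : G → Subgroup G} (hle : ∀ a, Pt A a → ψ a ≤ θ a) (hne : ∃ a, Pt A a ∧ ψ a ≠ θ a) :
    fsize A ψ < fsize A θ := by
  obtain ⟨a, ha, hne⟩ := hne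
  obtain ⟨x, hx, hx'⟩ : ∃ x ∈ θ a, x ∉ ψ a := by
    by_contra h; push Not at h
    exact hne (le_antisymm (hle a ha) h)
  let f : ((a : {a : G // Pt A a}) × ↥(ψ a)) → ((a : {a : G // Pt A a}) × ↥(θ a)) :=
    fun z => ⟨z.1, ⟨z.2, hle z.1 z.1.2 z.2.2⟩⟩
  have hf : Function.Injective f := by
    rintro ⟨b, y⟩ ⟨c, z⟩ e
    obtain ⟨rfl, e'⟩ := Sigma.mk.inj_iff.mp e
    have h5 := eq_of_heq e'
    have : (y : G) = z := Subtype.mk.inj h5
    rw [Subtype.ext this]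
  refine lt_of_le_of_ne (Nat.card_le_card_of_injective f hf) fun e => ?_
  have hb := (Nat.bijective_iff_injective_and_card f).mpr ⟨hf, e⟩
  obtain ⟨⟨b, y⟩, hy⟩ := hb.2 ⟨⟨a, ha⟩, ⟨x, hx⟩⟩
  obtain ⟨rfl, e'⟩ := Sigma.mk.inj_iff.mp hy
  have h5 := eq_of_heq e'
  have h6 : (y : G) = x := Subtype.mk.inj h5
  exact hx' (h6 ▸ y.2)

theorem pt_mem {a : G} (ha : Pt A a) : a ∈ A := ha.1

/-- Generation by the centralizers of the points. -/
theorem gen_le (hA : IsElementaryAbelian p A) (hA2 : p < Nat.card A) {X Y : Subgroup G}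
    (hXp : ¬ p ∣ Nat.card X) (hXA : A ≤ normalizer (X : Set G))
    (hle : ∀ a ∈ A, a ≠ 1 → X ⊓ centralizer ({a} : Set G) ≤ Y) : X ≤ Y := by
  haveI : IsMulCommutative A := hA.1
  rw [← coprime_generated_by_centralizers (ea_not_cyclic hA hA2) hXA (ea_coprime hA hXp)]
  exact iSup₂_le fun a ha => hle a ha.1 ha.2

theorem le_normalizer_sSup {B : Subgroup G} {S : Set (Subgroup G)}
    (h : ∀ U ∈ S, B ≤ normalizer (U : Set G)) : B ≤ normalizer ((sSup S : Subgroup G) : Set G) := fun g hg =>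
  Comp.mem_normalizer_of_maps fun w hw => by
    have hle : sSup S ≤ (sSup S).comap (MulAut.conj g).toMonoidHom :=
      sSup_le fun U hU u hu => le_sSup hU ((mem_normalizer_iff.mp (h U hU hg) u).mp hu)
    exact hle hw

/-- A smaller functor inside `θ`. -/
theorem functor_sub (hθ : IsSolvableSignalizerFunctor p A θ) {ψ : G → Subgroup G}
    (hle : ∀ a ∈ A, a ≠ 1 → ψ a ≤ θ a) (hinv : ∀ a ∈ A, a ≠ 1 → A ≤ normalizer (ψ a : Set G))
    (hbal : ∀ a ∈ A, a ≠ 1 → ∀ b ∈ A, b ≠ 1 → ψ a ⊓ centralizer {b} ≤ ψ b) :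
    IsSolvableSignalizerFunctor p A ψ :=
  ⟨⟨fun a ha h1 => (hle a ha h1).trans (hθ.1.1 a ha h1),
    fun a ha h1 h => hθ.1.2.1 a ha h1 (h.trans (Subgroup.card_dvd_of_le (hle a ha h1))),
    fun a ha h1 => inv_of_normalizer (hinv a ha h1), hbal⟩,
    fun a ha h1 => by
      haveI := hθ.2 a ha h1
      exact Group.isSolvable_of_isSolvable_injective (f := Subgroup.inclusion (hle a ha h1))
        (Subgroup.inclusion_injective _)⟩

theorem mem_of_sub {ψ : G → Subgroup G} (hle : ∀ a ∈ A, a ≠ 1 → ψ a ≤ θ a) {X : Subgroup G}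
    (hX : Mem p A ψ X) : Mem p A θ X :=
  ⟨hX.1, hX.2.1, hX.2.2.1, fun a ha h1 => (hX.2.2.2 a ha h1).trans (hle a ha h1)⟩

set_option maxHeartbeats 800000 in
/-- In a soluble group the invariant `q'`-subgroups normalised by the fixed points generate a `q'`-group. -/
theorem join_qPrime (hA : IsElementaryAbelian p A) {K : Subgroup G} (hKp : ¬ p ∣ Nat.card K)
    (hKs : Group.IsSolvable K) (hAK : A ≤ normalizer (K : Set G)) {q : ℕ} (hq : q.Prime) (hqp : q ≠ p)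
    {S : Set (Subgroup G)}
    (hS : ∀ U ∈ S, U ≤ K ∧ ¬ q ∣ Nat.card U ∧ A ≤ normalizer (U : Set G) ∧
      K ⊓ centralizer (A : Set G) ≤ normalizer (U : Set G)) :
    ¬ q ∣ Nat.card ↥(sSup S) := by
  classical
  set X := K ⊔ A with hX
  haveI hXs : Group.IsSolvable X := isSolvable_sup' hKs (ea_solvable hA) hAK
  have hdisj : ∀ x ∈ A, x ∈ K → x = 1 := fun x hxA hxK =>
    Subgroup.disjoint_def.mp (Subgroup.disjoint_of_coprime_natCard (ea_coprime hA hKp)) hxA hxK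
  -- the order of `X`
  have hXc : Nat.card X = Nat.card K * Nat.card A := by
    refine Nat.dvd_antisymm ((card_sup_dvd hAK).trans (dvd_of_eq (mul_comm _ _))) ?_
    exact Nat.Coprime.mul_dvd_of_dvd_of_dvd (ea_coprime hA hKp).symm (Subgroup.card_dvd_of_le le_sup_left)
      (Subgroup.card_dvd_of_le le_sup_right)
  obtain ⟨e, k', hk', hKe⟩ := Nat.exists_eq_pow_mul_and_not_dvd (Nat.card_pos (α := K)).ne' q hq.ne_one
  set m := k' * Nat.card A with hm
  have hqA : ¬ q ∣ Nat.card A := fun h => by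
    obtain ⟨i, hi⟩ := IsPGroup.iff_card.mp (isPGroup_ea hA)
    rw [hi] at h
    exact hqp ((Nat.prime_dvd_prime_iff_eq hq (Fact.out : p.Prime)).mp (hq.dvd_of_dvd_pow h))
  have hqm : ¬ q ∣ m := fun h => (hq.dvd_mul.mp h).elim hk' hqA
  have hG : Nat.card X = m * q ^ e := by rw [hXc, hKe, hm]; ring
  have hmn : m.Coprime (q ^ e) := Nat.Coprime.pow_right e ((hq.coprime_iff_not_dvd.mpr hqm).symm)
  obtain ⟨⟨H₀, hH₀⟩, hconj⟩ := hall_main hG hmn
  -- a Hall subgroup containing `A`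
  obtain ⟨g₀, hg₀⟩ := hconj H₀ (A.subgroupOf X) hH₀ (by
    rw [Nat.card_congr (Subgroup.subgroupOfEquivOfLe (le_sup_right : A ≤ X)).toEquiv]
    exact dvd_mul_left _ _)
  set H := MulAut.conj g₀⁻¹ • H₀ with hH
  have hHc : Nat.card H = m := by rw [hH, card_conj_smul, hH₀]
  have hAH : A.subgroupOf X ≤ H := fun x hx => by
    rw [hH, mem_conj_smul_iff, inv_inv]
    exact hg₀ (mem_conj_smul_iff.mpr (by simpa [mul_assoc] using hx))
  have hkey : ∀ U ∈ S, U ≤ H.map X.subtype := by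
    intro U hU
    obtain ⟨hUK, hUq, hUA, hUC⟩ := hS U hU
    have hUX : U ⊔ A ≤ X := sup_le_sup_right hUK _
    obtain ⟨g, hg⟩ := hconj H ((U ⊔ A).subgroupOf X) hHc (by
      rw [Nat.card_congr (Subgroup.subgroupOfEquivOfLe hUX).toEquiv]
      refine (card_sup_dvd hUA).trans ?_
      rw [mul_comm (Nat.card A)]
      refine mul_dvd_mul_right ?_ _
      have h1 := Subgroup.card_dvd_of_le hUK
      rw [hKe] at h1
      exact (Nat.Coprime.pow_right e ((hq.coprime_iff_not_dvd.mpr hUq).symm)).dvd_of_dvd_mul_left h1)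
    -- the two Sylow `p`-subgroups of `H`
    set A₂ := MulAut.conj g • A.subgroupOf X with hA₂
    have hA₂H : A₂ ≤ H := fun x hx => by
      refine hg (mem_conj_smul_iff.mpr ?_)
      exact (le_sup_right : A ≤ U ⊔ A) (mem_conj_smul_iff.mp hx : _)
    have hAc : Nat.card (A.subgroupOf X) = Nat.card A :=
      Nat.card_congr (Subgroup.subgroupOfEquivOfLe (le_sup_right : A ≤ X)).toEquiv
    have hfac : Nat.card A = p ^ (Nat.card H).factorization p := by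
      obtain ⟨i, hi⟩ := IsPGroup.iff_card.mp (isPGroup_ea hA)
      have hk0 : k' ≠ 0 := fun h0 => hk' (h0 ▸ dvd_zero q)
      have hpk : ¬ p ∣ k' := fun h => hKp (hKe ▸ h.mul_left _)
      rw [hHc, hm, hi, Nat.factorization_mul hk0 (pow_ne_zero _ (Fact.out : p.Prime).ne_zero), Finsupp.add_apply,
        Nat.Prime.factorization_pow Fact.out, Finsupp.single_eq_same, Nat.factorization_eq_zero_of_not_dvd hpk,
        zero_add]
    have hc₁ : Nat.card ((A.subgroupOf X).subgroupOf H) = p ^ (Nat.card H).factorization p := by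
      rw [Nat.card_congr (Subgroup.subgroupOfEquivOfLe hAH).toEquiv, hAc, hfac]
    have hc₂ : Nat.card (A₂.subgroupOf H) = p ^ (Nat.card H).factorization p := by
      rw [Nat.card_congr (Subgroup.subgroupOfEquivOfLe hA₂H).toEquiv, hA₂, card_conj_smul, hAc, hfac]
    obtain ⟨h, hh⟩ := MulAction.exists_smul_eq H (Sylow.ofCard (A₂.subgroupOf H) hc₂)
      (Sylow.ofCard ((A.subgroupOf X).subgroupOf H) hc₁)
    set x : X := (h : X) * g with hx
    have hxA : ∀ b ∈ A.subgroupOf X, x * b * x⁻¹ ∈ A.subgroupOf X := by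
      intro b hb
      have h1 : g * b * g⁻¹ ∈ A₂ := by
        rw [hA₂, mem_conj_smul_iff]; simpa [mul_assoc] using hb
      have h2 : h * (⟨g * b * g⁻¹, hA₂H h1⟩ : H) * h⁻¹ ∈
          ((Sylow.ofCard ((A.subgroupOf X).subgroupOf H) hc₁ : Sylow p H) : Subgroup H) := by
        rw [← hh, Sylow.coe_subgroup_smul]
        exact Subgroup.smul_mem_pointwise_smul _ (MulAut.conj h : MulAut H) _
          (show (⟨g * b * g⁻¹, hA₂H h1⟩ : H) ∈ A₂.subgroupOf H from h1)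
      have h3 : (h : X) * (g * b * g⁻¹) * (h : X)⁻¹ ∈ A.subgroupOf X := h2
      simpa [hx, mul_assoc] using h3
    obtain ⟨w, hw, a, ha, hwa⟩ := mem_sup_of_le_normalizer hAK x.2
    -- `w` centralises `A`
    have hwC : w ∈ centralizer (A : Set G) := fun b hb => by
      have hb' : a⁻¹ * b * a ∈ A := mul_mem (mul_mem (inv_mem ha) hb) ha
      have h1 : (x : G) * (a⁻¹ * b * a) * (x : G)⁻¹ ∈ A :=
        hxA ⟨a⁻¹ * b * a, Subgroup.mem_sup_right hb'⟩ hb'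
      rw [← hwa, show w * a * (a⁻¹ * b * a) * (w * a)⁻¹ = w * b * w⁻¹ by group] at h1
      have h2 : w * b * w⁻¹ * b⁻¹ ∈ K := by
        rw [show w * b * w⁻¹ * b⁻¹ = w * (b * w⁻¹ * b⁻¹) by group]
        exact mul_mem hw ((mem_normalizer_iff.mp (hAK hb) _).mp (inv_mem hw))
      have h3 := hdisj _ (mul_mem h1 (inv_mem hb)) h2
      rw [mul_inv_eq_one, mul_inv_eq_iff_eq_mul] at h3
      exact h3.symm
    intro v hv
    have h1 : a⁻¹ * (w⁻¹ * v * w) * a ∈ U :=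
      (mem_normalizer_iff''.mp (hUA ha) _).mp
        ((mem_normalizer_iff''.mp (hUC (Subgroup.mem_inf.mpr ⟨hw, hwC⟩)) v).mp hv)
    have hvX : v ∈ X := Subgroup.mem_sup_left (hUK hv)
    refine ⟨⟨v, hvX⟩, ?_, rfl⟩
    have h2 : x⁻¹ * (⟨v, hvX⟩ : X) * x ∈ (U ⊔ A).subgroupOf X := by
      refine Subgroup.mem_sup_left ?_
      show (x : G)⁻¹ * v * (x : G) ∈ U
      rw [← hwa]
      simpa [mul_assoc] using h1
    have h3 : g * (x⁻¹ * (⟨v, hvX⟩ : X) * x) * g⁻¹ ∈ H :=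
      hg (mem_conj_smul_iff.mpr (by simpa [mul_assoc] using h2))
    have h4 := mul_mem (mul_mem h.2 h3) (inv_mem h.2)
    simpa [hx, mul_assoc] using h4
  have hle : sSup S ≤ H.map X.subtype := sSup_le hkey
  intro hd
  have := hd.trans (Subgroup.card_dvd_of_le hle)
  rw [Subgroup.card_map_of_injective X.subtype_injective, hHc] at this
  exact hqm this

theorem dd_le (hA : IsElementaryAbelian p A) (hθ : IsSolvableSignalizerFunctor p A θ) {a : G} (ha : a ∈ A)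
    (ha1 : a ≠ 1) : DD A θ ≤ θ a :=
  iInf_le (fun x : {x : G // x ∈ A ∧ x ≠ 1} => θ (x : G)) ⟨a, ha, ha1⟩

theorem fixed_le_dd (hA : IsElementaryAbelian p A) (hθ : IsSolvableSignalizerFunctor p A θ) {a : G} (ha : a ∈ A)
    (ha1 : a ≠ 1) : θ a ⊓ centralizer (A : Set G) ≤ DD A θ :=
  fun x hx => Subgroup.mem_iInf.mpr fun b => hθ.1.2.2.2 a ha ha1 b b.2.1 b.2.2
    (Subgroup.mem_inf.mpr ⟨hx.1, Subgroup.mem_centralizer_singleton_iff.mpr (hx.2 b b.2.1).symm⟩)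

set_option maxHeartbeats 800000 in
/-- Completeness by passing to the quotient by a member normalised by every `θ a`. -/
theorem complete_of_normalizes (hA : IsElementaryAbelian p A) (hAc : Nat.card A = p ^ 3)
    (hθ : IsSolvableSignalizerFunctor p A θ)
    (ih : ∀ {G' : Type u} [Group G'] [Finite G'] {A' : Subgroup G'} {θ' : G' → Subgroup G'},
      IsElementaryAbelian p A' → Nat.card A' = p ^ 3 → IsSolvableSignalizerFunctor p A' θ' →
      fsize A' θ' < fsize A θ → ∃ X, Mem p A' θ' X ∧ ∀ a, Pt A' a → θ' a ≤ X)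
    {N : Subgroup G} (hN : Mem p A θ N) (hN1 : N ≠ ⊥)
    (hnorm : ∀ a, Pt A a → θ a ≤ normalizer (N : Set G)) :
    ∃ X, Mem p A θ X ∧ ∀ a, Pt A a → θ a ≤ X := by
  classical
  have hp := (Fact.out : p.Prime)
  have hA2 : p < Nat.card A := by
    rw [hAc]
    calc p = p ^ 1 := (pow_one p).symm
      _ < p ^ 3 := Nat.pow_lt_pow_right hp.one_lt (by norm_num)
  set M := normalizer (N : Set G) with hM
  have hAM : A ≤ M := inv_to_normalizer hN.2.2.1
  set N' : Subgroup M := N.subgroupOf M with hN'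
  haveI : N'.Normal := Subgroup.normal_in_normalizer
  let π : M →* M ⧸ N' := QuotientGroup.mk' N'
  have hker : ∀ x : M, π x = 1 ↔ (x : G) ∈ N := fun x => QuotientGroup.eq_one_iff x
  have hdisj : ∀ x ∈ A, x ∈ N → x = 1 := fun x hxA hxN =>
    Subgroup.disjoint_def.mp (Subgroup.disjoint_of_coprime_natCard (ea_coprime hA hN.2.1)) hxA hxN
  have hπinj : ∀ a b : M, (a : G) ∈ A → (b : G) ∈ A → π a = π b → a = b := by
    intro a b ha hb e
    have h1 : π (a⁻¹ * b) = 1 := by rw [map_mul, map_inv, e, inv_mul_cancel]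
    have h2 := hdisj _ (mul_mem (inv_mem ha) hb) (by simpa using (hker _).mp h1)
    exact Subtype.ext (inv_mul_eq_one.mp h2)
  let A' : Subgroup (M ⧸ N') := (A.subgroupOf M).map π
  let θ' : M ⧸ N' → Subgroup (M ⧸ N') := fun z =>
    ⨆ a : {a : M // (a : G) ∈ A ∧ (a : G) ≠ 1 ∧ π a = z}, ((θ ((a : M) : G)).subgroupOf M).map π
  have hθ'eq : ∀ a : M, (a : G) ∈ A → (a : G) ≠ 1 → θ' (π a) = ((θ (a : G)).subgroupOf M).map π := by
    intro a ha ha1
    refine le_antisymm (iSup_le fun b => ?_) (le_iSup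
      (fun b : {b : M // (b : G) ∈ A ∧ (b : G) ≠ 1 ∧ π b = π a} => ((θ ((b : M) : G)).subgroupOf M).map π)
      ⟨a, ha, ha1, rfl⟩)
    rw [hπinj b a b.2.1 ha b.2.2.2]
  have hlift : ∀ z, Pt A' z → ∃ a : M, (a : G) ∈ A ∧ (a : G) ≠ 1 ∧ π a = z := by
    rintro z ⟨⟨a, ha, rfl⟩, hz⟩
    exact ⟨a, ha, fun e => hz (by rw [show a = 1 from Subtype.ext e, map_one]), rfl⟩
  have hA' : IsElementaryAbelian p A' := by
    refine ⟨⟨⟨?_⟩⟩, ?_⟩
    · rintro ⟨_, a, ha, rfl⟩ ⟨_, b, hb, rfl⟩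
      apply Subtype.ext
      show π a * π b = π b * π a
      rw [← map_mul, ← map_mul, show a * b = b * a from Subtype.ext (ea_comm hA ha hb)]
    · rintro _ ⟨a, ha, rfl⟩
      rw [← map_pow, show a ^ p = 1 from Subtype.ext (by simpa using hA.2 _ ha), map_one]
  have hA'c : Nat.card A' = p ^ 3 := by
    rw [← hAc]
    refine (Nat.card_eq_of_bijective (fun a : A => (⟨π ⟨a, hAM a.2⟩, ⟨⟨a, hAM a.2⟩, a.2, rfl⟩⟩ : A')) ⟨?_, ?_⟩).symm
    · intro a b e
      have h5 := hπinj ⟨a, hAM a.2⟩ ⟨b, hAM b.2⟩ a.2 b.2 (congrArg Subtype.val e)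
      exact Subtype.ext (Subtype.mk.inj h5)
    · rintro ⟨_, a, ha, rfl⟩
      exact ⟨⟨a, ha⟩, rfl⟩
  have hθ' : IsSolvableSignalizerFunctor p A' θ' := by
    refine ⟨⟨?_, ?_, ?_, ?_⟩, ?_⟩
    · intro z hz hz1
      obtain ⟨a, ha, ha1, rfl⟩ := hlift z ⟨hz, hz1⟩
      rw [hθ'eq a ha ha1]
      rintro _ ⟨y, hy, rfl⟩
      refine Subgroup.mem_centralizer_singleton_iff.mpr ?_
      rw [← map_mul, ← map_mul,
        show y * a = a * y from Subtype.ext (Subgroup.mem_centralizer_singleton_iff.mp (hθ.1.1 _ ha ha1 hy))]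
    · intro z hz hz1
      obtain ⟨a, ha, ha1, rfl⟩ := hlift z ⟨hz, hz1⟩
      rw [hθ'eq a ha ha1]
      intro h
      refine hθ.1.2.1 _ ha ha1 ?_
      rw [← Nat.card_congr (Subgroup.subgroupOfEquivOfLe (hnorm _ ⟨ha, ha1⟩)).toEquiv]
      exact h.trans (Subgroup.card_map_dvd _ _)
    · intro z hz hz1
      obtain ⟨a, ha, ha1, rfl⟩ := hlift z ⟨hz, hz1⟩
      rw [hθ'eq a ha ha1]
      rintro _ ⟨b, hb, rfl⟩ _ ⟨y, hy, rfl⟩
      refine ⟨b * y * b⁻¹, hθ.1.2.2.1 _ ha ha1 _ hb _ hy, ?_⟩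
      rw [map_mul, map_mul, map_inv]
    · intro z hz hz1 w hw hw1
      obtain ⟨a, ha, ha1, rfl⟩ := hlift z ⟨hz, hz1⟩
      obtain ⟨b, hb, hb1, rfl⟩ := hlift w ⟨hw, hw1⟩
      rw [hθ'eq a ha ha1, hθ'eq b hb hb1]
      rintro _ ⟨⟨y, hy, rfl⟩, hc⟩
      have hc' : Commute (π y) (π b) := Subgroup.mem_centralizer_singleton_iff.mp hc
      have hbA : Subgroup.zpowers (b : G) ≤ A := Subgroup.zpowers_le.mpr hb
      have hθA := theta_normalized hθ ha ha1
      obtain ⟨c, hc1, hyc⟩ := coprime_fixed_quotient (N := θ (a : G) ⊓ N) (hbA.trans hθA)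
        (ea_coprime (ea_le hA hbA) (hθ.1.2.1 _ ha ha1)) (Or.inl (ea_solvable (ea_le hA hbA))) inf_le_left
        (fun g hg => Comp.mem_normalizer_of_maps fun v hv => Subgroup.mem_inf.mpr
          ⟨mul_mem (mul_mem hg hv.1) (inv_mem hg), (mem_normalizer_iff.mp (hnorm _ ⟨ha, ha1⟩ hg) v).mp hv.2⟩)
        (hbA.trans (inf_normalizes hθA hAM)) hy
        (fun d hd => by
          refine Subgroup.mem_inf.mpr ⟨mul_mem (hθ.1.2.2.1 _ ha ha1 d (hbA hd) _ hy) (inv_mem hy), ?_⟩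
          obtain ⟨i, rfl⟩ := Subgroup.mem_zpowers_iff.mp hd
          have h1 : π (b ^ i * y * (b ^ i)⁻¹ * y⁻¹) = 1 := by
            rw [map_mul, map_mul, map_mul, map_inv, map_inv, map_zpow, ← (hc'.zpow_right i).eq]
            group
          simpa using (hker _).mp h1)
      have hcM : c ∈ M := hnorm _ ⟨ha, ha1⟩ hc1.1
      refine ⟨⟨c, hcM⟩, hθ.1.2.2.2 _ ha ha1 _ hb hb1 (Subgroup.mem_inf.mpr ⟨hc1.1,
        Subgroup.mem_centralizer_singleton_iff.mpr (hc1.2 _ (Subgroup.mem_zpowers _)).symm⟩), ?_⟩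
      have h1 : π (y⁻¹ * ⟨c, hcM⟩) = 1 := (hker _).mpr hyc.2
      rw [map_mul, map_inv, inv_mul_eq_one] at h1
      exact h1.symm
    · intro z hz hz1
      obtain ⟨a, ha, ha1, rfl⟩ := hlift z ⟨hz, hz1⟩
      rw [hθ'eq a ha ha1]
      haveI := hθ.2 _ ha ha1
      haveI : Group.IsSolvable ((θ (a : G)).subgroupOf M) :=
        Group.isSolvable_of_isSolvable_injective
          (f := (Subgroup.subgroupOfEquivOfLe (hnorm _ ⟨ha, ha1⟩)).toMonoidHom)
          (Subgroup.subgroupOfEquivOfLe (hnorm _ ⟨ha, ha1⟩)).injective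
      exact Group.isSolvable_of_surjective (f := π.subgroupMap _) (MonoidHom.subgroupMap_surjective _ _)
  -- it is smaller
  have hlt : fsize A' θ' < fsize A θ := by
    obtain ⟨a, ha, n, hn, hn1⟩ : ∃ a, Pt A a ∧ ∃ n, n ∈ θ a ⊓ N ∧ n ≠ 1 := by
      by_contra h
      push Not at h
      refine hN1 (le_bot_iff.mp (gen_le hA hA2 hN.2.1 hAM fun a ha ha1 x hx => ?_))
      exact Subgroup.mem_bot.mpr (h a ⟨ha, ha1⟩ x (Subgroup.mem_inf.mpr ⟨hN.2.2.2 a ha ha1 hx, hx.1⟩))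
    have hmem : ∀ z : (a : {a : G // Pt A a}) × ↥(θ a),
        π ⟨z.1, hAM z.1.2.1⟩ ∈ A' ∧ π ⟨z.1, hAM z.1.2.1⟩ ≠ 1 := fun z =>
      ⟨⟨⟨z.1, hAM z.1.2.1⟩, z.1.2.1, rfl⟩, fun e => z.1.2.2 (hdisj _ z.1.2.1 ((hker _).mp e))⟩
    let f : ((a : {a : G // Pt A a}) × ↥(θ a)) → ((z : {z : M ⧸ N' // Pt A' z}) × ↥(θ' z)) := fun z =>
      ⟨⟨π ⟨z.1, hAM z.1.2.1⟩, hmem z⟩, ⟨π ⟨z.2, hnorm _ z.1.2 z.2.2⟩,
        (hθ'eq ⟨z.1, hAM z.1.2.1⟩ z.1.2.1 z.1.2.2).ge ⟨_, z.2.2, rfl⟩⟩⟩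
    have hf : Function.Surjective f := by
      rintro ⟨⟨z, hz⟩, ⟨w, hw⟩⟩
      obtain ⟨b, hb, hb1, rfl⟩ := hlift z hz
      rw [hθ'eq b hb hb1] at hw
      obtain ⟨y, hy, rfl⟩ := hw
      exact ⟨⟨⟨b, hb, hb1⟩, ⟨y, hy⟩⟩, rfl⟩
    refine lt_of_le_of_ne (Nat.card_le_card_of_surjective f hf) fun e => hn1 ?_
    have hb := (Nat.bijective_iff_surjective_and_card f).mpr ⟨hf, e.symm⟩
    have h2 : f ⟨⟨a, ha⟩, ⟨n, hn.1⟩⟩ = f ⟨⟨a, ha⟩, ⟨1, one_mem _⟩⟩ := by
      refine Sigma.ext rfl (heq_of_eq (Subtype.ext ?_))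
      show π ⟨n, _⟩ = π ⟨1, _⟩
      rw [(hker ⟨n, hnorm a ha hn.1⟩).mpr hn.2]
      exact ((hker _).mpr (one_mem N)).symm
    obtain ⟨-, e'⟩ := Sigma.mk.inj_iff.mp (hb.1 h2)
    exact congrArg Subtype.val (eq_of_heq e')
  obtain ⟨X', hX', hX'θ⟩ := ih hA' hA'c hθ' hlt
  refine ⟨(X'.comap π).map M.subtype, ⟨?_, ?_, ?_, ?_⟩, ?_⟩
  · haveI := hX'.1
    haveI := hN.1
    haveI : Group.IsSolvable N' := Group.isSolvable_of_isSolvable_injective
      (f := (Subgroup.subgroupOfEquivOfLe (Subgroup.le_normalizer : N ≤ M)).toMonoidHom)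
      (Subgroup.subgroupOfEquivOfLe (Subgroup.le_normalizer : N ≤ M)).injective
    haveI : Group.IsSolvable (X'.comap π) := by
      refine Group.isSolvable_of_ker_le_range
        (Subgroup.inclusion (show N' ≤ X'.comap π from fun x hx => by
          rw [Subgroup.mem_comap, (hker x).mpr hx]; exact one_mem _))
        (π.subgroupComap X') ?_
      rintro ⟨x, hx⟩ hx'
      exact ⟨⟨x, (hker x).mp (congrArg Subtype.val hx')⟩, rfl⟩
    exact Group.isSolvable_of_surjective (f := M.subtype.subgroupMap _) (MonoidHom.subgroupMap_surjective _ _)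
  · rw [Subgroup.card_map_of_injective M.subtype_injective, card_comap_mk,
      Nat.card_congr (Subgroup.subgroupOfEquivOfLe (Subgroup.le_normalizer : N ≤ M)).toEquiv]
    exact fun h => (hp.dvd_mul.mp h).elim hN.2.1 hX'.2.1
  · rintro b hb _ ⟨x, hx, rfl⟩
    refine ⟨⟨b, hAM hb⟩ * x * ⟨b, hAM hb⟩⁻¹, ?_, rfl⟩
    show π _ ∈ X'
    rw [map_mul, map_mul, map_inv]
    exact hX'.2.2.1 _ ⟨⟨b, hAM hb⟩, hb, rfl⟩ _ hx
  · rintro a ha ha1 _ ⟨⟨x, hx, rfl⟩, hxa⟩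
    have hxa' := Subgroup.mem_centralizer_singleton_iff.mp hxa
    have hπa : π ⟨a, hAM ha⟩ ≠ 1 := fun e => ha1 (hdisj _ ha ((hker _).mp e))
    have h1 : π x ∈ X' ⊓ centralizer {π ⟨a, hAM ha⟩} := by
      refine Subgroup.mem_inf.mpr ⟨hx, Subgroup.mem_centralizer_singleton_iff.mpr ?_⟩
      rw [← map_mul, ← map_mul, show x * ⟨a, hAM ha⟩ = ⟨a, hAM ha⟩ * x from Subtype.ext hxa']
    have h2 := hX'.2.2.2 _ ⟨⟨a, hAM ha⟩, ha, rfl⟩ hπa h1
    rw [hθ'eq ⟨a, hAM ha⟩ ha ha1] at h2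
    obtain ⟨y, hy, hyx⟩ := h2
    have h3 : π (y⁻¹ * x) = 1 := by rw [map_mul, map_inv, hyx, inv_mul_cancel]
    have h4 : (y : G)⁻¹ * x ∈ N ⊓ centralizer {a} := by
      refine Subgroup.mem_inf.mpr ⟨by simpa using (hker _).mp h3, ?_⟩
      exact mul_mem (inv_mem (hθ.1.1 a ha ha1 hy)) hxa
    have h5 : (y : G) * ((y : G)⁻¹ * x) ∈ θ a := mul_mem (show (y : G) ∈ θ a from hy) (hN.2.2.2 a ha ha1 h4)
    simpa using h5
  · intro a ha y hy
    refine ⟨⟨y, hnorm a ha hy⟩, ?_, rfl⟩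
    refine hX'θ _ ⟨⟨⟨a, hAM ha.1⟩, ha.1, rfl⟩, fun e => ha.2 (hdisj _ ha.1 ((hker _).mp e))⟩ ?_
    rw [hθ'eq ⟨a, hAM ha.1⟩ ha.1 ha.2]
    exact ⟨⟨y, hnorm a ha hy⟩, hy, rfl⟩

set_option maxHeartbeats 800000 in
/-- The rank three case, by induction on the size. -/
theorem complete_rank3 (hno : NoCtx.{u}) (n : ℕ) :
    ∀ {G : Type u} [Group G] [Finite G] {A : Subgroup G} {θ : G → Subgroup G},
      IsElementaryAbelian p A → Nat.card A = p ^ 3 → IsSolvableSignalizerFunctor p A θ → fsize A θ = n →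
      ∃ X, Mem p A θ X ∧ ∀ a, Pt A a → θ a ≤ X := by
  induction n using Nat.strong_induction_on with
  | _ n IH =>
  intro G _ _ A θ hA hAc hθ hn
  classical
  subst hn
  by_contra hcon
  have hp := (Fact.out : p.Prime)
  have hA2 : p < Nat.card A := by
    rw [hAc]
    calc p = p ^ 1 := (pow_one p).symm
      _ < p ^ 3 := Nat.pow_lt_pow_right hp.one_lt (by norm_num)
  have hA1 : A ≠ ⊥ := ea_ne_bot (p := p) hAc.ge
  have hDA : DD A θ ≤ centralizer (A : Set G) := inf_theta_centralizes hA hθ hA1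
  refine hno (p := p) (A := A) (θ := θ) ⟨hA, hAc, hθ, hcon, ?_, ?_, ?_⟩
  · -- maximal members over a normalised member
    intro N hN hN1
    let ψ : G → Subgroup G := fun a => θ a ⊓ normalizer (N : Set G)
    by_cases hall : ∀ a, Pt A a → θ a ≤ normalizer (N : Set G)
    · exact absurd (complete_of_normalizes hA hAc hθ
        (fun h1 h2 h3 h4 => IH _ h4 h1 h2 h3 rfl) hN hN1 hall) hcon
    push Not at hall
    obtain ⟨a₀, ha₀, hna⟩ := hall
    have hle : ∀ a ∈ A, a ≠ 1 → ψ a ≤ θ a := fun a _ _ => inf_le_left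
    have hψ : IsSolvableSignalizerFunctor p A ψ := functor_sub hθ hle
      (fun a ha ha1 => inf_normalizes (theta_normalized hθ ha ha1) fun g hg =>
        Subgroup.le_normalizer (inv_to_normalizer hN.2.2.1 hg))
      (fun a ha ha1 b hb hb1 => le_inf
        ((inf_le_inf_right _ inf_le_left).trans (hθ.1.2.2.2 a ha ha1 b hb hb1))
        (inf_le_left.trans inf_le_right))
    obtain ⟨X, hX, hXψ⟩ := IH _ (fsize_lt (fun a _ => inf_le_left)
      ⟨a₀, ha₀, fun e => hna (inf_eq_left.mp e)⟩) hA hAc hψ rfl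
    refine ⟨X, mem_of_sub hle hX, fun Y hY hYN => gen_le hA hA2 hY.2.1 (mem_normalizes hY) fun a ha ha1 => ?_⟩
    exact le_trans (le_inf (hY.2.2.2 a ha ha1) (inf_le_left.trans hYN)) (hXψ a ⟨ha, ha1⟩)
  · -- omitting a prime
    intro q hq
    obtain ⟨hqp, a₀, ha₀, hqd⟩ := hq
    have hqne : q ≠ p := fun e => hθ.1.2.1 a₀ ha₀.1 ha₀.2 (e ▸ hqd)
    let S : G → Set (Subgroup G) := fun a => {U | U ≤ θ a ∧ ¬ q ∣ Nat.card U ∧
      A ≤ normalizer (U : Set G) ∧ DD A θ ≤ normalizer (U : Set G)}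
    let ψ : G → Subgroup G := fun a => sSup (S a)
    have hle : ∀ a ∈ A, a ≠ 1 → ψ a ≤ θ a := fun a _ _ => sSup_le fun U hU => hU.1
    have hψq : ∀ a ∈ A, a ≠ 1 → ¬ q ∣ Nat.card (ψ a) := fun a ha ha1 =>
      join_qPrime hA (hθ.1.2.1 a ha ha1) (hθ.2 a ha ha1) (theta_normalized hθ ha ha1) hqp hqne
        fun U hU => ⟨hU.1, hU.2.1, hU.2.2.1, (fixed_le_dd hA hθ ha ha1).trans hU.2.2.2⟩
    have hψA : ∀ a, A ≤ normalizer (ψ a : Set G) := fun a => le_normalizer_sSup fun U hU => hU.2.2.1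
    have hψD : ∀ a, DD A θ ≤ normalizer (ψ a : Set G) := fun a => le_normalizer_sSup fun U hU => hU.2.2.2
    have hDC : ∀ b ∈ A, DD A θ ≤ normalizer ((centralizer ({b} : Set G) : Subgroup G) : Set G) :=
      fun b hb x hx => Subgroup.le_normalizer (Subgroup.mem_centralizer_singleton_iff.mpr (hDA hx b hb).symm)
    have hψ : IsSolvableSignalizerFunctor p A ψ := functor_sub hθ hle (fun a _ _ => hψA a)
      (fun a ha ha1 b hb hb1 => le_sSup
        ⟨(inf_le_inf_right _ (hle a ha ha1)).trans (hθ.1.2.2.2 a ha ha1 b hb hb1),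
          fun h => hψq a ha ha1 (h.trans (Subgroup.card_dvd_of_le inf_le_left)),
          inf_normalizes (hψA a) (centralizer_singleton_normalizes hA hb),
          inf_normalizes (hψD a) (hDC b hb)⟩)
    obtain ⟨X, hX, hXψ⟩ := IH _ (fsize_lt (fun a ha => hle a ha.1 ha.2)
      ⟨a₀, ha₀, fun e => hψq a₀ ha₀.1 ha₀.2 (e ▸ hqd)⟩) hA hAc hψ rfl
    have hXθ := mem_of_sub hle hX
    have hXeq : X = sSup (ψ '' {a | Pt A a}) := by
      refine le_antisymm (gen_le hA hA2 hX.2.1 (mem_normalizes hX) fun a ha ha1 =>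
        (hX.2.2.2 a ha ha1).trans (le_sSup ⟨a, ⟨ha, ha1⟩, rfl⟩)) (sSup_le ?_)
      rintro _ ⟨a, ha, rfl⟩
      exact hXψ a ha
    have hXD : DD A θ ≤ normalizer (X : Set G) := by
      rw [hXeq]
      refine le_normalizer_sSup ?_
      rintro _ ⟨a, -, rfl⟩
      exact hψD a
    have hDmem : Mem p A θ (DD A θ) := inf_mem_family hA hθ le_rfl hA1
    have hXD' : Mem p A θ (X ⊔ DD A θ) := sup_mem hA hθ hXθ hDmem hXD
    obtain ⟨M, ⟨hM, hMX⟩, hMmax⟩ := (Set.toFinite {M : Subgroup G | Mem p A θ M ∧ X ⊔ DD A θ ≤ M}).exists_maximal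
      ⟨_, hXD', le_rfl⟩
    refine ⟨M, ⟨hM, le_sup_right.trans hMX, fun Y hY hMY => le_antisymm (hMmax ⟨hY, hMX.trans hMY⟩ hMY) hMY⟩,
      fun r hr hrq => le_trans (sSup_le ?_) (le_sup_left.trans hMX)⟩
    rintro U ⟨hU, hUr, hUD⟩
    refine gen_le hA hA2 hU.2.1 (mem_normalizes hU) fun a ha ha1 => le_trans (le_sSup ?_) (hXψ a ⟨ha, ha1⟩)
    refine ⟨hU.2.2.2 a ha ha1, fun h => ?_, inf_normalizes (mem_normalizes hU) (centralizer_singleton_normalizes hA ha),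
      inf_normalizes hUD (hDC a ha)⟩
    haveI := Fact.mk hr
    obtain ⟨i, hi⟩ := IsPGroup.iff_card.mp hUr
    have h1 := h.trans (Subgroup.card_dvd_of_le inf_le_left)
    rw [hi] at h1
    exact hrq ((Nat.prime_dvd_prime_iff_eq hqp hr).mp (hqp.dvd_of_dvd_pow h1)).symm
  · -- two primes
    by_contra h2
    push Not at h2
    obtain ⟨q, hq, hqall⟩ : ∃ q : ℕ, q.Prime ∧ ∀ r, Pr A θ r → r = q := by
      by_cases h : ∃ q, Pr A θ q
      · obtain ⟨q, hq⟩ := h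
        exact ⟨q, hq.1, fun r hr => (h2 q r hq hr).symm⟩
      · exact ⟨2, Nat.prime_two, fun r hr => absurd ⟨r, hr⟩ h⟩
    haveI := Fact.mk hq
    have hθq : ∀ a, Pt A a → IsPGroup q (θ a) := fun a ha => by
      refine IsPGroup.iff_card.mpr ⟨(Nat.card (θ a)).primeFactorsList.length, ?_⟩
      exact Nat.eq_prime_pow_of_unique_prime_dvd Nat.card_pos.ne'
        fun {d} hd hdd => hqall d ⟨hd, a, ha, hdd⟩
    obtain ⟨Q, hQ, -⟩ := exists_maxQ (q := q)
      (family_sub hθ (inf_mem_family hA hθ le_rfl hA1) bot_le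
        (inv_to_normalizer fun b _ u hu => by rw [Subgroup.mem_bot] at hu ⊢; simp [hu]))
      IsPGroup.of_bot
    refine hcon ⟨Q, hQ.1, fun a ha x hx => ?_⟩
    obtain ⟨Q', hQ', hle⟩ := exists_maxQ (theta_mem hθ ha.1 ha.2) (hθq a ha)
    obtain ⟨c, hc, e⟩ := transitivity hA hAc.ge hθ Q Q' hQ hQ'
    have hcθ : c ∈ θ a := dd_le hA hθ ha.1 ha.2 hc
    have h1 := hle (show c * x * c⁻¹ ∈ θ a from mul_mem (mul_mem hcθ hx) (inv_mem hcθ))
    rw [← e] at h1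
    obtain ⟨y, hy, ey⟩ := h1
    exact (MulAut.conj c).injective ey ▸ hy

/-- Without minimal counterexamples every solvable functor is complete. -/
theorem complete_of_noCtx (hno : NoCtx.{u}) (hA : IsElementaryAbelian p A) (hA3 : p ^ 3 ≤ Nat.card A)
    (hθ : IsSolvableSignalizerFunctor p A θ) :
    ∃ X, Mem p A θ X ∧ ∀ a ∈ A, a ≠ 1 → θ a ≤ X := by
  have hp := (Fact.out : p.Prime)
  obtain ⟨i, hi⟩ := IsPGroup.iff_card.mp (isPGroup_ea hA)
  have h3i : 3 ≤ i := (Nat.pow_le_pow_iff_right hp.one_lt).mp (hi ▸ hA3)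
  obtain ⟨B₀, hB₀⟩ := Sylow.exists_subgroup_card_pow_prime (G := A) p (n := 3) (hi ▸ pow_dvd_pow p h3i)
  set B := B₀.map A.subtype with hB
  have hBA : B ≤ A := Subgroup.map_subtype_le _
  have hBc : Nat.card B = p ^ 3 := by rw [hB, Subgroup.card_map_of_injective A.subtype_injective, hB₀]
  have hBe := ea_le hA hBA
  have hB2 : p < Nat.card B := by
    rw [hBc]
    calc p = p ^ 1 := (pow_one p).symm
      _ < p ^ 3 := Nat.pow_lt_pow_right hp.one_lt (by norm_num)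
  have hθB : IsSolvableSignalizerFunctor p B θ :=
    ⟨⟨fun a ha => hθ.1.1 a (hBA ha), fun a ha => hθ.1.2.1 a (hBA ha),
      fun a ha h1 b hb => hθ.1.2.2.1 a (hBA ha) h1 b (hBA hb),
      fun a ha h1 b hb => hθ.1.2.2.2 a (hBA ha) h1 b (hBA hb)⟩, fun a ha => hθ.2 a (hBA ha)⟩
  obtain ⟨X, hX, hXθ⟩ := complete_rank3 hno _ hBe hBc hθB rfl
  have hXeq : X = sSup (θ '' {b | Pt B b}) := by
    refine le_antisymm (gen_le hBe hB2 hX.2.1 (mem_normalizes hX) fun a ha ha1 =>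
      (hX.2.2.2 a ha ha1).trans (le_sSup ⟨a, ⟨ha, ha1⟩, rfl⟩)) (sSup_le ?_)
    rintro _ ⟨a, ha, rfl⟩
    exact hXθ a ha
  have hXA : A ≤ normalizer (X : Set G) := by
    rw [hXeq]
    refine le_normalizer_sSup ?_
    rintro _ ⟨b, hb, rfl⟩
    exact theta_normalized hθ (hBA hb.1) hb.2
  refine ⟨X, ⟨hX.1, hX.2.1, inv_of_normalizer hXA, fun a ha ha1 => ?_⟩, fun a ha ha1 => ?_⟩
  · refine gen_le hBe hB2 (fun h => hX.2.1 (h.trans (Subgroup.card_dvd_of_le inf_le_left)))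
      (hBA.trans (inf_normalizes hXA (centralizer_singleton_normalizes hA ha))) fun b hb hb1 => ?_
    intro x hx
    have hxb : x ∈ θ b := hX.2.2.2 b hb hb1 (Subgroup.mem_inf.mpr ⟨hx.1.1, hx.2⟩)
    exact hθ.1.2.2.2 b (hBA hb) hb1 a ha ha1 (Subgroup.mem_inf.mpr ⟨hxb, hx.1.2⟩)
  · refine gen_le hBe hB2 (hθ.1.2.1 a ha ha1) (hBA.trans (theta_normalized hθ ha ha1)) fun b hb hb1 => ?_
    exact (hθ.1.2.2.2 a ha ha1 b (hBA hb) hb1).trans (hXθ b ⟨hb, hb1⟩)

end CfsgLib.SolvSF
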