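import Cfsg.Agent.Lib.SolvSF.Setup

/-! Comparison of the cores of two maximal members. -/

set_option autoImplicit false
set_option linter.unusedSectionVars false

namespace CfsgLib.SolvSF

open Cfsg Subgroup CfsgLib.Signalizer

universe u
variable {G : Type u} [Group G] [Finite G] {p : ℕ} [Fact p.Prime] {A : Subgroup G} {θ : G → Subgroup G}

/-- What centralises every core of `L` is a product of a `u'`-element and an element of `O_u(L)`. -/
theorem decompose {u : ℕ} [Fact u.Prime] {L : Subgroup G} (hL : Group.IsSolvable ↥L) {c : G} (hcL : c ∈ L)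
    (hc : ∀ r : ℕ, r.Prime → c ∈ centralizer (O r L : Set G)) :
    ∃ n ∈ ⨆ r : {r : Nat.Primes // (r : ℕ) ≠ u}, O ((r : Nat.Primes) : ℕ) L, ∃ o ∈ O u L,
      c = n * o ∧ n * o = o * n := by
  haveI := hL
  set N := ⨆ r : {r : Nat.Primes // (r : ℕ) ≠ u}, O ((r : Nat.Primes) : ℕ) L with hN
  have h1 : (⟨c, hcL⟩ : ↥L) ∈ fittingSubgroup ↥L := by
    refine centralizer_fitting_le ?_
    have h2 : fittingSubgroup ↥L ≤ centralizer ({⟨c, hcL⟩} : Set ↥L) := by
      rw [fittingSubgroup_eq_iSup_pCore]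
      refine iSup_le fun r y hy => Subgroup.mem_centralizer_singleton_iff.mpr ?_
      exact Subtype.ext (Subgroup.mem_centralizer_iff.mp (hc r r.2) _ ⟨y, hy, rfl⟩)
    exact mem_centralizer_of fun y hy => Subgroup.mem_centralizer_singleton_iff.mp (h2 hy)
  have hcomm : O u L ≤ centralizer (N : Set G) := by
    rw [Subgroup.le_centralizer_iff, hN]
    refine iSup_le fun r => ?_
    haveI := Fact.mk r.1.2
    exact commute_of_normalize (O_coprime r.2) (O_le.trans O_normal) (O_le.trans O_normal)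
  have h3 : c ∈ N ⊔ O u L := by
    have h4 : (fittingSubgroup ↥L).map L.subtype ≤ N ⊔ O u L := by
      rw [fittingSubgroup_eq_iSup_pCore, Subgroup.map_iSup]
      refine iSup_le fun r => ?_
      by_cases hr : (r : ℕ) = u
      · exact le_sup_of_le_right (show O (r : ℕ) L ≤ O u L by rw [hr])
      · exact le_sup_of_le_left (le_iSup (fun r : {r : Nat.Primes // (r : ℕ) ≠ u} => O ((r : Nat.Primes) : ℕ) L)
          ⟨r, hr⟩)
    exact h4 ⟨_, h1, rfl⟩
  obtain ⟨n, hn, o, ho, rfl⟩ :=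
    mem_sup_of_le_normalizer (hcomm.trans (Subgroup.centralizer_le_normalizer _)) h3
  exact ⟨n, hn, o, ho, rfl, Subgroup.mem_centralizer_iff.mp (hcomm ho) n hn⟩

theorem not_dvd_iSup_O {u : ℕ} [Fact u.Prime] {L : Subgroup G} :
    ¬ u ∣ Nat.card ↥(⨆ r : {r : Nat.Primes // (r : ℕ) ≠ u}, O ((r : Nat.Primes) : ℕ) L) := by
  intro hd
  have hle : (⨆ r : {r : Nat.Primes // (r : ℕ) ≠ u}, O ((r : Nat.Primes) : ℕ) L) ≤ (pPrimeCore u ↥L).map L.subtype :=
    iSup_le fun r => Subgroup.map_mono (pCore_le_pPrimeCore_of_ne (Fact.out : u.Prime) r.1.2 (Ne.symm r.2))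
  have := hd.trans (Subgroup.card_dvd_of_le hle)
  rw [Subgroup.card_map_of_injective L.subtype_injective] at this
  exact not_dvd_card_pPrimeCore (Fact.out : u.Prime) this

theorem bot_centralizes {r : ℕ} {L X : Subgroup G} (hr : O r L = ⊥) : X ≤ centralizer (O r L : Set G) := by
  intro x _
  rw [hr]
  exact mem_centralizer_of fun z hz => by rw [Subgroup.mem_bot.mp hz, one_mul, mul_one]

theorem centralizer_conj {X : Subgroup G} {g x : G} (hg : g ∈ normalizer (X : Set G))
    (hx : x ∈ centralizer (X : Set G)) : g * x * g⁻¹ ∈ centralizer (X : Set G) :=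
  mem_centralizer_of fun y hy => by
    have h1 := Subgroup.mem_centralizer_iff.mp hx (g⁻¹ * y * g) ((Subgroup.mem_normalizer_iff''.mp hg y).mp hy)
    calc y * (g * x * g⁻¹) = g * (g⁻¹ * y * g * x) * g⁻¹ := by group
      _ = g * (x * (g⁻¹ * y * g)) * g⁻¹ := by rw [h1]
      _ = g * x * g⁻¹ * y := by group

theorem coprime_mul_zero {a b : G} {m : ℕ} (hab : a ^ m = b ^ m) (hcop : (orderOf a).Coprime (orderOf b))
    (hm : (orderOf a).Coprime m) : a = 1 := by
  have h1 : orderOf (a ^ m) = 1 := Nat.eq_one_of_dvd_coprimes hcop (orderOf_pow_dvd m)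
    (hab ▸ orderOf_pow_dvd m)
  have h2 : a ^ m = 1 := orderOf_eq_one_iff.mp h1
  exact orderOf_eq_one_iff.mp (Nat.eq_one_of_dvd_coprimes hm dvd_rfl (orderOf_dvd_of_pow_eq_one h2))

/-- The key step of `F2`. -/
theorem core_le_core (h : Ctx p A θ) {M L : Subgroup G} (hM : MM p A θ M) (hL : MM p A θ L)
    (hML : ∀ r : ℕ, r.Prime → O r M ≤ L) (hπ : ∀ r : ℕ, r.Prime → (O r M = ⊥ ↔ O r L = ⊥))
    {u v : ℕ} [Fact u.Prime] [Fact v.Prime] (huv : u ≠ v) (hvM : O v M ≠ ⊥) : O u M ≤ O u L := by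
  have hcen : ∀ t r : ℕ, t.Prime → r.Prime → r ≠ t → O t M ≤ centralizer (O r L : Set G) := by
    intro t r ht hr hrt
    haveI := Fact.mk ht
    haveI := Fact.mk hr
    by_cases hrM : O r M = ⊥
    · exact bot_centralizes ((hπ r hr).mp hrM)
    · exact core_centralizes h hrt hM hL hrM (hML r hr) (hML t ht)
  set C : Subgroup G := L ⊓ ⨅ r : {r : Nat.Primes // (r : ℕ) ≠ u}, centralizer (O ((r : Nat.Primes) : ℕ) L : Set G)
    with hC
  set E : Subgroup G := Subgroup.closure {g : G | g ∈ C ∧ ∃ k : ℕ, g ^ u ^ k = 1} with hE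
  have hCL : ∀ g ∈ L, ∀ x ∈ C, g * x * g⁻¹ ∈ C := fun g hg x hx => Subgroup.mem_inf.mpr
    ⟨mul_mem (mul_mem hg hx.1) (inv_mem hg), Subgroup.mem_iInf.mpr fun r =>
      centralizer_conj (O_normal hg) (Subgroup.mem_iInf.mp hx.2 r)⟩
  have hEL : E ≤ L := (Subgroup.closure_le _).mpr fun g hg => hg.1.1
  have hLE : L ≤ normalizer (E : Set G) := fun g hg => Comp.mem_normalizer_of_maps (by
    have hle : E ≤ E.comap (MulAut.conj g).toMonoidHom := (Subgroup.closure_le _).mpr (by
      rintro x ⟨hx, k, hk⟩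
      exact Subgroup.subset_closure ⟨hCL g hg x hx, k, by rw [← map_pow, hk, map_one]⟩)
    exact fun x hx => hle hx)
  set X := L ⊓ centralizer (O v M : Set G) with hX
  have hXM : X ≤ M := by
    refine le_of_normalizes_O h hM hvM (family_sub h.hθ hL.1 inf_le_left (inf_normalizes (mem_normalizes hL.1) ?_))
      (inf_le_right.trans (Subgroup.centralizer_le_normalizer _))
    exact fun g hg => Comp.mem_normalizer_of_maps fun x hx =>
      centralizer_conj (mem_normalizes (O_mem h hM.1) hg) hx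
  have hgen : ∀ g, g ∈ C → (∃ k : ℕ, g ^ u ^ k = 1) → g ∈ X := by
    rintro g hgC ⟨k, hk⟩
    refine Subgroup.mem_inf.mpr ⟨hgC.1, mem_centralizer_of fun y hy => ?_⟩
    have hyL : y ∈ L := hML v Fact.out hy
    have hyu : y ∈ centralizer (O u L : Set G) := hcen v u Fact.out Fact.out huv hy
    set c := y * g * y⁻¹ * g⁻¹ with hc
    have hcC : c ∈ C := mul_mem (hCL y hyL g hgC) (inv_mem hgC)
    have hcall : ∀ r : ℕ, r.Prime → c ∈ centralizer (O r L : Set G) := by
      intro r hr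
      by_cases hru : r = u
      · subst hru
        refine mem_centralizer_of fun z hz => ?_
        have hz' : g⁻¹ * z * g ∈ O r L := (Subgroup.mem_normalizer_iff''.mp (O_normal hgC.1) z).mp hz
        have e1 := Subgroup.mem_centralizer_iff.mp hyu z hz
        have e2 := Subgroup.mem_centralizer_iff.mp hyu _ hz'
        calc z * c = z * y * g * y⁻¹ * g⁻¹ := by simp [hc, mul_assoc]
          _ = y * g * (g⁻¹ * z * g) * y⁻¹ * g⁻¹ := by rw [e1]; group
          _ = y * g * y⁻¹ * (y * (g⁻¹ * z * g)) * y⁻¹ * g⁻¹ := by group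
          _ = y * g * y⁻¹ * (g⁻¹ * z * g * y) * y⁻¹ * g⁻¹ := by rw [e2]
          _ = c * z := by rw [hc]; group
      · exact Subgroup.mem_iInf.mp hcC.2 ⟨⟨r, hr⟩, hru⟩
    obtain ⟨n, hn, o, ho, hcno, hno⟩ := decompose (u := u) hL.1.1 hcC.1 hcall
    have hnN : ¬ u ∣ orderOf n := fun hd => not_dvd_iSup_O (hd.trans (Subgroup.orderOf_dvd_natCard _ hn))
    have hyo : o * y = y * o := Subgroup.mem_centralizer_iff.mp hyu o ho
    obtain ⟨i, hi⟩ := IsPGroup.iff_orderOf.mp (O_isPGroup (q := v) (K := M)) ⟨y, hy⟩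
    rw [Subgroup.orderOf_mk] at hi
    obtain ⟨j, hj⟩ := IsPGroup.iff_orderOf.mp (O_isPGroup (q := u) (K := L)) ⟨o, ho⟩
    rw [Subgroup.orderOf_mk] at hj
    -- the `u`-part of `c` is trivial
    have hw : ¬ u ∣ orderOf (n⁻¹ * y) := by
      intro hd
      set N := ⨆ r : {r : Nat.Primes // (r : ℕ) ≠ u}, O ((r : Nat.Primes) : ℕ) L with hN
      have hyN : Subgroup.zpowers y ≤ normalizer (N : Set G) := by
        rw [Subgroup.zpowers_le]
        refine Comp.mem_normalizer_of_maps ?_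
        have hle : N ≤ N.comap (MulAut.conj y).toMonoidHom := iSup_le fun r x hx =>
          Subgroup.mem_iSup_of_mem r ((Subgroup.mem_normalizer_iff.mp (O_normal hyL) x).mp hx)
        exact fun x hx => hle hx
      have hmem : n⁻¹ * y ∈ N ⊔ Subgroup.zpowers y := Subgroup.mul_mem_sup (inv_mem hn) (Subgroup.mem_zpowers y)
      have h1 := hd.trans ((Subgroup.orderOf_dvd_natCard _ hmem).trans (card_sup_dvd hyN))
      rcases (Fact.out : u.Prime).dvd_mul.mp h1 with h2 | h2
      · rw [Nat.card_zpowers, hi] at h2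
        exact huv ((Nat.prime_dvd_prime_iff_eq Fact.out Fact.out).mp ((Fact.out : u.Prime).dvd_of_dvd_pow h2))
      · exact not_dvd_iSup_O h2
    have hcw : g * y * g⁻¹ = o⁻¹ * (n⁻¹ * y) := by
      have e : g * y * g⁻¹ = c⁻¹ * y := by rw [hc]; group
      rw [e, hcno, mul_inv_rev, mul_assoc]
    have how : Commute o (n⁻¹ * y) := ((show Commute o n from hno.symm).inv_right).mul_right hyo
    have ho1 : o = 1 := by
      have h1 : (o⁻¹ * (n⁻¹ * y)) ^ v ^ i = 1 := by
        rw [← hcw, conj_pow, ← hi, pow_orderOf_eq_one, mul_one, mul_inv_cancel]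
      rw [how.inv_left.mul_pow, inv_pow, inv_mul_eq_one] at h1
      refine coprime_mul_zero h1 ?_ ?_
      · rw [hj]; exact Nat.Coprime.pow_left j ((Fact.out : u.Prime).coprime_iff_not_dvd.mpr hw)
      · rw [hj]; exact Nat.coprime_pow_primes j i Fact.out Fact.out huv
    rw [ho1, mul_one] at hcno
    -- hence `c` commutes with `g` and is trivial
    have hgc : Commute g c := by
      have hle : (⨆ r : {r : Nat.Primes // (r : ℕ) ≠ u}, O ((r : Nat.Primes) : ℕ) L) ≤ centralizer ({g} : Set G) :=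
        iSup_le fun r x hx => Subgroup.mem_centralizer_singleton_iff.mpr
          (Subgroup.mem_centralizer_iff.mp (Subgroup.mem_iInf.mp hgC.2 r) x hx)
      rw [hcno]
      exact (Subgroup.mem_centralizer_singleton_iff.mp (hle hn)).symm
    have hiter : ∀ m : ℕ, g ^ m * y = (c⁻¹) ^ m * y * g ^ m := by
      intro m
      induction m with
      | zero => simp
      | succ m ih =>
        have e1 : g * y = c⁻¹ * y * g := by rw [hc]; group
        have e2 : g * (c⁻¹) ^ m = (c⁻¹) ^ m * g := (hgc.inv_right.pow_right m).eq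
        calc g ^ (m + 1) * y = g * (g ^ m * y) := by rw [pow_succ', mul_assoc]
          _ = g * (c⁻¹) ^ m * y * g ^ m := by rw [ih]; simp only [mul_assoc]
          _ = (c⁻¹) ^ m * (g * y) * g ^ m := by rw [e2]; simp only [mul_assoc]
          _ = (c⁻¹) ^ (m + 1) * y * g ^ (m + 1) := by rw [e1, pow_succ, pow_succ']; simp only [mul_assoc]
    have h2 := hiter (u ^ k)
    rw [hk, one_mul, mul_one, inv_pow, eq_comm, mul_eq_right, inv_eq_one] at h2
    have hc1 : c = 1 := orderOf_eq_one_iff.mp (Nat.eq_one_of_dvd_coprimes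
      (Nat.Coprime.pow_left k ((Fact.out : u.Prime).coprime_iff_not_dvd.mpr hnN))
      (orderOf_dvd_of_pow_eq_one h2) (hcno ▸ dvd_rfl))
    rw [hc, mul_inv_eq_one, mul_inv_eq_iff_eq_mul] at hc1
    exact hc1
  have hEM : E ≤ M := ((Subgroup.closure_le _).mpr fun g hg => hgen g hg.1 hg.2).trans hXM
  have hOE : O u M ≤ E := by
    intro x hx
    obtain ⟨i, hi⟩ := IsPGroup.iff_orderOf.mp (O_isPGroup (q := u) (K := M)) ⟨x, hx⟩
    rw [Subgroup.orderOf_mk] at hi
    exact Subgroup.subset_closure ⟨Subgroup.mem_inf.mpr ⟨hML u Fact.out hx, Subgroup.mem_iInf.mpr fun r =>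
      hcen u r Fact.out r.1.2 r.2 hx⟩, i, hi ▸ pow_orderOf_eq_one x⟩
  exact (le_O hOE O_isPGroup (hEM.trans O_normal)).trans
    (le_O (O_le.trans hEL) O_isPGroup (pCore_normalizes hLE))

theorem primes_of_mutual (h : Ctx p A θ) {M L : Subgroup G} (hL : MM p A θ L)
    (hM : MM p A θ M) (hML : ∀ r : ℕ, r.Prime → O r M ≤ L) (hLM : ∀ r : ℕ, r.Prime → O r L ≤ M)
    {r : ℕ} (hr : r.Prime) (he : O r M = ⊥) : O r L = ⊥ := by
  haveI := Fact.mk hr
  refine eq_bot_of_centralizes h hM.1 (hLM r hr) O_isPGroup he fun t ht htr => ?_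
  haveI := Fact.mk ht
  exact commute_of_normalize (O_coprime (q := r) (r := t) (Ne.symm htr)) ((hLM r hr).trans O_normal)
    ((hML t ht).trans O_normal)

/-- Mutual inclusion of the cores forces the same primes. -/
theorem cores_primes_eq (h : Ctx p A θ) {M L : Subgroup G} (hM : MM p A θ M) (hL : MM p A θ L)
    (hML : ∀ r : ℕ, r.Prime → O r M ≤ L) (hLM : ∀ r : ℕ, r.Prime → O r L ≤ M) {r : ℕ} (hr : r.Prime) :
    O r M = ⊥ ↔ O r L = ⊥ := ⟨primes_of_mutual h hL hM hML hLM hr, primes_of_mutual h hM hL hLM hML hr⟩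

/-- Two maximal members with several cores and mutual inclusion are equal. -/
theorem eq_of_cores (h : Ctx p A θ) {M L : Subgroup G} (hM : MM p A θ M) (hL : MM p A θ L)
    (hML : ∀ r : ℕ, r.Prime → O r M ≤ L) (hLM : ∀ r : ℕ, r.Prime → O r L ≤ M)
    {u v : ℕ} (hu : u.Prime) (hv : v.Prime) (huv : u ≠ v) (huM : O u M ≠ ⊥) (hvM : O v M ≠ ⊥) : M = L := by
  have hπ : ∀ r : ℕ, r.Prime → (O r M = ⊥ ↔ O r L = ⊥) := fun r hr => cores_primes_eq h hM hL hML hLM hr
  haveI := Fact.mk hu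
  haveI := Fact.mk hv
  have key : O u M = O u L := le_antisymm (core_le_core h hM hL hML hπ huv hvM)
    (core_le_core h hL hM hLM (fun r hr => (hπ r hr).symm) huv fun e => hvM ((hπ v hv).mpr e))
  have hle : L ≤ M := le_of_normalizes_O h hM huM hL.1 (key ▸ O_normal)
  exact hL.2.2 M hM.1 hle

/-- A core of `L` outside the primes of `M` meets `M` trivially. -/
theorem core_inf_eq_bot (h : Ctx p A θ) {M L : Subgroup G} (hM : MM p A θ M) (hL : MM p A θ L)
    (hML : ∀ r : ℕ, r.Prime → O r M ≤ L) {t : ℕ} [Fact t.Prime] (ht : O t M = ⊥) : O t L ⊓ M = ⊥ := by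
  refine eq_bot_of_centralizes h hM.1 inf_le_right (O_isPGroup.to_le inf_le_left) ht fun r hr hrt => ?_
  haveI := Fact.mk hr
  refine commute_of_normalize ?_ (inf_le_right.trans O_normal) ?_
  · exact IsPGroup.coprime_card_of_ne t r (Ne.symm hrt) _ _ (O_isPGroup.to_le inf_le_left) O_isPGroup
  · exact inf_normalizes ((hML r hr).trans O_normal) (O_le.trans Subgroup.le_normalizer)

/-- `F1`: if `M` has several cores and they lie in `L`, then `O_v(L) ≤ M` for each prime `v` of `M`. -/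
theorem core_le_of_multi (h : Ctx p A θ) {M L : Subgroup G} (hM : MM p A θ M) (hL : MM p A θ L)
    (hML : ∀ r : ℕ, r.Prime → O r M ≤ L) {u v : ℕ} [Fact u.Prime] [Fact v.Prime] (huv : u ≠ v)
    (huM : O u M ≠ ⊥) (hvM : O v M ≠ ⊥) : O v L ≤ M := by
  refine le_of_normalizes_O h hM huM (O_mem h hL.1) ?_
  exact (Subgroup.le_centralizer_iff.mp (core_centralizes h huv.symm hM hL hvM (hML v Fact.out)
    (hML u Fact.out))).trans (Subgroup.centralizer_le_normalizer _)

end CfsgLib.SolvSF
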