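import Cfsg.Agent.Lib.SolvSF.Engine
import Cfsg.Agent.Lib.SolvSF.Cores
import Cfsg.Agent.Lib.CoprimeAbelian
import Cfsg.Agent.Lib.Elementary

/-! Exactly two primes, some maximal member having both cores. -/

set_option autoImplicit false
set_option linter.unusedSectionVars false
set_option linter.style.haveILetI false

namespace CfsgLib.SolvSF

open Cfsg Subgroup CfsgLib.Signalizer
open scoped commutatorElement

universe u
variable {G : Type u} [Group G] [Finite G] {p : ℕ} [Fact p.Prime] {A : Subgroup G} {θ : G → Subgroup G}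

/-- A normaliser argument in `p`-groups. -/
theorem eq_of_inf_normalizer_le {q : ℕ} [Fact q.Prime] {P Q : Subgroup G} (hP : IsPGroup q P) (hQP : Q ≤ P)
    (hle : P ⊓ normalizer (Q : Set G) ≤ Q) : Q = P := by
  by_contra hne
  haveI : Group.IsNilpotent P := hP.isNilpotent
  have hlt : Q.subgroupOf P < ⊤ :=
    lt_top_iff_ne_top.mpr fun e => hne (le_antisymm hQP (Subgroup.subgroupOf_eq_top.mp e))
  obtain ⟨x, hxN, hxQ⟩ := SetLike.exists_of_lt (normalizerCondition_of_isNilpotent _ hlt)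
  refine hxQ (hle (Subgroup.mem_inf.mpr ⟨x.2, Comp.mem_normalizer_of_maps fun d hd => ?_⟩))
  exact (Subgroup.mem_normalizer_iff.mp hxN ⟨d, hQP hd⟩).mp hd

theorem normalizer_normalizes {X : Subgroup G} (hX : A ≤ normalizer (X : Set G)) :
    A ≤ normalizer ((normalizer (X : Set G) : Subgroup G) : Set G) := fun _ hg => Subgroup.le_normalizer (hX hg)

theorem normalizer_le_normalizer_centralizer' {X : Subgroup G} :
    normalizer (X : Set G) ≤ normalizer (centralizer (X : Set G) : Set G) := fun _ hg =>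
  Comp.mem_normalizer_of_maps fun _ hx => centralizer_conj hg hx

theorem commutator_normalized {X Y B : Subgroup G} (hX : B ≤ normalizer (X : Set G))
    (hY : B ≤ normalizer (Y : Set G)) : B ≤ normalizer ((⁅X, Y⁆ : Subgroup G) : Set G) := fun g hg => by
  refine Comp.mem_normalizer_of_maps ?_
  have hle : ⁅X, Y⁆ ≤ (⁅X, Y⁆ : Subgroup G).comap (MulAut.conj g).toMonoidHom := by
    rw [Subgroup.commutator_le]
    intro x hx y hy
    rw [Subgroup.mem_comap, map_commutatorElement]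
    exact Subgroup.commutator_mem_commutator ((Subgroup.mem_normalizer_iff.mp (hX hg) x).mp hx)
      ((Subgroup.mem_normalizer_iff.mp (hY hg) y).mp hy)
  exact fun x hx => hle hx

theorem ZOm_isPGroup {q : ℕ} {R : Subgroup G} (hR : IsPGroup q R) : IsPGroup q (ZOm q R) :=
  hR.to_le (ZOm_le.trans inf_le_left)

theorem ZOm_W_normalized (h : Ctx p A θ) {q : ℕ} [Fact q.Prime] :
    A ≤ normalizer (ZOm q (W p A θ q) : Set G) ∧ DD A θ ≤ normalizer (ZOm q (W p A θ q) : Set G) :=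
  ⟨(mem_normalizes (W_mem h)).trans ZOm_normal, (W_dd h).trans ZOm_normal⟩

theorem ZOm_W_centralizes {q : ℕ} : ZOm q (W p A θ q) ≤ centralizer (W p A θ q : Set G) :=
  ZOm_le.trans inf_le_right

section Multi

variable {q t : ℕ} [Fact q.Prime] [Fact t.Prime]

theorem other_bot (h : Ctx p A θ) (honly : ∀ r, Pr A θ r → r = q ∨ r = t) {L : Subgroup G} (hL : MM p A θ L)
    (ht : O t L = ⊥) : ∀ r : ℕ, r.Prime → r ≠ q → O r L = ⊥ := fun r hr hrq => by
  by_contra hne
  rcases honly r (pr_of_O h hr hL hne) with rfl | rfl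
  · exact hrq rfl
  · exact hne ht

theorem q_core (h : Ctx p A θ) (honly : ∀ r, Pr A θ r → r = q ∨ r = t) {L : Subgroup G} (hL : MM p A θ L)
    (ht : O t L = ⊥) : O q L ≠ ⊥ := by
  intro hq
  obtain ⟨r, hr, hpr, hne⟩ := exists_O_ne_bot h hL
  rcases honly r hpr with rfl | rfl
  · exact hne hq
  · exact hne ht

theorem inf_eq_bot_of_pgroups (hqt : q ≠ t) {X Y : Subgroup G} (hX : IsPGroup q X) (hY : IsPGroup t Y) :
    X ⊓ Y = ⊥ :=
  Subgroup.inf_eq_bot_of_coprime (IsPGroup.coprime_card_of_ne q t hqt X Y hX hY)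

theorem cores_commute (hqt : q ≠ t) {K : Subgroup G} : O t K ≤ centralizer (O q K : Set G) :=
  commute_of_normalize (O_coprime (Ne.symm hqt)) (O_le.trans O_normal) (O_le.trans O_normal)

/-- `O_t(K)` meets no member of the type `{q}`, for a member `K` with both cores. -/
theorem multi_inter (h : Ctx p A θ) (hqt : q ≠ t) (honly : ∀ r, Pr A θ r → r = q ∨ r = t)
    (hGq : ∀ G, MM p A θ G → W p A θ q ≤ G → O t G = ⊥)
    {K : Subgroup G} (hK : MM p A θ K) (hq : O q K ≠ ⊥) :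
    O t K ⊓ centralizer (ZOm q (W p A θ q) : Set G) = ⊥ ∧
      ∀ L, MM p A θ L → O t L = ⊥ → O t K ⊓ L = ⊥ := by
  set U := O t K with hU
  set Z := ZOm q (W p A θ q) with hZ
  have hZK : Z ≤ K := ZOm_W_le h hK hq
  have hUm : Mem p A θ U := O_mem h hK.1
  obtain ⟨hZA, hZD⟩ := ZOm_W_normalized h (q := q)
  have hWq : W p A θ q ≠ ⊥ := W_ne_bot h hK hq
  obtain ⟨L, hL, -, hmax⟩ := exists_MM_normalizer h (ZOm_mem h (W_mem h))
    (ZOm_ne_bot (W_isPGroup h) hWq) hZD
  have hWL : W p A θ q ≤ L := hmax _ (W_mem h) (Subgroup.le_normalizer.trans ZOm_normal)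
  have hLt := hGq L hL hWL
  set V := O q K with hV
  have hVL : V ≤ L := (O_le_W h hK).trans hWL
  set B := U ⊓ L with hB
  have hBp : IsPGroup t B := O_isPGroup.to_le inf_le_left
  have hBV : B ≤ centralizer (V : Set G) := inf_le_left.trans (cores_commute hqt)
  have hBQ : B ≤ centralizer (O q L : Set G) := by
    have hnd : ¬ q ∣ Nat.card B := by
      obtain ⟨n, hn⟩ := IsPGroup.iff_card.mp hBp
      intro hd
      rw [hn] at hd
      exact hqt ((Nat.prime_dvd_prime_iff_eq Fact.out Fact.out).mp ((Fact.out : q.Prime).dvd_of_dvd_pow hd))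
    refine axb O_isPGroup hnd O_isPGroup (hVL.trans O_normal) (inf_le_right.trans O_normal) hBV ?_
    set C := O q L ⊓ centralizer (V : Set G) with hC
    have hCm : Mem p A θ C := family_sub h.hθ (O_mem h hL.1) inf_le_left
      (inf_normalizes (mem_normalizes (O_mem h hL.1))
        ((mem_normalizes (O_mem h hK.1)).trans normalizer_le_normalizer_centralizer'))
    have hCK : C ≤ K := le_of_normalizes_O h hK hq hCm (inf_le_right.trans (Subgroup.centralizer_le_normalizer _))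
    refine commute_of_normalize
      (IsPGroup.coprime_card_of_ne t q hqt.symm _ _ hBp (O_isPGroup.to_le inf_le_left)) ?_ ?_
    · exact inf_normalizes (inf_le_right.trans O_normal)
        ((hBV.trans (Subgroup.centralizer_le_normalizer _)).trans normalizer_le_normalizer_centralizer')
    · exact inf_normalizes (hCK.trans O_normal) ((inf_le_left.trans O_le).trans Subgroup.le_normalizer)
  have hB0 : B = ⊥ := by
    have h1 := le_O_of_single h hL.1 (other_bot h honly hL hLt) inf_le_right hBQ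
    have h2 : B ≤ O q L ⊓ B := le_inf h1 le_rfl
    rwa [inf_eq_bot_of_pgroups hqt O_isPGroup hBp, le_bot_iff] at h2
  have hcz : U ⊓ centralizer (Z : Set G) = ⊥ := by
    have hm : Mem p A θ (U ⊓ centralizer (Z : Set G)) := family_sub h.hθ hUm inf_le_left
      (inf_normalizes (mem_normalizes hUm) (hZA.trans normalizer_le_normalizer_centralizer'))
    have h1 := hmax _ hm (inf_le_right.trans (Subgroup.centralizer_le_normalizer _))
    exact le_bot_iff.mp (hB0 ▸ le_inf inf_le_left h1)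
  refine ⟨hcz, fun L' hL' hL't => ?_⟩
  have hZL' : Z ≤ O q L' := ZOm_W_le_O h hL' (q_core h honly hL' hL't) (other_bot h honly hL' hL't)
  refine le_bot_iff.mp fun x hx => ?_
  rw [← hcz]
  refine Subgroup.mem_inf.mpr ⟨hx.1, mem_centralizer_of fun z hz => ?_⟩
  have h1 : x * z * x⁻¹ * z⁻¹ ∈ U ⊓ O q L' := by
    refine Subgroup.mem_inf.mpr ⟨?_, mul_mem ((Subgroup.mem_normalizer_iff.mp (O_normal hx.2) z).mp (hZL' hz))
      (inv_mem (hZL' hz))⟩
    have h2 := mul_mem hx.1 ((Subgroup.mem_normalizer_iff.mp (O_normal (hZK hz)) x⁻¹).mp (inv_mem hx.1))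
    simpa [mul_assoc] using h2
  rw [inf_comm, inf_eq_bot_of_pgroups hqt O_isPGroup O_isPGroup, Subgroup.mem_bot, mul_inv_eq_one,
    mul_inv_eq_iff_eq_mul] at h1
  exact h1.symm

/-- `Z(W q)` lies in the layer above `O_t(K)`. -/
theorem zimg (h : Ctx p A θ) (hqt : q ≠ t) (honly : ∀ r, Pr A θ r → r = q ∨ r = t)
    (hGq : ∀ G, MM p A θ G → W p A θ q ≤ G → O t G = ⊥)
    {K : Subgroup G} (hK : MM p A θ K) (hq : O q K ≠ ⊥) : ZOm q (W p A θ q) ≤ Lay t q K := by
  haveI := hK.1.1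
  set Z := ZOm q (W p A θ q) with hZ
  have hD : DD A θ ⊓ O t K = ⊥ := by
    obtain ⟨L, hL, hWL⟩ := exists_MM_ge h (W_mem (q := q) h) (W_dd h)
    exact le_bot_iff.mp (((le_inf inf_le_right (inf_le_left.trans hL.2.1)) : DD A θ ⊓ O t K ≤ O t K ⊓ L).trans
      ((multi_inter h hqt honly hGq hK hq).2 L hL (hGq L hL hWL)).le)
  have hLay := Lay_le_sup_W h hqt hK hD
  intro z hz
  have hzK : z ∈ K := ZOm_W_le h hK hq hz
  refine ⟨⟨z, hzK⟩, ?_, rfl⟩
  set π := QuotientGroup.mk' (pCore t ↥K) with hπ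
  rw [SetLike.mem_coe, Subgroup.mem_comap]
  have hzq : IsPGroup q (zpowers (π ⟨z, hzK⟩)) := by
    obtain ⟨n, hn⟩ := IsPGroup.iff_orderOf.mp (ZOm_isPGroup (W_isPGroup (q := q) h)) ⟨z, hz⟩
    rw [Subgroup.orderOf_mk] at hn
    refine IsPGroup.of_card_dvd_pow (n := n) ?_
    rw [Nat.card_zpowers, ← hn]
    exact (orderOf_map_dvd π _).trans (dvd_of_eq (Subgroup.orderOf_mk z hzK))
  refine pgroup_le_pCore hzq (fun r hr => ?_) (Subgroup.mem_zpowers _)
  rw [Subgroup.zpowers_le]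
  refine mem_centralizer_of fun y hy => ?_
  by_cases hr1 : pCore r (↥K ⧸ pCore t ↥K) = ⊥
  · rw [SetLike.mem_coe, hr1, Subgroup.mem_bot] at hy
    rw [hy, one_mul, mul_one]
  haveI := Fact.mk hr
  have hrq : r = q := by
    have hd : r ∣ Nat.card K := by
      obtain ⟨n, hn⟩ := IsPGroup.iff_card.mp (isPGroup_pCore (G := ↥K ⧸ pCore t ↥K) r)
      refine (dvd_trans ?_ (Subgroup.card_subgroup_dvd_card (pCore r (↥K ⧸ pCore t ↥K)))).trans
        (Subgroup.card_quotient_dvd_card _)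
      rw [hn]
      exact dvd_pow_self _ fun e => hr1 (Subgroup.card_eq_one.mp (by rw [hn, e, pow_zero]))
    rcases honly r (pr_of_mem h hr hK.1 hd) with e | e
    · exact e
    · exfalso
      subst e
      refine hr1 (le_bot_iff.mp fun w hw => ?_)
      obtain ⟨w, rfl⟩ := QuotientGroup.mk'_surjective _ w
      have hMp : IsPGroup r ((pCore r (↥K ⧸ pCore r ↥K)).comap (QuotientGroup.mk' (pCore r ↥K))) :=
        IsPGroup.comap_of_ker_isPGroup (isPGroup_pCore r) _ (by rw [QuotientGroup.ker_mk']; exact isPGroup_pCore r)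
      exact Subgroup.mem_bot.mpr ((QuotientGroup.eq_one_iff w).mpr (le_pCore hMp hw))
  subst hrq
  obtain ⟨y, rfl⟩ := QuotientGroup.mk'_surjective _ y
  have hyL : (y : G) ∈ Lay t r K := ⟨y, hy, rfl⟩
  obtain ⟨u, hu, w, hw, e⟩ := mem_sup_of_le_normalizer (inf_le_right.trans O_normal) (hLay hyL)
  have hzw : z * w = w * z := (Subgroup.mem_centralizer_iff.mp (ZOm_W_centralizes hz) w hw.1).symm
  obtain ⟨u', hu', hue⟩ := hu
  have hye : y = u' * ⟨w, hw.2⟩ := Subtype.ext (by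
    show (y : G) = (u' : G) * w
    rw [← e]; exact congrArg (· * w) hue.symm)
  have hu1 : π u' = 1 := (QuotientGroup.eq_one_iff u').mpr hu'
  rw [hye, map_mul, hu1, one_mul, ← map_mul, ← map_mul]
  congr 1
  exact Subtype.ext hzw.symm

theorem zimg_comm (h : Ctx p A θ) (hqt : q ≠ t) (honly : ∀ r, Pr A θ r → r = q ∨ r = t)
    (hGq : ∀ G, MM p A θ G → W p A θ q ≤ G → O t G = ⊥)
    {K : Subgroup G} (hK : MM p A θ K) (hq : O q K ≠ ⊥) {X : Subgroup G} (hXK : X ≤ K) (hXt : IsPGroup t X)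
    {Z' : Subgroup G} (hZ' : Z' ≤ ZOm q (W p A θ q)) (hn : Z' ≤ normalizer (X : Set G)) :
    ⁅X, Z'⁆ ≤ O t K := by
  refine le_trans (le_inf (commutator_le_of_le_normalizer hn) ?_)
    (Lay_sylow hqt (inf_le_right : X ⊓ Lay t q K ≤ Lay t q K) (hXt.to_le inf_le_left))
  rw [Subgroup.commutator_comm]
  refine (Subgroup.commutator_mono (hZ'.trans (zimg h hqt honly hGq hK hq)) hXK).trans ?_
  exact commutator_le_of_le_normalizer Lay_normal

/-- `O_t(K) ∩ K' ≤ O_t(K')` for two members with both cores. -/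
theorem inf_le_core (h : Ctx p A θ) (hqt : q ≠ t) (honly : ∀ r, Pr A θ r → r = q ∨ r = t)
    (hGq : ∀ G, MM p A θ G → W p A θ q ≤ G → O t G = ⊥)
    {K K' : Subgroup G} (hK : MM p A θ K) (hq : O q K ≠ ⊥) (hK' : MM p A θ K') (hq' : O q K' ≠ ⊥) :
    O t K ⊓ K' ≤ O t K' := by
  set X := O t K ⊓ K' with hX
  set Z := ZOm q (W p A θ q) with hZ
  have hn : Z ≤ normalizer (X : Set G) :=
    inf_normalizes ((ZOm_W_le h hK hq).trans O_normal) ((ZOm_W_le h hK' hq').trans Subgroup.le_normalizer)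
  have hXt : IsPGroup t X := O_isPGroup.to_le inf_le_left
  have hcop : (Nat.card Z).Coprime (Nat.card X) :=
    IsPGroup.coprime_card_of_ne q t hqt _ _ (ZOm_isPGroup (W_isPGroup h)) hXt
  have hXs : Group.IsSolvable X := (family_sub h.hθ (O_mem h hK.1) inf_le_left
    (inf_normalizes (mem_normalizes (O_mem h hK.1)) (mem_normalizes hK'.1))).1
  rw [← coprime_commutator_sup hn hcop (Or.inr hXs)]
  refine sup_le (zimg_comm h hqt honly hGq hK' hq' inf_le_right hXt le_rfl hn) ?_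
  have h1 := (multi_inter h hqt honly hGq hK hq).1
  exact (le_inf (inf_le_left.trans inf_le_left) inf_le_right).trans (h1.le.trans bot_le)

theorem eq_of_core_le (h : Ctx p A θ) (hqt : q ≠ t) (honly : ∀ r, Pr A θ r → r = q ∨ r = t)
    (hGq : ∀ G, MM p A θ G → W p A θ q ≤ G → O t G = ⊥)
    {K K' : Subgroup G} (hK : MM p A θ K) (hq : O q K ≠ ⊥) (ht : O t K ≠ ⊥) (hK' : MM p A θ K')
    (hq' : O q K' ≠ ⊥) (hle : O t K ≤ O t K') : K' = K := by
  have hY : O t K' ⊓ normalizer (O t K : Set G) ≤ K := by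
    refine le_of_normalizes_O h hK ht (family_sub h.hθ (O_mem h hK'.1) inf_le_left ?_) inf_le_right
    exact inf_normalizes (mem_normalizes (O_mem h hK'.1)) (normalizer_normalizes (mem_normalizes (O_mem h hK.1)))
  have he : O t K = O t K' := eq_of_inf_normalizer_le O_isPGroup hle
    ((le_inf inf_le_left hY).trans (inf_le_core h hqt honly hGq hK' hq' hK hq))
  exact (hK'.2.2 K hK.1 (le_of_normalizes_O h hK ht hK'.1 (he ▸ O_normal))).symm

/-- A fixed-point-free coprime element of `A` acting on `U` centralises `[Z, b]` on `U`. -/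
theorem frob_commutator (h : Ctx p A θ) (hqt : q ≠ t) {U Z : Subgroup G} (hU : IsPGroup t U) (hpU : ¬ p ∣ Nat.card U)
    (hZ : IsPGroup q Z) (hpZ : ¬ p ∣ Nat.card Z) (hZc : IsMulCommutative Z)
    (hZU : Z ≤ normalizer (U : Set G)) {b : G} (hb : b ∈ A) (hbU : b ∈ normalizer (U : Set G))
    (hbZ : b ∈ normalizer (Z : Set G)) (hfix : U ⊓ centralizer ({b} : Set G) = ⊥) :
    ⁅Z, zpowers b⁆ ≤ centralizer (U : Set G) := by
  haveI := hZc
  have hbA : zpowers b ≤ A := Subgroup.zpowers_le.mpr hb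
  have hbZ' : zpowers b ≤ normalizer (Z : Set G) := Subgroup.zpowers_le.mpr hbZ
  have hcop : (Nat.card (zpowers b)).Coprime (Nat.card Z) := ea_coprime (ea_le h.hA hbA) hpZ
  have hle : ⁅Z, zpowers b⁆ ≤ Z := commutator_le_of_le_normalizer hbZ'
  refine frob_centralizes (p := p) (x := b) hU ?_ ?_ (hle.trans hZU) hbU ?_ (h.hA.2 b hb) ?_ ?_
  · exact ((Fact.out : p.Prime).coprime_iff_not_dvd.mpr hpU).symm
  · obtain ⟨n, hn⟩ := IsPGroup.iff_card.mp (hZ.to_le hle)
    intro hd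
    rw [hn] at hd
    exact hqt ((Nat.prime_dvd_prime_iff_eq Fact.out Fact.out).mp ((Fact.out : t.Prime).dvd_of_dvd_pow hd)).symm
  · exact commutator_normalized hbZ' (Subgroup.le_normalizer : zpowers b ≤ _) (Subgroup.mem_zpowers b)
  · intro z hz hzb
    have h1 : z ∈ (Z ⊓ centralizer (zpowers b : Set G)) ⊓ ⁅Z, zpowers b⁆ :=
      Subgroup.mem_inf.mpr ⟨Subgroup.mem_inf.mpr ⟨hle hz, mem_centralizer_of fun c hc => by
        obtain ⟨i, rfl⟩ := Subgroup.mem_zpowers_iff.mp hc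
        exact ((show Commute b z from hzb).zpow_left i).eq⟩, hz⟩
    rwa [coprime_abelian_disjoint _ _ hbZ' hcop, Subgroup.mem_bot] at h1
  · intro z _ m hm hbm
    have h1 : m ∈ U ⊓ centralizer ({b} : Set G) :=
      Subgroup.mem_inf.mpr ⟨hm, Subgroup.mem_centralizer_singleton_iff.mpr hbm.symm⟩
    rw [hfix, Subgroup.mem_bot] at h1
    rw [h1, one_mul, mul_one]

/-- If generators of `A` all act trivially on the image of `Z` then `Z ∩ C(A)` has no fixed points. -/
theorem fpf_fixed (h : Ctx p A θ) {U Z : Subgroup G} (hAU : A ≤ normalizer (U : Set G))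
    (hAZ : A ≤ normalizer (Z : Set G)) (hpZ : ¬ p ∣ Nat.card Z) (hZU : Z ≤ normalizer (U : Set G))
    (hfpf : U ⊓ centralizer (Z : Set G) = ⊥) {S : Set G} (hSA : S ⊆ A) (hgen : A ≤ Subgroup.closure S)
    (hS : ∀ b ∈ S, ⁅Z, zpowers b⁆ ≤ centralizer (U : Set G)) :
    U ⊓ centralizer ((Z ⊓ centralizer (A : Set G) : Subgroup G) : Set G) = ⊥ := by
  have hcom : ⁅Z, A⁆ ≤ centralizer (U : Set G) := by
    rw [Subgroup.commutator_le]
    intro z hz a ha
    have key : ∀ a ∈ Subgroup.closure S, a ∈ A → ∀ z ∈ Z, ⁅z, a⁆ ∈ centralizer (U : Set G) := by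
      intro a ha
      refine Subgroup.closure_induction (p := fun a _ => a ∈ A → ∀ z ∈ Z, ⁅z, a⁆ ∈ centralizer (U : Set G))
        (fun b hb _ z hz => hS b hb (Subgroup.commutator_mem_commutator hz (Subgroup.mem_zpowers b)))
        (fun _ z _ => by rw [commutatorElement_one_right]; exact one_mem _) ?_ ?_ ha
      · intro c d hc hd ihc ihd _ z hz
        have hcA : c ∈ A := (Subgroup.closure_le A).mpr hSA hc
        have hdA : d ∈ A := (Subgroup.closure_le A).mpr hSA hd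
        rw [show ⁅z, c * d⁆ = ⁅z, c⁆ * (c * ⁅z, d⁆ * c⁻¹) by simp only [commutatorElement_def]; group]
        exact mul_mem (ihc hcA z hz) (centralizer_conj (hAU hcA) (ihd hdA z hz))
      · intro c hc ihc _ z hz
        have hcA : c ∈ A := (Subgroup.closure_le A).mpr hSA hc
        rw [show ⁅z, c⁻¹⁆ = c⁻¹ * ⁅z, c⁆⁻¹ * (c⁻¹)⁻¹ by simp only [commutatorElement_def]; group]
        exact centralizer_conj (hAU (inv_mem hcA)) (inv_mem (ihc hcA z hz))
    exact key a (hgen ha) ha z hz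
  refine le_bot_iff.mp fun u hu => ?_
  rw [← hfpf]
  refine Subgroup.mem_inf.mpr ⟨hu.1, mem_centralizer_of fun z hz => ?_⟩
  have hle : Z ≤ centralizer ({u} : Set G) := by
    rw [← coprime_commutator_sup hAZ (ea_coprime h.hA hpZ) (Or.inl (ea_solvable h.hA))]
    refine sup_le (fun c hc => Subgroup.mem_centralizer_singleton_iff.mpr ?_)
      (fun c hc => Subgroup.mem_centralizer_singleton_iff.mpr ?_)
    · exact (Subgroup.mem_centralizer_iff.mp (hcom hc) u hu.1).symm
    · exact Subgroup.mem_centralizer_iff.mp hu.2 c hc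
  exact Subgroup.mem_centralizer_singleton_iff.mp (hle hz)

/-- A line carrying a piece of `N_W(W ∩ K)` outside `K`. -/
theorem exists_piece (h : Ctx p A θ) {K : Subgroup G} (hK : MM p A θ K) (hW : ¬ W p A θ q ≤ K) :
    ∃ H, Line p A H ∧ ∃ x, x ∈ W p A θ q ∧ x ∉ K ∧ x ∈ signalizerInf H θ := by
  set N := W p A θ q ⊓ normalizer ((W p A θ q ⊓ K : Subgroup G) : Set G) with hN
  have hNm : Mem p A θ N := family_sub h.hθ (W_mem h) inf_le_left (inf_normalizes (mem_normalizes (W_mem h))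
    (normalizer_normalizes (inf_normalizes (mem_normalizes (W_mem h)) (mem_normalizes hK.1))))
  by_contra hne
  push Not at hne
  have hNK : N ≤ K := le_of_lines h hNm fun H hH x hx => by
    by_contra hxK
    exact hne H hH x hx.1.1 hxK (inf_centralizer_le_theta h hNm hH.1 hx)
  exact hW (eq_of_inf_normalizer_le (W_isPGroup h) (inf_le_left : W p A θ q ⊓ K ≤ W p A θ q)
    (le_inf inf_le_left hNK) ▸ inf_le_right)

/-- The final contradiction. -/
theorem t_colour_false (h : Ctx p A θ) (hqt : q ≠ t) (honly : ∀ r, Pr A θ r → r = q ∨ r = t)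
    (hGq : ∀ G, MM p A θ G → W p A θ q ≤ G → O t G = ⊥)
    {K : Subgroup G} (hK : MM p A θ K) (hq : O q K ≠ ⊥) (ht : O t K ≠ ⊥)
    (hVt : ∀ L, MM p A θ L → O q L = ⊥ → ¬ O q K ≤ L)
    (huniq : ∀ L, MM p A θ L → O q L ≠ ⊥ → O t L ≠ ⊥ → O t K ⊓ L ≠ ⊥ → L = K)
    {Z' : Subgroup G} (hZ' : Z' ≤ ZOm q (W p A θ q)) (hZ'A : A ≤ normalizer (Z' : Set G))
    (hZ'D : DD A θ ≤ normalizer (Z' : Set G)) (hfpf : O t K ⊓ centralizer (Z' : Set G) = ⊥)
    {L : Subgroup G} (hL : MM p A θ L) (hLq : O q L = ⊥) (hZ'L : Z' ≤ L) (hYK : O t L ≤ K)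
    {x : G} (hx : x ∈ W p A θ q) (hxL : x ∈ L) (hxK : x ∉ K) : False := by
  set Y := O t L with hY
  set I : Subgroup G := ⁅Y, Z'⁆ with hI
  have hn : Z' ≤ normalizer (Y : Set G) := hZ'L.trans O_normal
  have hIY : I ≤ Y := commutator_le_of_le_normalizer hn
  have hIU : I ≤ O t K := zimg_comm h hqt honly hGq hK hq hYK O_isPGroup hZ' hn
  have hIA : A ≤ normalizer (I : Set G) := commutator_normalized (mem_normalizes (O_mem h hL.1)) hZ'A
  have hI0 : I ≠ ⊥ := by
    intro e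
    have hsw : ∀ r, Pr A θ r → r = t ∨ r = q := fun r hr => (honly r hr).symm
    have h1 : Z' ≤ O t L := le_O_of_single h hL.1 (other_bot h hsw hL hLq) hZ'L (by
      rw [← Subgroup.commutator_eq_bot_iff_le_centralizer, Subgroup.commutator_comm]; exact e)
    have h2 : Z' = ⊥ := le_bot_iff.mp ((le_inf le_rfl h1).trans (inf_eq_bot_of_pgroups hqt
      ((ZOm_isPGroup (W_isPGroup h)).to_le hZ') O_isPGroup).le)
    rw [h2] at hfpf
    refine ht (le_bot_iff.mp (hfpf ▸ le_inf le_rfl fun u _ => mem_centralizer_of fun z hz => ?_))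
    rw [Subgroup.mem_bot.mp hz, one_mul, mul_one]
  have hIm : Mem p A θ I := family_sub h.hθ (O_mem h hK.1) hIU hIA
  obtain ⟨L', hL', hIL', hmax⟩ := exists_MM_normalizer h hIm hI0
    (commutator_normalized (hL.2.1.trans O_normal) hZ'D)
  have hVL' : O q K ≤ L' := hmax _ (O_mem h hK.1)
    ((Subgroup.le_centralizer_iff.mp (hIU.trans (cores_commute hqt))).trans (Subgroup.centralizer_le_normalizer _))
  have hxL' : x ∈ L' := by
    refine hmax (W p A θ q ⊓ L ⊓ normalizer (I : Set G)) ?_ inf_le_right (Subgroup.mem_inf.mpr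
      ⟨Subgroup.mem_inf.mpr ⟨hx, hxL⟩, ?_⟩)
    · exact family_sub h.hθ (W_mem h) (inf_le_left.trans inf_le_left)
        (inf_normalizes (inf_normalizes (mem_normalizes (W_mem h)) (mem_normalizes hL.1)) (normalizer_normalizes hIA))
    · refine commutator_normalized (B := zpowers x) (Subgroup.zpowers_le.mpr (O_normal hxL))
        (Subgroup.zpowers_le.mpr ?_) (Subgroup.mem_zpowers x)
      exact Subgroup.centralizer_le_normalizer _
        ((Subgroup.le_centralizer_iff.mp (hZ'.trans ZOm_W_centralizes)) hx)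
  by_cases hq' : O q L' = ⊥
  · exact hVt L' hL' hq' hVL'
  by_cases ht' : O t L' = ⊥
  · exact hI0 (le_bot_iff.mp ((le_inf hIU hIL').trans ((multi_inter h hqt honly hGq hK hq).2 L' hL' ht').le))
  have hne : O t K ⊓ L' ≠ ⊥ := fun e => hI0 (le_bot_iff.mp (e ▸ le_inf hIU hIL'))
  exact hxK (huniq L' hL' hq' ht' hne ▸ hxL')

/-- Some member with both cores contains `W t`. -/
theorem multi_top (h : Ctx p A θ) (hqt : q ≠ t) (honly : ∀ r, Pr A θ r → r = q ∨ r = t)
    (hGq : ∀ G, MM p A θ G → W p A θ q ≤ G → O t G = ⊥)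
    (hGt : ∀ G, MM p A θ G → W p A θ t ≤ G → O t G ≠ ⊥)
    {K : Subgroup G} (hK : MM p A θ K) (hq : O q K ≠ ⊥) (ht : O t K ≠ ⊥) (hWt : W p A θ t ≤ K) : False := by
  set U := O t K with hU
  have hUm : Mem p A θ U := O_mem h hK.1
  have hmi := multi_inter h hqt honly hGq hK hq
  have huniq : ∀ L, MM p A θ L → O q L ≠ ⊥ → O t L ≠ ⊥ → L = K := by
    intro L hL hLq hLt
    have h1 : O t L ≤ U := (le_inf le_rfl ((O_le_W h hL).trans hWt)).trans (inf_le_core h hqt honly hGq hL hLq hK hq)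
    exact (eq_of_core_le h hqt honly hGq hL hLq hLt hK hq h1).symm
  have hswap : ∀ r, Pr A θ r → r = t ∨ r = q := fun r hr => (honly r hr).symm
  have hqual : Qual p A θ t U := ⟨hUm, fun L hL hLt => hmi.2 L hL hLt⟩
  have hZU : ZOm t (W p A θ t) ⊓ U ≠ ⊥ := by
    have hUW : U ≤ W p A θ t := O_le_W h hK
    haveI : Group.IsNilpotent (W p A θ t) := (W_isPGroup h).isNilpotent
    haveI : (U.subgroupOf (W p A θ t)).Normal :=
      (Subgroup.normal_subgroupOf_iff_le_normalizer hUW).mpr (hWt.trans O_normal)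
    have hne : U.subgroupOf (W p A θ t) ≠ ⊥ := fun e => ht (by
      rw [← map_subtype_subgroupOf hUW, e, Subgroup.map_bot])
    have h1 := inf_center_ne_bot_of_nilpotent hne
    set C := U.subgroupOf (W p A θ t) ⊓ Subgroup.center (W p A θ t) with hC
    obtain ⟨n, hn⟩ := IsPGroup.iff_card.mp ((W_isPGroup (q := t) h).to_subgroup C)
    have hd : t ∣ Nat.card C := hn ▸ dvd_pow_self _ fun e => h1 (Subgroup.card_eq_one.mp (by rw [hn, e, pow_zero]))
    obtain ⟨z, hz⟩ := exists_prime_orderOf_dvd_card' t hd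
    intro e
    have hz2 : z ^ t = 1 := orderOf_dvd_iff_pow_eq_one.mp (dvd_of_eq hz)
    have hmem : ((z : W p A θ t) : G) ∈ ZOm t (W p A θ t) ⊓ U := by
      refine Subgroup.mem_inf.mpr ⟨Subgroup.subset_closure ⟨Subgroup.mem_inf.mpr ⟨(z : W p A θ t).2,
        mem_centralizer_of fun y hy => congrArg Subtype.val (Subgroup.mem_center_iff.mp z.2.2 ⟨y, hy⟩)⟩, ?_⟩, z.2.1⟩
      exact congrArg (fun w : C => ((w : W p A θ t) : G)) hz2
    rw [e, Subgroup.mem_bot] at hmem
    have hz1 : z = 1 := Subtype.ext (Subtype.ext hmem)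
    rw [hz1, orderOf_one] at hz
    exact (Fact.out : t.Prime).one_lt.ne hz
  have hT0le : T0 p A θ t ≤ U := inf_le_right.trans
    (iInf_le (fun L : {L : Subgroup G // MM p A θ L ∧ W p A θ t ≤ L} => O t (L : Subgroup G)) ⟨K, hK, hWt⟩)
  have hT0 : T0 p A θ t ≠ ⊥ := by
    intro e
    refine hZU (le_bot_iff.mp (e ▸ le_inf (inf_le_left.trans (ZOm_le.trans inf_le_left)) (le_iInf fun L => ?_)))
    by_cases hLq : O q (L : Subgroup G) = ⊥
    · exact inf_le_left.trans (ZOm_W_le_O h L.2.1 (hGt L L.2.1 L.2.2) (other_bot h hswap L.2.1 hLq))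
    · rw [huniq L L.2.1 hLq (hGt L L.2.1 L.2.2)]
      exact inf_le_right
  have hE : EngineHyp p A θ t := by
    refine engineHyp_of h (W_ne_bot h hK ht) hGt hT0 (fun L hL hLt r hr hrt => ?_)
      (fun L hL hLt => le_bot_iff.mp ((inf_le_inf_right L hT0le).trans (hmi.2 L hL hLt).le))
      (fun L hL hLt hle => hZU (le_bot_iff.mp ((le_inf inf_le_right (inf_le_left.trans hle)).trans
        (hmi.2 L hL hLt).le)))
    by_cases hOr : O r L = ⊥
    · exact bot_centralizes hOr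
    obtain rfl : r = q := (honly r (pr_of_O h hr hL hOr)).resolve_right hrt
    rw [huniq L hL hOr hLt]
    exact inf_le_left.trans (hT0le.trans (cores_commute hqt))
  -- a line centralising `U`
  obtain ⟨R, hR, hUR⟩ : ∃ R, Line p A R ∧ U ≤ centralizer (R : Set G) := by
    by_contra hne
    push Not at hne
    exact engine h hE hqual hne
  -- a point with colours of type `q` only
  obtain ⟨b, hb, hbl⟩ : ∃ b, Pt A b ∧ ¬ NonLack p A θ t b := by
    by_contra hne
    push Not at hne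
    refine not_all_normalize h hE fun H hH => ?_
    have hH1 : H ≠ ⊥ := fun e => by
      have h2 := hH.2
      rw [e, Subgroup.card_bot] at h2
      exact (Nat.one_lt_pow (by norm_num) (Fact.out : p.Prime).one_lt).ne h2
    obtain ⟨⟨d, hd⟩, hd'⟩ := Subgroup.ne_bot_iff_exists_ne_one.mp hH1
    have hd1 : d ≠ 1 := fun e => hd' (Subtype.ext e)
    obtain ⟨e, he, hed⟩ := SetLike.exists_of_lt (lt_of_le_of_ne (Subgroup.zpowers_le.mpr hd : zpowers d ≤ H)
      fun e => by
        have h2 := hH.2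
        rw [← e, Nat.card_zpowers, orderOf_eq_prime_of_ea h.hA (hH.1 hd) hd1] at h2
        have := (Fact.out : p.Prime).one_lt
        nlinarith)
    exact good_line h hE hH hd hd1 he hed (hne d ⟨hH.1 hd, hd1⟩)
      (hne e ⟨hH.1 he, fun e1 => hed (e1 ▸ one_mem _)⟩)
  have hUb : U ⊓ centralizer ({b} : Set G) = ⊥ := lacking_meet h hqual hb hbl
  have hbR : b ∉ R := fun hbR => ht (le_bot_iff.mp (hUb ▸ le_inf le_rfl
    (hUR.trans (Subgroup.centralizer_le (Set.singleton_subset_iff.mpr hbR)))))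
  obtain ⟨hZA, hZD⟩ := ZOm_W_normalized h (q := q)
  set Z := ZOm q (W p A θ q) with hZ
  have hZm : Mem p A θ Z := ZOm_mem h (W_mem h)
  have hZK : Z ≤ normalizer (U : Set G) := (ZOm_W_le h hK hq).trans O_normal
  have hgen : A ≤ Subgroup.closure (insert b (R : Set G)) := by
    set S := Subgroup.closure (insert b (R : Set G))
    have hSA : S ≤ A := (Subgroup.closure_le A).mpr (Set.insert_subset hb.1 hR.1)
    have hRS : R ≤ S := fun r hr => Subgroup.subset_closure (Or.inr hr)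
    have hlt : R < S := lt_of_le_of_ne hRS fun e => hbR (e ▸ Subgroup.subset_closure (Or.inl rfl))
    have hcard : Nat.card R < Nat.card S := lt_of_le_of_ne (Subgroup.card_le_of_le hRS)
      fun e => hlt.ne (Subgroup.eq_of_le_of_card_ge hRS e.ge)
    obtain ⟨i, hi3, hi⟩ := (Nat.dvd_prime_pow Fact.out).mp (h.hA3 ▸ Subgroup.card_dvd_of_le hSA)
    rw [hR.2, hi] at hcard
    have h2 : 2 < i := (Nat.pow_lt_pow_iff_right (Fact.out : p.Prime).one_lt).mp hcard
    exact (Subgroup.eq_of_le_of_card_ge hSA (by rw [hi, h.hA3, show i = 3 by omega])).ge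
  have hZc : IsMulCommutative Z := ⟨⟨fun u v => Subtype.ext
    ((Subgroup.mem_centralizer_iff.mp (ZOm_W_centralizes v.2) u ((ZOm_le.trans inf_le_left) u.2)))⟩⟩
  have hfpf : U ⊓ centralizer ((Z ⊓ centralizer (A : Set G) : Subgroup G) : Set G) = ⊥ := by
    refine fpf_fixed h (mem_normalizes hUm) hZA hZm.2.1 hZK hmi.1 (Set.insert_subset hb.1 hR.1) hgen ?_
    rintro c (rfl | hc)
    · exact frob_commutator h hqt O_isPGroup hUm.2.1 (ZOm_isPGroup (W_isPGroup h)) hZm.2.1 hZc hZK hb.1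
        (mem_normalizes hUm hb.1) (hZA hb.1) hUb
    · rw [Subgroup.commutator_le]
      intro z hz r hr
      have hrR : r ∈ R := Subgroup.zpowers_le.mpr hc hr
      refine mem_centralizer_of fun v hv => ?_
      have hv' : z⁻¹ * v * z ∈ U := (Subgroup.mem_normalizer_iff''.mp (hZK hz) v).mp hv
      have e1 := Subgroup.mem_centralizer_iff.mp (hUR hv) r hrR
      have e2 := Subgroup.mem_centralizer_iff.mp (hUR hv') r hrR
      rw [commutatorElement_def]
      calc v * (z * r * z⁻¹ * r⁻¹) = z * ((z⁻¹ * v * z) * r) * z⁻¹ * r⁻¹ := by group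
        _ = z * (r * (z⁻¹ * v * z)) * z⁻¹ * r⁻¹ := by rw [e2]
        _ = z * r * z⁻¹ * (v * r⁻¹) := by group
        _ = z * r * z⁻¹ * (r⁻¹ * v) := by
          rw [show v * r⁻¹ = r⁻¹ * v from ((show Commute r v from e1).inv_left.eq).symm]
        _ = z * r * z⁻¹ * r⁻¹ * v := by group
  obtain ⟨H, hH, x, hxW, hxK, hxH⟩ := exists_piece (q := q) h hK fun hle => ht (hGq K hK hle)
  obtain ⟨a, haH, haR, ha1⟩ := lines_meet h hH hR
  have haA : Pt A a := ⟨hR.1 haR, ha1⟩
  obtain ⟨L, hL, hθL⟩ := exists_colour h haA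
  have hUL : U ≤ L := (le_inf le_rfl (hUR.trans (Subgroup.centralizer_le (Set.singleton_subset_iff.mpr haR)))).trans
    ((theta_le_of_mem hUm haA).trans hθL)
  have hxL : x ∈ L := hθL (Subgroup.mem_iInf.mp hxH ⟨a, haH, ha1⟩)
  have hLq : O q L = ⊥ := by
    by_contra hLq
    by_cases hLt : O t L = ⊥
    · exact ht (le_bot_iff.mp ((le_inf le_rfl hUL).trans (hmi.2 L hL hLt).le))
    · exact hxK (huniq L hL hLq hLt ▸ hxL)
  have hsd : Z ⊓ centralizer (A : Set G) ≤ DD A θ := inf_centralizer_A_le h hZm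
  refine t_colour_false h hqt honly hGq hK hq ht ?_ (fun L hL h1 h2 _ => huniq L hL h1 h2) inf_le_left
    (inf_normalizes hZA (Subgroup.le_normalizer.trans normalizer_le_normalizer_centralizer'))
    (inf_normalizes hZD ((dd_centralizes h).trans (Subgroup.centralizer_le_normalizer _) |>.trans
      normalizer_le_normalizer_centralizer'))
    hfpf hL hLq (hsd.trans hL.2.1) ((O_le_W h hL).trans hWt) hxW hxL hxK
  intro L' hL' hq' hVL'
  have hc : O q K ≤ centralizer (O t L' : Set G) := commute_of_normalize (O_coprime hqt) (hVL'.trans O_normal)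
    (((O_le_W h hL').trans hWt).trans O_normal)
  have h1 := le_O_of_single h hL'.1 (other_bot h hswap hL' hq') hVL' hc
  exact hq (le_bot_iff.mp ((le_inf le_rfl h1).trans (inf_eq_bot_of_pgroups hqt O_isPGroup O_isPGroup).le))

/-- Only one member has both cores, when none contains `W q` or `W t`. -/
theorem multi_unique (h : Ctx p A θ) (hqt : q ≠ t) (honly : ∀ r, Pr A θ r → r = q ∨ r = t)
    (hGq : ∀ G, MM p A θ G → W p A θ q ≤ G → O t G = ⊥)
    (hGt : ∀ G, MM p A θ G → W p A θ t ≤ G → O q G = ⊥)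
    {K K' : Subgroup G} (hK : MM p A θ K) (hq : O q K ≠ ⊥) (ht : O t K ≠ ⊥)
    (hK' : MM p A θ K') (hq' : O q K' ≠ ⊥) (ht' : O t K' ≠ ⊥) : K' = K := by
  have hswap : ∀ r, Pr A θ r → r = t ∨ r = q := fun r hr => (honly r hr).symm
  -- cores of two such members meet trivially, for either prime
  have step : ∀ {a b : ℕ} [Fact a.Prime] [Fact b.Prime], a ≠ b → (∀ r, Pr A θ r → r = a ∨ r = b) →
      (∀ G, MM p A θ G → W p A θ a ≤ G → O b G = ⊥) → (∀ G, MM p A θ G → W p A θ b ≤ G → O a G = ⊥) →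
      ∀ {M M' : Subgroup G}, MM p A θ M → O a M ≠ ⊥ → O b M ≠ ⊥ → MM p A θ M' → O a M' ≠ ⊥ → O b M' ≠ ⊥ →
      M' ≠ M → O b M ⊓ M' = ⊥ := by
    intro a b _ _ hab hon hA' hB' M M' hM hMa hMb hM' hMa' hMb' hne
    have hswap' : ∀ r, Pr A θ r → r = b ∨ r = a := fun r hr => (hon r hr).symm
    by_contra hbot
    set P : Set (Subgroup G × Subgroup G) := {z | MM p A θ z.1 ∧ O a z.1 ≠ ⊥ ∧ O b z.1 ≠ ⊥ ∧ MM p A θ z.2 ∧
      O a z.2 ≠ ⊥ ∧ O b z.2 ≠ ⊥ ∧ z.2 ≠ z.1 ∧ O b z.1 ⊓ O b z.2 ≠ ⊥} with hP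
    have hM0 : (M, M') ∈ P := ⟨hM, hMa, hMb, hM', hMa', hMb', hne,
      fun e => hbot (le_bot_iff.mp (e ▸ le_inf inf_le_left (inf_le_core h hab hon hA' hM hMa hM' hMa')))⟩
    obtain ⟨⟨N, N'⟩, ⟨hN, hNa, hNb, hN', hNa', hNb', hNN, hI⟩, hmax⟩ :=
      Set.exists_max_image P (fun z => Nat.card ↥(O b z.1 ⊓ O b z.2 : Subgroup G)) (Set.toFinite P) ⟨_, hM0⟩
    set I := O b N ⊓ O b N' with hIdef
    have hIA : A ≤ normalizer (I : Set G) :=
      inf_normalizes (mem_normalizes (O_mem h hN.1)) (mem_normalizes (O_mem h hN'.1))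
    have hID : DD A θ ≤ normalizer (I : Set G) :=
      inf_normalizes (hN.2.1.trans O_normal) (hN'.2.1.trans O_normal)
    have hIm : Mem p A θ I := family_sub h.hθ (O_mem h hN.1) inf_le_left hIA
    obtain ⟨L, hL, hIL, hLmax⟩ := exists_MM_normalizer h hIm hI hID
    have hVL : O a N ≤ L := hLmax _ (O_mem h hN.1) ((Subgroup.le_centralizer_iff.mp
      ((inf_le_left : I ≤ O b N).trans (cores_commute hab))).trans (Subgroup.centralizer_le_normalizer _))
    have hLa : O a L ≠ ⊥ := fun e => hNa (le_bot_iff.mp ((le_inf le_rfl hVL).trans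
      ((multi_inter h hab.symm hswap' hB' hN hNb).2 L hL e).le))
    have hLb : O b L ≠ ⊥ := fun e => hI (le_bot_iff.mp ((le_inf inf_le_left hIL).trans
      ((multi_inter h hab hon hA' hN hNa).2 L hL e).le))
    have key : ∀ {R R' : Subgroup G}, MM p A θ R → O a R ≠ ⊥ → O b R ≠ ⊥ → MM p A θ R' → O a R' ≠ ⊥ →
        O b R' ≠ ⊥ → R' ≠ R → O b R ⊓ O b R' = I → L = R := by
      intro R R' hR hRa hRb hR' hRa' hRb' hRR hRI
      by_contra hne'
      have hRm : Mem p A θ (O b R ⊓ normalizer (I : Set G)) := family_sub h.hθ (O_mem h hR.1) inf_le_left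
        (inf_normalizes (mem_normalizes (O_mem h hR.1)) (normalizer_normalizes hIA))
      have h1 : O b R ⊓ normalizer (I : Set G) ≤ O b R ⊓ O b L :=
        le_inf inf_le_left ((le_inf inf_le_left (hLmax _ hRm inf_le_right)).trans
          (inf_le_core h hab hon hA' hR hRa hL hLa))
      have hIR : I ≤ O b R ⊓ normalizer (I : Set G) := le_inf (hRI ▸ inf_le_left) Subgroup.le_normalizer
      have hI1 : O b R ⊓ O b L ≠ ⊥ := fun e => hI (le_bot_iff.mp (e ▸ hIR.trans h1))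
      have h2 : Nat.card ↥(O b R ⊓ O b L : Subgroup G) ≤ Nat.card I :=
        hmax (R, L) ⟨hR, hRa, hRb, hL, hLa, hLb, hne', hI1⟩
      have h3 : I = O b R ⊓ O b L := Subgroup.eq_of_le_of_card_ge (hIR.trans h1) h2
      have h4 : I = O b R := eq_of_inf_normalizer_le O_isPGroup (hRI ▸ inf_le_left) (h1.trans h3.ge)
      exact hRR (eq_of_core_le h hab hon hA' hR hRa hRb hR' hRa' (h4 ▸ hRI ▸ inf_le_right))
    have e1 := key hN hNa hNb hN' hNa' hNb' hNN rfl
    have e2 := key hN' hNa' hNb' hN hNa hNb (Ne.symm hNN) (inf_comm _ _)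
    exact hNN (e2.symm.trans e1)
  by_contra hne
  -- pieces at two lines meet in a point whose colour contains both
  obtain ⟨R, hR, hUR⟩ : ∃ R, Line p A R ∧ O t K ⊓ centralizer (R : Set G) ≠ ⊥ := by
    by_contra hn
    push Not at hn
    exact ht (le_bot_iff.mp (le_of_lines h (O_mem h hK.1) fun H hH => (hn H hH).le))
  obtain ⟨S, hS, hVS⟩ : ∃ S, Line p A S ∧ O q K' ⊓ centralizer (S : Set G) ≠ ⊥ := by
    by_contra hn
    push Not at hn
    exact hq' (le_bot_iff.mp (le_of_lines h (O_mem h hK'.1) fun H hH => (hn H hH).le))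
  obtain ⟨a, haR, haS, ha1⟩ := lines_meet h hR hS
  have haA : Pt A a := ⟨hR.1 haR, ha1⟩
  obtain ⟨L, hL, hθL⟩ := exists_colour h haA
  have hUL : O t K ⊓ L ≠ ⊥ := fun e => hUR (le_bot_iff.mp (e ▸ le_inf inf_le_left
    ((inf_le_inf_left _ (Subgroup.centralizer_le (Set.singleton_subset_iff.mpr haR))).trans
      ((theta_le_of_mem (O_mem h hK.1) haA).trans hθL))))
  have hVL : O q K' ⊓ L ≠ ⊥ := fun e => hVS (le_bot_iff.mp (e ▸ le_inf inf_le_left
    ((inf_le_inf_left _ (Subgroup.centralizer_le (Set.singleton_subset_iff.mpr haS))).trans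
      ((theta_le_of_mem (O_mem h hK'.1) haA).trans hθL))))
  have hLq : O q L ≠ ⊥ := fun e => hVL ((multi_inter h hqt.symm hswap hGt hK' ht').2 L hL e)
  have hLt : O t L ≠ ⊥ := fun e => hUL ((multi_inter h hqt honly hGq hK hq).2 L hL e)
  have hLK : L = K := by
    by_contra hne'
    exact hUL (step hqt honly hGq hGt hK hq ht hL hLq hLt hne')
  have hLK' : L = K' := by
    by_contra hne'
    exact hVL (step hqt.symm hswap hGt hGq hK' ht' hq' hL hLt hLq hne')
  exact hne (hLK'.symm.trans hLK)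

/-- The case of `q`-colours at points not lying on one line. -/
theorem not_collinear_false (h : Ctx p A θ) (hqt : q ≠ t) (honly : ∀ r, Pr A θ r → r = q ∨ r = t)
    (hGq : ∀ G, MM p A θ G → W p A θ q ≤ G → O t G = ⊥)
    (hGt : ∀ G, MM p A θ G → W p A θ t ≤ G → O q G = ⊥)
    {K : Subgroup G} (hK : MM p A θ K) (hq : O q K ≠ ⊥) (ht : O t K ≠ ⊥)
    (huniq : ∀ L, MM p A θ L → O q L ≠ ⊥ → O t L ≠ ⊥ → L = K)
    (hnc : ¬ ∃ H, Line p A H ∧ ∀ a, Pt A a → (∃ L, MM p A θ L ∧ θ a ≤ L ∧ O t L = ⊥) → a ∈ H) : False := by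
  set U := O t K with hU
  have hUm : Mem p A θ U := O_mem h hK.1
  have hswap : ∀ r, Pr A θ r → r = t ∨ r = q := fun r hr => (honly r hr).symm
  have hmi := multi_inter h hqt honly hGq hK hq
  have hmi' := multi_inter h hqt.symm hswap hGt hK ht
  obtain ⟨hZA, hZD⟩ := ZOm_W_normalized h (q := q)
  set Z := ZOm q (W p A θ q) with hZ
  have hZm : Mem p A θ Z := ZOm_mem h (W_mem h)
  have hZK : Z ≤ normalizer (U : Set G) := (ZOm_W_le h hK hq).trans O_normal
  have hZc : IsMulCommutative Z := ⟨⟨fun u v => Subtype.ext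
    ((Subgroup.mem_centralizer_iff.mp (ZOm_W_centralizes v.2) u ((ZOm_le.trans inf_le_left) u.2)))⟩⟩
  set S : Set G := {a | Pt A a ∧ ∃ L, MM p A θ L ∧ θ a ≤ L ∧ O t L = ⊥} with hSdef
  have hSA : S ⊆ (A : Set G) := fun a ha => ha.1.1
  have hgen : A ≤ Subgroup.closure S := by
    by_contra hn
    have hle : Subgroup.closure S ≤ A := (Subgroup.closure_le A).mpr hSA
    obtain ⟨D, hSD, hDA, hDi⟩ := exists_hyperplane h.hA hle fun e => hn e.ge
    refine hnc ⟨D, ⟨hDA, ?_⟩, fun a ha hL => hSD (Subgroup.subset_closure ⟨ha, hL⟩)⟩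
    have h1 := relIndex_eq_card hDA hDi
    rw [h.hA3, pow_succ] at h1
    exact Nat.eq_of_mul_eq_mul_right (Fact.out : p.Prime).pos h1
  have hfpf : U ⊓ centralizer ((Z ⊓ centralizer (A : Set G) : Subgroup G) : Set G) = ⊥ := by
    refine fpf_fixed h (mem_normalizes hUm) hZA hZm.2.1 hZK hmi.1 hSA hgen ?_
    rintro b ⟨hb, L, hL, hθL, hLt⟩
    refine frob_commutator h hqt O_isPGroup hUm.2.1 (ZOm_isPGroup (W_isPGroup h)) hZm.2.1 hZc hZK hb.1
      (mem_normalizes hUm hb.1) (hZA hb.1) ?_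
    exact le_bot_iff.mp ((le_inf inf_le_left ((theta_le_of_mem hUm hb).trans hθL)).trans (hmi.2 L hL hLt).le)
  set Z' := Z ⊓ centralizer (A : Set G) with hZ'def
  have hsd : Z' ≤ DD A θ := inf_centralizer_A_le h hZm
  have hZ'A : A ≤ normalizer (Z' : Set G) :=
    inf_normalizes hZA (Subgroup.le_normalizer.trans normalizer_le_normalizer_centralizer')
  have hZ'D : DD A θ ≤ normalizer (Z' : Set G) :=
    inf_normalizes hZD ((dd_centralizes h).trans (Subgroup.centralizer_le_normalizer _) |>.trans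
      normalizer_le_normalizer_centralizer')
  -- every line has a point of colour `q` or in `K`
  obtain ⟨S', hS', hVS⟩ : ∃ S', Line p A S' ∧ O q K ⊓ centralizer (S' : Set G) ≠ ⊥ := by
    by_contra hn
    push Not at hn
    exact hq (le_bot_iff.mp (le_of_lines h (O_mem h hK.1) fun H hH => (hn H hH).le))
  obtain ⟨R, hR, hUR⟩ : ∃ R, Line p A R ∧ U ⊓ centralizer (R : Set G) ≠ ⊥ := by
    by_contra hn
    push Not at hn
    exact ht (le_bot_iff.mp (le_of_lines h hUm fun H hH => (hn H hH).le))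
  have hline : ∀ H, Line p A H → ∃ a, a ∈ H ∧ a ≠ 1 ∧ (θ a ≤ K ∨ ∃ L, MM p A θ L ∧ θ a ≤ L ∧ O t L = ⊥) := by
    intro H hH
    obtain ⟨a, haH, haS, ha1⟩ := lines_meet h hH hS'
    have haA : Pt A a := ⟨hH.1 haH, ha1⟩
    obtain ⟨L, hL, hθL⟩ := exists_colour h haA
    refine ⟨a, haH, ha1, ?_⟩
    have hVL : O q K ⊓ L ≠ ⊥ := fun e => hVS (le_bot_iff.mp (e ▸ le_inf inf_le_left
      ((inf_le_inf_left _ (Subgroup.centralizer_le (Set.singleton_subset_iff.mpr haS))).trans
        ((theta_le_of_mem (O_mem h hK.1) haA).trans hθL))))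
    by_cases hLt : O t L = ⊥
    · exact Or.inr ⟨L, hL, hθL, hLt⟩
    · exact Or.inl (huniq L hL (fun e => hVL (hmi'.2 L hL e)) hLt ▸ hθL)
  obtain ⟨H, hH, x, hxW, hxK, hxH⟩ := exists_piece (q := q) h hK fun hle => ht (hGq K hK hle)
  obtain ⟨a, haH, haR, ha1⟩ := lines_meet h hH hR
  have haA : Pt A a := ⟨hR.1 haR, ha1⟩
  obtain ⟨L, hL, hθL⟩ := exists_colour h haA
  have hxL : x ∈ L := hθL (Subgroup.mem_iInf.mp hxH ⟨a, haH, ha1⟩)
  have hUL : U ⊓ L ≠ ⊥ := fun e => hUR (le_bot_iff.mp (e ▸ le_inf inf_le_left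
    ((inf_le_inf_left _ (Subgroup.centralizer_le (Set.singleton_subset_iff.mpr haR))).trans
      ((theta_le_of_mem hUm haA).trans hθL))))
  have hLt : O t L ≠ ⊥ := fun e => hUL (hmi.2 L hL e)
  have hLq : O q L = ⊥ := by
    by_contra hLq
    exact hxK (huniq L hL hLq hLt ▸ hxL)
  set Y := O t L with hY
  have hYm : Mem p A θ Y := O_mem h hL.1
  have hZ'Y : Z' ≤ normalizer (Y : Set G) := hsd.trans (hL.2.1.trans O_normal)
  -- pieces of `Y` lie in `K` or centralise `Z'`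
  have hpiece : ∀ H', Line p A H' →
      Y ⊓ centralizer (H' : Set G) ≤ K ∨ Y ⊓ centralizer (H' : Set G) ≤ centralizer (Z' : Set G) := by
    intro H' hH'
    obtain ⟨e, heH, he1, hc⟩ := hline H' hH'
    have hle : Y ⊓ centralizer (H' : Set G) ≤ θ e :=
      (inf_le_inf_left _ (Subgroup.centralizer_le (Set.singleton_subset_iff.mpr heH))).trans
        (theta_le_of_mem hYm ⟨hH'.1 heH, he1⟩)
    rcases hc with hc | ⟨Ke, hKe, hθe, hKet⟩
    · exact Or.inl (hle.trans hc)
    refine Or.inr fun y hy => mem_centralizer_of fun z hz => ?_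
    have hzKe : z ∈ O q Ke := ZOm_W_le_O h hKe (q_core h honly hKe hKet) (other_bot h honly hKe hKet) hz.1
    have hyKe : y ∈ Ke := hθe (hle hy)
    have h1 : y * z * y⁻¹ * z⁻¹ ∈ Y ⊓ O q Ke := by
      refine Subgroup.mem_inf.mpr ⟨?_, mul_mem ((Subgroup.mem_normalizer_iff.mp (O_normal hyKe) z).mp hzKe)
        (inv_mem hzKe)⟩
      have h2 := mul_mem hy.1 ((Subgroup.mem_normalizer_iff.mp (hZ'Y hz) y⁻¹).mp (inv_mem hy.1))
      simpa [mul_assoc] using h2
    rw [inf_comm, inf_eq_bot_of_pgroups hqt O_isPGroup O_isPGroup, Subgroup.mem_bot, mul_inv_eq_one,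
      mul_inv_eq_iff_eq_mul] at h1
    exact h1.symm
  have hZ'q : IsPGroup q Z' := (ZOm_isPGroup (W_isPGroup h)).to_le inf_le_left
  set J : Subgroup G := ⁅Y ⊓ K, Z'⁆ with hJ
  have hnJ : Z' ≤ normalizer ((Y ⊓ K : Subgroup G) : Set G) :=
    inf_normalizes hZ'Y ((hsd.trans hK.2.1).trans Subgroup.le_normalizer)
  have hJU : J ≤ U := zimg_comm h hqt honly hGq hK hq inf_le_right (O_isPGroup.to_le inf_le_left) inf_le_left hnJ
  have hJ0 : J ≠ ⊥ := by
    intro e
    have hc : Y ≤ centralizer (Z' : Set G) := le_of_lines h hYm fun H' hH' =>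
      (hpiece H' hH').elim (fun hle => (le_inf inf_le_left hle).trans
        (Subgroup.commutator_eq_bot_iff_le_centralizer.mp e)) id
    have h1 : Z' ≤ Y := le_O_of_single h hL.1 (other_bot h hswap hL hLq) (hsd.trans hL.2.1)
      (Subgroup.le_centralizer_iff.mp hc)
    have h2 : Z' = ⊥ := le_bot_iff.mp ((le_inf le_rfl h1).trans (inf_eq_bot_of_pgroups hqt hZ'q O_isPGroup).le)
    rw [h2] at hfpf
    refine ht (le_bot_iff.mp (hfpf ▸ le_inf le_rfl fun u _ => mem_centralizer_of fun z hz => ?_))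
    rw [Subgroup.mem_bot.mp hz, one_mul, mul_one]
  have hJA : A ≤ normalizer (J : Set G) :=
    commutator_normalized (inf_normalizes (mem_normalizes hYm) (mem_normalizes hK.1)) hZ'A
  obtain ⟨K₁, hK₁, hJK₁, hmax₁⟩ := exists_MM_normalizer h (family_sub h.hθ hUm hJU hJA) hJ0
    (commutator_normalized (inf_normalizes (hL.2.1.trans O_normal) (hK.2.1.trans Subgroup.le_normalizer)) hZ'D)
  have hK₁K : K₁ = K := by
    have hVK₁ : O q K ≤ K₁ := hmax₁ _ (O_mem h hK.1)
      ((Subgroup.le_centralizer_iff.mp (hJU.trans (cores_commute hqt))).trans (Subgroup.centralizer_le_normalizer _))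
    refine huniq K₁ hK₁ (fun e => hq (le_bot_iff.mp ((le_inf le_rfl hVK₁).trans (hmi'.2 K₁ hK₁ e).le)))
      (fun e => hJ0 (le_bot_iff.mp ((le_inf hJU hJK₁).trans (hmi.2 K₁ hK₁ e).le)))
  have hYK : Y ≤ K := by
    set N := Y ⊓ normalizer ((Y ⊓ K : Subgroup G) : Set G) with hN
    have hNm : Mem p A θ N := family_sub h.hθ hYm inf_le_left (inf_normalizes (mem_normalizes hYm)
      (normalizer_normalizes (inf_normalizes (mem_normalizes hYm) (mem_normalizes hK.1))))
    have hNK : N ≤ K := le_of_lines h hNm fun H' hH' => by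
      rcases hpiece H' hH' with hle | hle
      · exact (inf_le_inf_right _ inf_le_left).trans hle
      · have hXm : Mem p A θ (N ⊓ centralizer (Z' : Set G)) := family_sub h.hθ hNm inf_le_left
          (inf_normalizes (mem_normalizes hNm) (hZ'A.trans normalizer_le_normalizer_centralizer'))
        have hXJ : N ⊓ centralizer (Z' : Set G) ≤ normalizer (J : Set G) :=
          commutator_normalized (inf_le_left.trans inf_le_right)
            (inf_le_right.trans (Subgroup.centralizer_le_normalizer _))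
        exact (le_inf inf_le_left ((inf_le_inf_right _ inf_le_left).trans hle)).trans
          ((hmax₁ _ hXm hXJ).trans hK₁K.le)
    calc Y = Y ⊓ K := (eq_of_inf_normalizer_le O_isPGroup (inf_le_left : Y ⊓ K ≤ Y) (le_inf inf_le_left hNK)).symm
      _ ≤ K := inf_le_right
  refine t_colour_false h hqt honly hGq hK hq ht (fun L' hL' e hle => hq (le_bot_iff.mp
    ((le_inf le_rfl hle).trans (hmi'.2 L' hL' e).le))) (fun L' hL' h1 h2 _ => huniq L' hL' h1 h2)
    inf_le_left hZ'A hZ'D hfpf hL hLq (hsd.trans hL.2.1) hYK hxW hxL hxK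

/-- Two primes and a maximal member with both cores. -/
theorem twoPrime_multi (h : Ctx p A θ) (hqt : q ≠ t) (honly : ∀ r, Pr A θ r → r = q ∨ r = t)
    (hNT : NoTop p A θ) (hGq : ∀ G, MM p A θ G → W p A θ q ≤ G → O t G = ⊥)
    (hGt : ∀ G, MM p A θ G → W p A θ t ≤ G → O t G ≠ ⊥)
    {K : Subgroup G} (hK : MM p A θ K) (hKq : O q K ≠ ⊥) (hKt : O t K ≠ ⊥) : False := by
  by_cases htop : ∃ M, MM p A θ M ∧ W p A θ t ≤ M ∧ O q M ≠ ⊥
  · obtain ⟨M, hM, hWM, hMq⟩ := htop
    exact multi_top h hqt honly hGq hGt hM hMq (hGt M hM hWM) hWM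
  push Not at htop
  have hswap : ∀ r, Pr A θ r → r = t ∨ r = q := fun r hr => (honly r hr).symm
  have hGt' : ∀ G, MM p A θ G → W p A θ t ≤ G → O q G = ⊥ := htop
  have huniq : ∀ L, MM p A θ L → O q L ≠ ⊥ → O t L ≠ ⊥ → L = K := fun L hL h1 h2 =>
    multi_unique h hqt honly hGq hGt' hK hKq hKt hL h1 h2
  by_cases hc1 : ∃ H, Line p A H ∧ ∀ a, Pt A a → (∃ L, MM p A θ L ∧ θ a ≤ L ∧ O t L = ⊥) → a ∈ H
  swap
  · exact not_collinear_false h hqt honly hGq hGt' hK hKq hKt huniq hc1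
  by_cases hc2 : ∃ H, Line p A H ∧ ∀ a, Pt A a → (∃ L, MM p A θ L ∧ θ a ≤ L ∧ O q L = ⊥) → a ∈ H
  swap
  · exact not_collinear_false h hqt.symm hswap hGt' hGq hK hKt hKq (fun L hL h1 h2 => huniq L hL h2 h1) hc2
  obtain ⟨H₁, hH₁, h₁⟩ := hc1
  obtain ⟨H₂, hH₂, h₂⟩ := hc2
  obtain ⟨b, hb1', hb2', hb⟩ := lines_meet h hH₁ hH₂
  refine pencil h hK.1 ⟨hH₁.1 hb1', hb⟩ fun H hH hbH => ?_
  have hne1 : ¬ H ≤ H₁ := fun hle => hbH ((Subgroup.eq_of_le_of_card_ge hle (by rw [hH.2, hH₁.2])) ▸ hb1')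
  have hne2 : ¬ H ≤ H₂ := fun hle => hbH ((Subgroup.eq_of_le_of_card_ge hle (by rw [hH.2, hH₂.2])) ▸ hb2')
  obtain ⟨u, hu, hu1⟩ := SetLike.not_le_iff_exists.mp hne1
  obtain ⟨v, hv, hv2⟩ := SetLike.not_le_iff_exists.mp hne2
  obtain ⟨w, hw, hw1, hw2⟩ : ∃ w ∈ H, w ∉ H₁ ∧ w ∉ H₂ := by
    by_cases hu2 : u ∈ H₂
    · by_cases hv1 : v ∈ H₁
      · exact ⟨u * v, mul_mem hu hv, fun e => hu1 ((Subgroup.mul_mem_cancel_right _ hv1).mp e),
          fun e => hv2 ((Subgroup.mul_mem_cancel_left _ hu2).mp e)⟩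
      · exact ⟨v, hv, hv1, hv2⟩
    · exact ⟨u, hu, hu1, hu2⟩
  have hwA : Pt A w := ⟨hH.1 hw, fun e => hw1 (e ▸ one_mem _)⟩
  obtain ⟨L, hL, hθL⟩ := exists_colour h hwA
  have hLq : O q L ≠ ⊥ := fun e => hw2 (h₂ w hwA ⟨L, hL, hθL, e⟩)
  have hLt : O t L ≠ ⊥ := fun e => hw1 (h₁ w hwA ⟨L, hL, hθL, e⟩)
  intro z hz
  exact (huniq L hL hLq hLt) ▸ hθL (Subgroup.mem_iInf.mp hz ⟨w, hw, hwA.2⟩)

end Multi

end CfsgLib.SolvSF
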