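import Cfsg.Agent.Lib.Signalizer.Functor
import Cfsg.Agent.Lib.CoprimeSeries
import Cfsg.Agent.Lib.Basic

/-!
The solvable signalizer functor theorem: the setting of a minimal counterexample.

`Ctx` collects what minimality gives; the other files of `Lib/SolvSF` derive `False` from it.
-/

set_option autoImplicit false
set_option linter.unusedSectionVars false

namespace CfsgLib.SolvSF

open Cfsg Subgroup CfsgLib.Signalizer

universe u
variable {G : Type u} [Group G] [Finite G] {p : ℕ} [Fact p.Prime] {A : Subgroup G} {θ : G → Subgroup G}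

/-- `D = θ(A)`. -/
abbrev DD (A : Subgroup G) (θ : G → Subgroup G) : Subgroup G := signalizerInf A θ

/-- The members. -/
abbrev Mem (p : ℕ) (A : Subgroup G) (θ : G → Subgroup G) (X : Subgroup G) : Prop :=
  X ∈ signalizerFamily p A θ

/-- A point is a non-identity element of `A`. -/
def Pt (A : Subgroup G) (a : G) : Prop := a ∈ A ∧ a ≠ 1

/-- A line is a subgroup of `A` of order `p²`. -/
def Line (p : ℕ) (A H : Subgroup G) : Prop := H ≤ A ∧ Nat.card H = p ^ 2

/-- Maximal members containing `D`. -/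
def MM (p : ℕ) (A : Subgroup G) (θ : G → Subgroup G) (K : Subgroup G) : Prop :=
  Mem p A θ K ∧ DD A θ ≤ K ∧ ∀ X : Subgroup G, Mem p A θ X → K ≤ X → X = K

/-- `O_q(K)` as a subgroup of `G`. -/
def O (q : ℕ) (K : Subgroup G) : Subgroup G := (pCore q ↥K).map K.subtype

/-- The largest `D`-invariant `q`-member. -/
def W (p : ℕ) (A : Subgroup G) (θ : G → Subgroup G) (q : ℕ) : Subgroup G :=
  sSup {X : Subgroup G | Mem p A θ X ∧ IsPGroup q X ∧ DD A θ ≤ normalizer (X : Set G)}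

/-- `Ω₁(Z(R))` as a subgroup of `G`. -/
def ZOm (q : ℕ) (R : Subgroup G) : Subgroup G :=
  Subgroup.closure {x : G | x ∈ R ⊓ centralizer (R : Set G) ∧ x ^ q = 1}

/-- The intersection of the `O_q` of the maximal members containing `W q`, inside `W q`. -/
def T0 (p : ℕ) (A : Subgroup G) (θ : G → Subgroup G) (q : ℕ) : Subgroup G :=
  W p A θ q ⊓ ⨅ K : {K : Subgroup G // MM p A θ K ∧ W p A θ q ≤ K}, O q (K : Subgroup G)

/-- The primes of the functor. -/
def Pr (A : Subgroup G) (θ : G → Subgroup G) (q : ℕ) : Prop :=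
  q.Prime ∧ ∃ a, Pt A a ∧ q ∣ Nat.card (θ a)

/-- What a minimal counterexample provides. -/
structure Ctx (p : ℕ) (A : Subgroup G) (θ : G → Subgroup G) : Prop where
  hA : IsElementaryAbelian p A
  hA3 : Nat.card A = p ^ 3
  hθ : IsSolvableSignalizerFunctor p A θ
  ncomplete : ¬ ∃ X, Mem p A θ X ∧ ∀ a, Pt A a → θ a ≤ X
  maxOf : ∀ N, Mem p A θ N → N ≠ ⊥ →
    ∃ M, Mem p A θ M ∧ ∀ X, Mem p A θ X → X ≤ normalizer (N : Set G) → X ≤ M
  omitPrime : ∀ q, Pr A θ q → ∃ M, MM p A θ M ∧ ∀ r : ℕ, r.Prime → r ≠ q → W p A θ r ≤ M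
  twoPrimes : ∃ q r, Pr A θ q ∧ Pr A θ r ∧ q ≠ r


/-! ### Auxiliary facts -/

theorem mem_centralizer_of {X : Set G} {g : G} (h : ∀ x ∈ X, x * g = g * x) : g ∈ centralizer X :=
  Subgroup.mem_centralizer_iff.mpr h

theorem A_ne_bot (h : Ctx p A θ) : A ≠ ⊥ := ea_ne_bot (p := p) h.hA3.ge

theorem inf_le_centralizer (h : Ctx p A θ) {H : Subgroup G} (hH : H ≤ A) :
    signalizerInf H θ ≤ centralizer (H : Set G) := by
  intro x hx
  refine mem_centralizer_of fun c hc => ?_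
  rcases eq_or_ne c 1 with rfl | hc1
  · simp
  · exact (Subgroup.mem_centralizer_singleton_iff.mp (h.hθ.1.1 c (hH hc) hc1
      (Subgroup.mem_iInf.mp hx ⟨c, hc, hc1⟩))).symm

theorem dd_le_theta {a : G} (ha : Pt A a) : DD A θ ≤ θ a :=
  iInf_le (fun x : {x : G // x ∈ A ∧ x ≠ 1} => θ (x : G)) ⟨a, ha⟩

theorem card_line_pos {H : Subgroup G} (hH : Line p A H) : p ^ 2 ≤ Nat.card H := hH.2.ge

theorem relIndex_eq_card {D B : Subgroup G} (hDB : D ≤ B) (hi : D.relIndex B = p) :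
    Nat.card D * p = Nat.card B := by
  have h1 := Subgroup.card_mul_index (D.subgroupOf B)
  rw [Nat.card_congr (Subgroup.subgroupOfEquivOfLe hDB).toEquiv] at h1
  rw [← h1, ← hi]
  rfl

theorem map_subtype_subgroupOf {K X : Subgroup G} (h : X ≤ K) : (X.subgroupOf K).map K.subtype = X :=
  Subgroup.map_subgroupOf_eq_of_le h

theorem normal_map_normalizes {K : Subgroup G} (N : Subgroup ↥K) [hN : N.Normal] :
    K ≤ normalizer (N.map K.subtype : Set G) := fun g hg => Comp.mem_normalizer_of_maps (by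
  rintro _ ⟨x, hx, rfl⟩
  exact ⟨⟨g, hg⟩ * x * ⟨g, hg⟩⁻¹, hN.conj_mem x hx _, rfl⟩)

/-- Conjugation by an element normalising `K`, as an automorphism of `K`. -/
theorem exists_conjAut {K : Subgroup G} {g : G} (hg : g ∈ normalizer (K : Set G)) :
    ∃ e : MulAut ↥K, ∀ x : ↥K, (e x : G) = g * x * g⁻¹ :=
  ⟨{ toFun := fun x => ⟨g * x * g⁻¹, (Subgroup.mem_normalizer_iff.mp hg x).mp x.2⟩
     invFun := fun x => ⟨g⁻¹ * x * g, (Subgroup.mem_normalizer_iff''.mp hg x).mp x.2⟩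
     left_inv := fun x => Subtype.ext (by simp [mul_assoc])
     right_inv := fun x => Subtype.ext (by simp [mul_assoc])
     map_mul' := fun x y => Subtype.ext (by simp [mul_assoc]) }, fun _ => rfl⟩

theorem normalizes_of_aut_stable {K B : Subgroup G} (hB : B ≤ normalizer (K : Set G)) {N : Subgroup ↥K}
    (hN : ∀ e : MulAut ↥K, N.map e.toMonoidHom = N) : B ≤ normalizer (N.map K.subtype : Set G) := fun g hg =>
  Comp.mem_normalizer_of_maps (by
    rintro _ ⟨x, hx, rfl⟩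
    obtain ⟨e, he⟩ := exists_conjAut (hB hg)
    exact ⟨e x, hN e ▸ ⟨x, hx, rfl⟩, he x⟩)

theorem pCore_normalizes {q : ℕ} {K B : Subgroup G} (hB : B ≤ normalizer (K : Set G)) :
    B ≤ normalizer (O q K : Set G) :=
  normalizes_of_aut_stable hB fun e => pCore_map_equiv q e

/-- In a solvable group a `q`-subgroup centralising every other core and `O_q` lies in `O_q`. -/
theorem pgroup_le_pCore {H : Type*} [Group H] [Finite H] [Group.IsSolvable H] {q : ℕ} [Fact q.Prime]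
    {X : Subgroup H} (hX : IsPGroup q X) (hc : ∀ r : ℕ, r.Prime → X ≤ centralizer (pCore r H : Set H)) :
    X ≤ pCore q H := by
  have hXF : X ≤ fittingSubgroup H := by
    refine le_trans ?_ centralizer_fitting_le
    have : fittingSubgroup H ≤ centralizer (X : Set H) := by
      rw [fittingSubgroup_eq_iSup_pCore]
      exact iSup_le fun r => Subgroup.le_centralizer_iff.mp (hc r r.2)
    exact Subgroup.le_centralizer_iff.mp this
  haveI := isNilpotent_fittingSubgroup (G := H)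
  obtain ⟨P, hP⟩ := (hX.comap_subtype (K := fittingSubgroup H) : IsPGroup q _).exists_le_sylow
  have hall : ∀ (r : ℕ) (_ : Fact r.Prime) (R : Sylow r ↥(fittingSubgroup H)),
      (R : Subgroup ↥(fittingSubgroup H)).Normal :=
    ((Group.isNilpotent_of_finite_tfae (G := ↥(fittingSubgroup H))).out 0 3).mp
      (isNilpotent_fittingSubgroup (G := H))
  haveI := hall q inferInstance P
  intro x hx
  have h1 : (⟨x, hXF hx⟩ : ↥(fittingSubgroup H)) ∈ (P : Subgroup ↥(fittingSubgroup H)) := hP hx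
  rw [sylow_eq_pCore_of_normal P] at h1
  exact map_pCore_le q (fittingSubgroup H) ⟨_, h1, rfl⟩

theorem centralizer_O_le {K X : Subgroup G} {r : ℕ} (hXK : X ≤ K) (hc : X ≤ centralizer (O r K : Set G)) :
    X.subgroupOf K ≤ centralizer (pCore r ↥K : Set ↥K) := fun x hx =>
  mem_centralizer_of fun y hy => Subtype.ext (Subgroup.mem_centralizer_iff.mp (hc hx) _ ⟨y, hy, rfl⟩)

theorem theta_le_of_mem {X : Subgroup G} (hX : Mem p A θ X) {a : G} (ha : Pt A a) :
    X ⊓ centralizer ({a} : Set G) ≤ θ a := hX.2.2.2 a ha.1 ha.2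

/-! ### Points, lines, `D` -/

theorem dd_mem (h : Ctx p A θ) : Mem p A θ (DD A θ) := inf_mem_family h.hA h.hθ le_rfl (A_ne_bot h)

theorem dd_centralizes (h : Ctx p A θ) : DD A θ ≤ centralizer (A : Set G) := inf_theta_centralizes h.hA h.hθ (A_ne_bot h)

theorem inf_centralizer_le_theta (h : Ctx p A θ) {X : Subgroup G} (hX : Mem p A θ X) {H : Subgroup G}
    (hH : H ≤ A) : X ⊓ centralizer (H : Set G) ≤ signalizerInf H θ := fun x hx => Subgroup.mem_iInf.mpr fun y =>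
  hX.2.2.2 y (hH y.2.1) y.2.2 (Subgroup.mem_inf.mpr ⟨hx.1,
    Subgroup.mem_centralizer_singleton_iff.mpr (hx.2 y y.2.1).symm⟩)

theorem inf_centralizer_A_le (h : Ctx p A θ) {X : Subgroup G} (hX : Mem p A θ X) :
    X ⊓ centralizer (A : Set G) ≤ DD A θ := inf_centralizer_le_theta h hX le_rfl

theorem le_of_lines (h : Ctx p A θ) {X Y : Subgroup G} (hX : Mem p A θ X)
    (hle : ∀ H, Line p A H → X ⊓ centralizer (H : Set G) ≤ Y) : X ≤ Y := by
  have hA3 := h.hA3
  have h2 : p ^ 2 ≤ Nat.card A := hA3 ▸ Nat.pow_le_pow_right (Fact.out : p.Prime).pos (by norm_num)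
  rw [family_gen h.hA hX le_rfl h2]
  refine iSup_le fun D => ?_
  obtain ⟨D, hDA, hDi⟩ := D
  refine (le_inf inf_le_left (inf_le_right.trans (inf_le_centralizer h hDA))).trans (hle D ⟨hDA, ?_⟩)
  have h1 := relIndex_eq_card hDA hDi
  rw [hA3, pow_succ] at h1
  exact Nat.eq_of_mul_eq_mul_right (Fact.out : p.Prime).pos h1

theorem le_of_points_of_line (h : Ctx p A θ) {X Y : Subgroup G} (hX : Mem p A θ X) {H : Subgroup G}
    (hH : Line p A H) (hle : ∀ a, a ∈ H → a ≠ 1 → X ⊓ centralizer ({a} : Set G) ≤ Y) : X ≤ Y := by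
  rw [family_gen h.hA hX hH.1 (card_line_pos hH)]
  refine iSup_le fun D => ?_
  obtain ⟨D, hDH, hDi⟩ := D
  have hD1 : D ≠ ⊥ := by
    intro e
    have h1 := relIndex_eq_card hDH hDi
    rw [e, Subgroup.card_bot, one_mul, hH.2] at h1
    have := (Fact.out : p.Prime).one_lt
    nlinarith
  obtain ⟨⟨a, ha⟩, ha'⟩ := Subgroup.ne_bot_iff_exists_ne_one.mp hD1
  have ha1 : a ≠ 1 := fun e => ha' (Subtype.ext e)
  refine (le_inf inf_le_left (inf_le_right.trans ((inf_le_centralizer h (hDH.trans hH.1)).trans ?_))).trans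
    (hle a (hDH ha) ha1)
  exact Subgroup.centralizer_le (Set.singleton_subset_iff.mpr ha)

theorem lines_meet (h : Ctx p A θ) {H₁ H₂ : Subgroup G} (h1 : Line p A H₁) (h2 : Line p A H₂) :
    ∃ a, a ∈ H₁ ∧ a ∈ H₂ ∧ a ≠ 1 := by
  by_contra hne
  have hinj : Function.Injective (fun z : H₁ × H₂ => (⟨z.1 * z.2, mul_mem (h1.1 z.1.2) (h2.1 z.2.2)⟩ : A)) := by
    rintro ⟨u, v⟩ ⟨u', v'⟩ e
    have e' : (u : G) * v = u' * v' := congrArg Subtype.val e
    have e2 : (u' : G)⁻¹ * u = v' * (v : G)⁻¹ := by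
      rw [eq_mul_inv_iff_mul_eq, mul_assoc, e', inv_mul_cancel_left]
    have hu : (u' : G)⁻¹ * u = 1 := by
      by_contra hc
      exact hne ⟨_, mul_mem (inv_mem u'.2) u.2, e2 ▸ mul_mem v'.2 (inv_mem v.2), hc⟩
    have hu' : u = u' := Subtype.ext (inv_mul_eq_one.mp hu).symm
    subst hu'
    exact Prod.ext rfl (Subtype.ext (mul_left_cancel e'))
  have := Nat.card_le_card_of_injective _ hinj
  rw [Nat.card_prod, h1.2, h2.2, h.hA3, ← pow_add] at this
  exact absurd ((Nat.pow_le_pow_iff_right (Fact.out : p.Prime).one_lt).mp this) (by norm_num)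

theorem line_through (h : Ctx p A θ) {a b : G} (ha : Pt A a) (hb : b ∈ A) :
    ∃ H, Line p A H ∧ a ∈ H ∧ b ∈ H := by
  have hp := (Fact.out : p.Prime)
  have ho : ∀ c, Pt A c → Nat.card (zpowers c) = p := fun c hc => by
    rw [Nat.card_zpowers]; exact orderOf_eq_prime_of_ea h.hA hc.1 hc.2
  have haA : zpowers a ≤ A := Subgroup.zpowers_le.mpr ha.1
  obtain ⟨c, hcA, hc, hbc⟩ : ∃ c ∈ A, c ∉ zpowers a ∧ b ∈ zpowers a ⊔ zpowers c := by
    by_cases hb' : b ∈ zpowers a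
    · obtain ⟨c, hcA, hc⟩ := SetLike.exists_of_lt (lt_of_le_of_ne haA fun e => by
        have h1 := h.hA3
        rw [← e, ho a ha] at h1
        have h2 : p ^ 1 = p ^ 3 := by rw [pow_one]; exact h1
        exact absurd (Nat.pow_right_injective hp.two_le h2) (by norm_num))
      exact ⟨c, hcA, hc, Subgroup.mem_sup_left hb'⟩
    · exact ⟨b, hb, hb', Subgroup.mem_sup_right (Subgroup.mem_zpowers b)⟩
  refine ⟨zpowers a ⊔ zpowers c, ⟨sup_le haA (Subgroup.zpowers_le.mpr hcA), ?_⟩,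
    Subgroup.mem_sup_left (Subgroup.mem_zpowers a), hbc⟩
  have hle := card_sup_zpowers_le h.hA haA hcA
  rw [ho a ha] at hle
  have hdvd : Nat.card ↥(zpowers a ⊔ zpowers c) ∣ p ^ 3 :=
    h.hA3 ▸ Subgroup.card_dvd_of_le (sup_le haA (Subgroup.zpowers_le.mpr hcA))
  obtain ⟨i, hi3, hi⟩ := (Nat.dvd_prime_pow hp).mp hdvd
  have hlt : Nat.card (zpowers a) < Nat.card ↥(zpowers a ⊔ zpowers c) := by
    rcases lt_or_eq_of_le (Subgroup.card_le_of_le (le_sup_left : zpowers a ≤ zpowers a ⊔ zpowers c)) with h' | h'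
    · exact h'
    · exact absurd (Subgroup.mem_sup_right (Subgroup.mem_zpowers c))
        ((Subgroup.eq_of_le_of_card_ge le_sup_left h'.ge) ▸ hc)
  rw [ho a ha, hi] at hlt
  rw [hi] at hle ⊢
  have h1 : 1 < i := (Nat.pow_lt_pow_iff_right hp.one_lt).mp (by rwa [pow_one])
  have h2 : i ≤ 2 := (Nat.pow_le_pow_iff_right hp.one_lt).mp (by rwa [sq])
  rw [show i = 2 by omega]

theorem exists_MM_ge' (h : Ctx p A θ) {X : Subgroup G} (hX : Mem p A θ X)
    (hD : DD A θ ≤ normalizer (X : Set G)) : ∃ K, MM p A θ K ∧ X ≤ K := by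
  have hs := sup_mem h.hA h.hθ hX (dd_mem h) hD
  obtain ⟨K, ⟨hK, hXK⟩, hmax⟩ := (Set.toFinite {K : Subgroup G | Mem p A θ K ∧ X ⊔ DD A θ ≤ K}).exists_maximal
    ⟨_, hs, le_rfl⟩
  exact ⟨K, ⟨hK, le_sup_right.trans hXK,
    fun Y hY hKY => le_antisymm (hmax ⟨hY, hXK.trans hKY⟩ hKY) hKY⟩, le_sup_left.trans hXK⟩

theorem exists_colour (h : Ctx p A θ) {a : G} (ha : Pt A a) : ∃ K, MM p A θ K ∧ θ a ≤ K := by
  obtain ⟨K, hK, hle⟩ := exists_MM_ge' h (theta_mem h.hθ ha.1 ha.2) ((dd_le_theta ha).trans Subgroup.le_normalizer)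
  exact ⟨K, hK, hle⟩

/-! ### Maximal members -/

theorem mem_normalizes {X : Subgroup G} (hX : Mem p A θ X) : A ≤ normalizer (X : Set G) :=
  inv_to_normalizer hX.2.2.1

theorem exists_MM_ge (h : Ctx p A θ) {X : Subgroup G} (hX : Mem p A θ X)
    (hD : DD A θ ≤ normalizer (X : Set G)) : ∃ K, MM p A θ K ∧ X ≤ K := exists_MM_ge' h hX hD

theorem exists_MM_normalizer (h : Ctx p A θ) {N : Subgroup G} (hN : Mem p A θ N) (hN1 : N ≠ ⊥)
    (hD : DD A θ ≤ normalizer (N : Set G)) :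
    ∃ K, MM p A θ K ∧ N ≤ K ∧ ∀ X, Mem p A θ X → X ≤ normalizer (N : Set G) → X ≤ K := by
  obtain ⟨M, hM, hmax⟩ := h.maxOf N hN hN1
  obtain ⟨K, hK, hMK⟩ := exists_MM_ge h hM ((hmax _ (dd_mem h) hD).trans Subgroup.le_normalizer)
  exact ⟨K, hK, (hmax N hN Subgroup.le_normalizer).trans hMK, fun X hX hXN => (hmax X hX hXN).trans hMK⟩

theorem le_of_normalizes (h : Ctx p A θ) {K N : Subgroup G} (hK : MM p A θ K) (hN : Mem p A θ N) (hN1 : N ≠ ⊥)
    (hKN : K ≤ normalizer (N : Set G)) {X : Subgroup G} (hX : Mem p A θ X)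
    (hXN : X ≤ normalizer (N : Set G)) : X ≤ K := by
  obtain ⟨M, hM, hmax⟩ := h.maxOf N hN hN1
  exact (hmax X hX hXN).trans (hK.2.2 M hM (hmax K hK.1 hKN)).le

/-! ### `O q K` -/

theorem O_le {q : ℕ} {K : Subgroup G} : O q K ≤ K := Subgroup.map_subtype_le _

theorem O_normal {q : ℕ} {K : Subgroup G} : K ≤ normalizer (O q K : Set G) := pCore_normalizes Subgroup.le_normalizer

theorem O_isPGroup {q : ℕ} [Fact q.Prime] {K : Subgroup G} : IsPGroup q (O q K) := (isPGroup_pCore (G := ↥K) q).map K.subtype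

theorem le_O {q : ℕ} [Fact q.Prime] {K Q : Subgroup G} (hQK : Q ≤ K) (hQ : IsPGroup q Q)
    (hn : K ≤ normalizer (Q : Set G)) : Q ≤ O q K := by
  haveI : (Q.subgroupOf K).Normal := (Subgroup.normal_subgroupOf_iff_le_normalizer hQK).mpr hn
  calc Q = (Q.subgroupOf K).map K.subtype := (map_subtype_subgroupOf hQK).symm
    _ ≤ _ := Subgroup.map_mono (le_pCore hQ.comap_subtype)

theorem O_mem (h : Ctx p A θ) {q : ℕ} {K : Subgroup G} (hK : Mem p A θ K) : Mem p A θ (O q K) := family_sub h.hθ hK O_le (pCore_normalizes (mem_normalizes hK))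

theorem O_le_W (h : Ctx p A θ) {q : ℕ} [Fact q.Prime] {K : Subgroup G} (hK : MM p A θ K) :
    O q K ≤ W p A θ q := le_sSup (show O q K ∈ {X : Subgroup G | Mem p A θ X ∧ IsPGroup q X ∧ DD A θ ≤ normalizer (X : Set G)} from
    ⟨O_mem h hK.1, O_isPGroup, hK.2.1.trans O_normal⟩)

theorem le_of_normalizes_O (h : Ctx p A θ) {q : ℕ} {K : Subgroup G} (hK : MM p A θ K) (hO : O q K ≠ ⊥)
    {X : Subgroup G} (hX : Mem p A θ X) (hXN : X ≤ normalizer (O q K : Set G)) : X ≤ K := le_of_normalizes h hK (O_mem h hK.1) hO O_normal hX hXN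

theorem pr_of_mem' (h : Ctx p A θ) {q : ℕ} (hq : q.Prime) {X : Subgroup G} (hX : Mem p A θ X)
    (hd : q ∣ Nat.card X) : Pr A θ q := by
  haveI := Fact.mk hq
  have hXA := mem_normalizes hX
  obtain ⟨S, hS⟩ := coprime_exists_invariant_sylow hXA (ea_coprime h.hA hX.2.1) (Or.inl (ea_solvable h.hA)) q
  set T := (S : Subgroup X).map X.subtype with hT
  have hTm : Mem p A θ T := family_sub h.hθ hX (Subgroup.map_subtype_le _) hS
  refine ⟨hq, ?_⟩
  by_contra hne
  push Not at hne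
  have hT0 : T ≤ ⊥ := by
    obtain ⟨a₀, ha₀, ha₁⟩ : ∃ a, a ∈ A ∧ a ≠ 1 := by
      obtain ⟨⟨a, ha⟩, ha'⟩ := Subgroup.ne_bot_iff_exists_ne_one.mp (A_ne_bot h)
      exact ⟨a, ha, fun e => ha' (Subtype.ext e)⟩
    obtain ⟨H, hH, -, -⟩ := line_through h ⟨ha₀, ha₁⟩ ha₀
    refine le_of_points_of_line h hTm hH fun a ha ha1 => ?_
    have h1 := theta_le_of_mem hTm ⟨hH.1 ha, ha1⟩
    intro x hx
    rw [Subgroup.mem_bot]
    by_contra hx1
    obtain ⟨k, hk⟩ := IsPGroup.iff_orderOf.mp (S.2.map X.subtype : IsPGroup q T) ⟨x, hx.1⟩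
    rw [Subgroup.orderOf_mk] at hk
    rcases Nat.eq_zero_or_pos k with rfl | hk0
    · exact hx1 (orderOf_eq_one_iff.mp (by simpa using hk))
    · exact hne a ⟨hH.1 ha, ha1⟩ ((dvd_pow_self q hk0.ne').trans (hk ▸ Subgroup.orderOf_dvd_natCard _ (h1 hx)))
  have hcard : Nat.card (S : Subgroup X) = 1 := by
    rw [Nat.card_congr ((S : Subgroup X).equivMapOfInjective X.subtype X.subtype_injective).toEquiv, ← hT,
      le_bot_iff.mp hT0, Subgroup.card_bot]
  have h3 := S.card_eq_multiplicity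
  rw [hcard] at h3
  have h4 : 0 < (Nat.card X).factorization q := hq.factorization_pos_of_dvd Nat.card_pos.ne' hd
  exact absurd h3.symm (Nat.one_lt_pow h4.ne' hq.one_lt).ne'

theorem exists_O_ne_bot (h : Ctx p A θ) {K : Subgroup G} (hK : MM p A θ K) :
    ∃ q : ℕ, q.Prime ∧ Pr A θ q ∧ O q K ≠ ⊥ := by
  haveI := hK.1.1
  have hK1 : K ≠ ⊥ := by
    intro e
    refine h.ncomplete ⟨⊥, e ▸ hK.1, fun a ha => ?_⟩
    obtain ⟨L, hL, hle⟩ := exists_colour h ha
    rwa [hK.2.2 L hL.1 (e ▸ bot_le), e] at hle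
  haveI : Nontrivial K := (Subgroup.nontrivial_iff_ne_bot K).mpr hK1
  obtain ⟨r, hr⟩ : ∃ r : Nat.Primes, pCore (r : ℕ) ↥K ≠ ⊥ := by
    by_contra hne
    push Not at hne
    have hF : fittingSubgroup ↥K = ⊥ := by
      rw [fittingSubgroup_eq_iSup_pCore]; simp [hne]
    have h1 := centralizer_fitting_le (G := ↥K)
    rw [hF, le_bot_iff] at h1
    have h2 : Subgroup.centralizer (((⊥ : Subgroup ↥K) : Set ↥K)) = ⊤ := top_le_iff.mp fun g _ =>
      mem_centralizer_of fun x hx => by rw [Subgroup.mem_bot.mp hx, one_mul, mul_one]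
    exact top_ne_bot (h2.symm.trans h1)
  have hO : O (r : ℕ) K ≠ ⊥ := fun e => hr ((Subgroup.map_eq_bot_iff_of_injective _ K.subtype_injective).mp e)
  refine ⟨r, r.2, pr_of_mem' h r.2 hK.1 ?_, hO⟩
  haveI := Fact.mk r.2
  obtain ⟨n, hn⟩ := IsPGroup.iff_card.mp (isPGroup_pCore (G := ↥K) (r : ℕ))
  refine (dvd_trans ?_ (Subgroup.card_subgroup_dvd_card (pCore (r : ℕ) ↥K)))
  rw [hn]
  exact dvd_pow_self _ fun e => hr (Subgroup.card_eq_one.mp (by rw [hn, e, pow_zero]))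

theorem pr_of_O (h : Ctx p A θ) {q : ℕ} (hq : q.Prime) {K : Subgroup G} (hK : MM p A θ K) (hO : O q K ≠ ⊥) :
    Pr A θ q := by
  haveI := Fact.mk hq
  obtain ⟨n, hn⟩ := IsPGroup.iff_card.mp (O_isPGroup (q := q) (K := K))
  refine pr_of_mem' h hq hK.1 (dvd_trans ?_ (Subgroup.card_dvd_of_le (O_le (q := q) (K := K))))
  rw [hn]
  exact dvd_pow_self _ fun e => hO (Subgroup.card_eq_one.mp (by rw [hn, e, pow_zero]))

/-- A `q`-subgroup centralising every `O_r`, `r ≠ q`, and `O_q` itself lies in `O_q`. -/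
theorem le_O_of_centralizes (h : Ctx p A θ) {q : ℕ} [Fact q.Prime] {K X : Subgroup G} (hK : Mem p A θ K)
    (hXK : X ≤ K) (hX : IsPGroup q X)
    (hc : ∀ r : ℕ, r.Prime → X ≤ centralizer (O r K : Set G)) : X ≤ O q K := by
  haveI := hK.1
  calc X = (X.subgroupOf K).map K.subtype := (map_subtype_subgroupOf hXK).symm
    _ ≤ _ := Subgroup.map_mono (pgroup_le_pCore hX.comap_subtype fun r hr => centralizer_O_le hXK (hc r hr))

/-- If `O_q(K) = 1` then a `q`-subgroup centralising every other core is trivial. -/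
theorem eq_bot_of_centralizes (h : Ctx p A θ) {q : ℕ} [Fact q.Prime] {K X : Subgroup G} (hK : Mem p A θ K)
    (hXK : X ≤ K) (hX : IsPGroup q X) (hO : O q K = ⊥)
    (hc : ∀ r : ℕ, r.Prime → r ≠ q → X ≤ centralizer (O r K : Set G)) : X = ⊥ := by
  refine le_bot_iff.mp (hO ▸ le_O_of_centralizes h hK hXK hX fun r hr => ?_)
  by_cases hrq : r = q
  · subst hrq
    intro x _
    rw [hO]
    exact mem_centralizer_of fun z hz => by rw [Subgroup.mem_bot.mp hz, one_mul, mul_one]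
  · exact hc r hr hrq

/-- If `K` has one core only, it is self-centralising. -/
theorem le_O_of_single (h : Ctx p A θ) {q : ℕ} [Fact q.Prime] {K X : Subgroup G} (hK : Mem p A θ K)
    (hs : ∀ r : ℕ, r.Prime → r ≠ q → O r K = ⊥) (hXK : X ≤ K) (hc : X ≤ centralizer (O q K : Set G)) :
    X ≤ O q K := by
  haveI := hK.1
  have hF : fittingSubgroup ↥K = pCore q ↥K := by
    rw [fittingSubgroup_eq_iSup_pCore]
    refine le_antisymm (iSup_le fun r => ?_) (le_iSup (fun r : Nat.Primes => pCore (r : ℕ) ↥K) ⟨q, Fact.out⟩)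
    by_cases hrq : (r : ℕ) = q
    · rw [hrq]
    · exact ((Subgroup.map_eq_bot_iff_of_injective _ K.subtype_injective).mp (hs r r.2 hrq)).le.trans bot_le
  calc X = (X.subgroupOf K).map K.subtype := (map_subtype_subgroupOf hXK).symm
    _ ≤ _ := Subgroup.map_mono ((centralizer_O_le hXK hc).trans (hF ▸ centralizer_fitting_le (G := ↥K)))

/-- The preimage in `K` of `O_t(K / O_q(K))`. -/
def Lay (q t : ℕ) (K : Subgroup G) : Subgroup G :=
  ((pCore t (↥K ⧸ pCore q ↥K)).comap (QuotientGroup.mk' (pCore q ↥K))).map K.subtype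

theorem Lay_le {q t : ℕ} {K : Subgroup G} : Lay q t K ≤ K := Subgroup.map_subtype_le _

theorem Lay_normal {q t : ℕ} {K : Subgroup G} : K ≤ normalizer (Lay q t K : Set G) := normal_map_normalizes _

theorem O_le_Lay {q t : ℕ} {K : Subgroup G} : O q K ≤ Lay q t K := Subgroup.map_mono fun x hx => by
  rw [Subgroup.mem_comap, QuotientGroup.mk'_apply, (QuotientGroup.eq_one_iff x).mpr hx]
  exact one_mem _

theorem Lay_mem (h : Ctx p A θ) {q t : ℕ} {K : Subgroup G} (hK : Mem p A θ K) : Mem p A θ (Lay q t K) := by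
  refine family_sub h.hθ hK Lay_le (normalizes_of_aut_stable (mem_normalizes hK) fun e => ?_)
  have hO : (pCore q ↥K).map e.toMonoidHom = pCore q ↥K := pCore_map_equiv q e
  let ebar : (↥K ⧸ pCore q ↥K) ≃* (↥K ⧸ pCore q ↥K) := QuotientGroup.congr _ _ e hO
  have hebar : ∀ x, ebar (QuotientGroup.mk' (pCore q ↥K) x) = QuotientGroup.mk' (pCore q ↥K) (e x) := fun x => rfl
  have hT := pCore_map_equiv t ebar
  ext x
  rw [Subgroup.mem_map_equiv, Subgroup.mem_comap, Subgroup.mem_comap]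
  conv_rhs => rw [← hT, Subgroup.mem_map_equiv]
  rw [show ebar.symm (QuotientGroup.mk' _ x) = QuotientGroup.mk' _ (e.symm x) from
    (ebar.symm_apply_eq).mpr (by rw [hebar, e.apply_symm_apply])]

theorem Lay_sylow {q t : ℕ} [Fact q.Prime] [Fact t.Prime] (hqt : t ≠ q) {K Q : Subgroup G}
    (hQ : Q ≤ Lay q t K) (hq : IsPGroup q Q) : Q ≤ O q K := by
  intro x hx
  obtain ⟨y, hy, rfl⟩ := hQ hx
  refine ⟨y, ?_, rfl⟩
  rw [SetLike.mem_coe, ← QuotientGroup.eq_one_iff]
  obtain ⟨i, hi⟩ := IsPGroup.iff_orderOf.mp hq ⟨_, hx⟩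
  obtain ⟨j, hj⟩ := IsPGroup.iff_orderOf.mp (isPGroup_pCore (G := ↥K ⧸ pCore q ↥K) t) ⟨_, hy⟩
  replace hi : orderOf ((y : ↥K) : G) = q ^ i := (Subgroup.orderOf_coe (⟨_, hx⟩ : Q)).trans hi
  replace hj : orderOf (QuotientGroup.mk' (pCore q ↥K) y) = t ^ j :=
    (Subgroup.orderOf_coe (⟨_, hy⟩ : pCore t (↥K ⧸ pCore q ↥K))).trans hj
  refine orderOf_eq_one_iff.mp (Nat.eq_one_of_dvd_coprimes (Nat.coprime_pow_primes j i Fact.out Fact.out hqt)
    hj.dvd ?_)
  exact (orderOf_map_dvd (QuotientGroup.mk' (pCore q ↥K)) y).trans ((Subgroup.orderOf_coe y).symm.trans hi).dvd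

/-- A `q`-subgroup of `K` acting trivially on every layer above `O_q(K)` lies in `O_q(K)`. -/
theorem le_O_of_layers (h : Ctx p A θ) {q : ℕ} [Fact q.Prime] {K X : Subgroup G} (hK : Mem p A θ K)
    (hXK : X ≤ K) (hX : IsPGroup q X)
    (hc : ∀ t : ℕ, t.Prime → t ≠ q → ∀ x ∈ X, ∀ y ∈ Lay q t K, x * y * x⁻¹ * y⁻¹ ∈ O q K) :
    X ≤ O q K := by
  haveI := hK.1
  set N := pCore q ↥K with hN
  have hbot : pCore q (↥K ⧸ N) = ⊥ := by
    set M := (pCore q (↥K ⧸ N)).comap (QuotientGroup.mk' N) with hM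
    have hMp : IsPGroup q M := IsPGroup.comap_of_ker_isPGroup (isPGroup_pCore q) _
      (by rw [QuotientGroup.ker_mk']; exact isPGroup_pCore q)
    refine le_bot_iff.mp fun z hz => ?_
    obtain ⟨z, rfl⟩ := QuotientGroup.mk'_surjective N z
    exact Subgroup.mem_bot.mpr ((QuotientGroup.eq_one_iff z).mpr (le_pCore hMp (show z ∈ M from hz)))
  have h1 : (X.subgroupOf K).map (QuotientGroup.mk' N) ≤ pCore q (↥K ⧸ N) := by
    refine pgroup_le_pCore (hX.comap_subtype.map _) fun t ht => ?_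
    rintro _ ⟨x, hx, rfl⟩
    refine mem_centralizer_of fun z hz => ?_
    obtain ⟨z, rfl⟩ := QuotientGroup.mk'_surjective N z
    by_cases htq : t = q
    · subst htq
      rw [SetLike.mem_coe, hbot, Subgroup.mem_bot] at hz
      rw [hz, one_mul, mul_one]
    obtain ⟨w, hw, hwe⟩ := hc t ht htq (x : G) hx (z : G) ⟨z, hz, rfl⟩
    have hw' : w = x * z * x⁻¹ * z⁻¹ := Subtype.ext hwe
    have := (QuotientGroup.eq_one_iff _).mpr (hw' ▸ hw)
    rw [← QuotientGroup.mk'_apply, map_mul, map_mul, map_mul, map_inv, map_inv, mul_inv_eq_one,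
      mul_inv_eq_iff_eq_mul] at this
    exact this.symm
  rw [hbot, le_bot_iff, Subgroup.map_eq_bot_iff, QuotientGroup.ker_mk'] at h1
  calc X = (X.subgroupOf K).map K.subtype := (map_subtype_subgroupOf hXK).symm
    _ ≤ _ := Subgroup.map_mono h1

/-- With `D ∩ O_q(K) = 1` the layer `Lay q t K` is covered by `O_q(K)` and `W t`. -/
theorem Lay_le_sup_W (h : Ctx p A θ) {q t : ℕ} [Fact q.Prime] [Fact t.Prime] (hqt : t ≠ q) {K : Subgroup G}
    (hK : MM p A θ K) (hD : DD A θ ⊓ O q K = ⊥) : Lay q t K ≤ O q K ⊔ (W p A θ t ⊓ K) := by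
  set L := Lay q t K with hL
  have hLm : Mem p A θ L := Lay_mem h hK.1
  have hLA := mem_normalizes hLm
  have hcop := ea_coprime h.hA hLm.2.1
  obtain ⟨S, hS⟩ := coprime_exists_invariant_sylow hLA hcop (Or.inl (ea_solvable h.hA)) t
  set T := (S : Subgroup L).map L.subtype with hT
  set π := (QuotientGroup.mk' (pCore q ↥K)).comp (Subgroup.inclusion (Lay_le : L ≤ K)) with hπ
  have hπrange : π.range ≤ pCore t (↥K ⧸ pCore q ↥K) := by
    rintro _ ⟨⟨_, y, hy, rfl⟩, rfl⟩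
    exact hy
  have hπker : ∀ l : L, π l = 1 ↔ (l : G) ∈ O q K := fun l => by
    rw [hπ, MonoidHom.comp_apply, QuotientGroup.mk'_apply, QuotientGroup.eq_one_iff]
    exact ⟨fun hh => ⟨_, hh, rfl⟩, fun ⟨y, hy, e⟩ =>
      (Subtype.ext e : y = Subgroup.inclusion Lay_le l) ▸ hy⟩
  -- `D ∩ L` is a `t`-group
  have hDLp : IsPGroup t (DD A θ ⊓ L : Subgroup G) := by
    rw [IsPGroup.iff_orderOf]
    rintro ⟨x, hx⟩
    obtain ⟨j, hj⟩ := IsPGroup.iff_orderOf.mp ((isPGroup_pCore t).to_le hπrange) ⟨π ⟨x, hx.2⟩, ⟨_, rfl⟩⟩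
    refine ⟨j, ?_⟩
    replace hj : orderOf (π ⟨x, hx.2⟩) = t ^ j := (Subgroup.orderOf_coe (⟨_, ⟨_, rfl⟩⟩ : π.range)).trans hj
    rw [← Subgroup.orderOf_coe]
    refine Nat.dvd_antisymm (orderOf_dvd_of_pow_eq_one ?_) ?_
    · have h1 : (x ^ t ^ j) ∈ DD A θ ⊓ O q K := by
        refine Subgroup.mem_inf.mpr ⟨pow_mem hx.1 _, (hπker (⟨x, hx.2⟩ ^ t ^ j)).mp ?_⟩
        rw [map_pow, ← hj, pow_orderOf_eq_one]
      rwa [hD, Subgroup.mem_bot] at h1
    · rw [← hj]
      exact (orderOf_map_dvd π _).trans (Subgroup.orderOf_coe (⟨x, hx.2⟩ : L)).symm.dvd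
  -- so the invariant Sylow subgroup is unique
  have huniq : ∀ S' : Sylow t L, A ≤ normalizer ((S' : Subgroup L).map L.subtype : Set G) →
      (S' : Subgroup L).map L.subtype = T := by
    intro S' hS'
    have hDA : A ≤ normalizer ((DD A θ ⊓ L : Subgroup G) : Set G) :=
      inf_normalizes (mem_normalizes (dd_mem h)) hLA
    obtain ⟨R, hR, hRA⟩ := coprime_le_invariant_sylow hLA hcop (Or.inl (ea_solvable h.hA)) inf_le_right hDLp hDA
    have hfix : ∀ S'' : Sylow t L, A ≤ normalizer ((S'' : Subgroup L).map L.subtype : Set G) →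
        (S'' : Subgroup L).map L.subtype = (R : Subgroup L).map L.subtype := by
      intro S'' hS''
      obtain ⟨c, hcA, hc⟩ := coprime_invariant_sylow_conj hLA hcop (Or.inl (ea_solvable h.hA)) R S'' hRA hS''
      have hcD : (c : G) ∈ DD A θ ⊓ L := Subgroup.mem_inf.mpr
        ⟨inf_centralizer_A_le h hLm (Subgroup.mem_inf.mpr ⟨c.2,
          mem_centralizer_of fun x hx => hcA x hx⟩), c.2⟩
      have hcR : c ∈ (R : Subgroup L) := by
        obtain ⟨y, hy, e⟩ := hR hcD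
        exact (Subtype.ext e : y = c) ▸ hy
      rw [← hc, (show MulAut.conj c • R = R from Sylow.smul_eq_iff_mem_normalizer.mpr (Subgroup.le_normalizer hcR))]
    rw [hfix S' hS']
    exact (hfix S hS).symm
  have hTD : DD A θ ≤ normalizer (T : Set G) := by
    intro d hd
    have hdK : d ∈ K := hK.2.1 hd
    have hdL : d ∈ normalizer (L : Set G) := Lay_normal hdK
    obtain ⟨e, he⟩ := exists_conjAut hdL
    set S' : Sylow t L := S.mapSurjective (f := e.toMonoidHom) e.surjective with hS'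
    have hmap : (S' : Subgroup L).map L.subtype = T.map (MulAut.conj d).toMonoidHom := by
      show ((S : Subgroup L).map e.toMonoidHom).map L.subtype = _
      rw [hT, Subgroup.map_map, Subgroup.map_map]
      congr 1
      ext x
      exact he x
    have hinv : A ≤ normalizer ((S' : Subgroup L).map L.subtype : Set G) := by
      rw [hmap]
      refine inv_to_normalizer ?_
      rintro b hb _ ⟨x, hx, rfl⟩
      refine ⟨b * x * b⁻¹, inv_of_normalizer hS b hb x hx, ?_⟩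
      have e' : b * d = d * b := Subgroup.mem_centralizer_iff.mp (dd_centralizes h hd) b hb
      simp only [MulEquiv.coe_toMonoidHom, MulAut.conj_apply]
      calc d * (b * x * b⁻¹) * d⁻¹ = (d * b) * x * (d * b)⁻¹ := by group
        _ = (b * d) * x * (b * d)⁻¹ := by rw [e']
        _ = b * (d * x * d⁻¹) * b⁻¹ := by group
    have hTd : T.map (MulAut.conj d).toMonoidHom = T := hmap ▸ huniq S' hinv
    exact Comp.mem_normalizer_of_maps fun x hx => hTd ▸ ⟨x, hx, rfl⟩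
  have hTW : T ≤ W p A θ t ⊓ K :=
    le_inf (le_sSup (show T ∈ {X : Subgroup G | Mem p A θ X ∧ IsPGroup t X ∧ DD A θ ≤ normalizer (X : Set G)} from
      ⟨family_sub h.hθ hLm (Subgroup.map_subtype_le _) hS, S.2.map _, hTD⟩))
      ((Subgroup.map_subtype_le _).trans Lay_le)
  intro x hx
  have hrt : IsPGroup t π.range := (isPGroup_pCore t).to_le hπrange
  have hSr : ((S.mapSurjective (f := π.rangeRestrict) π.rangeRestrict_surjective : Sylow t π.range) :
      Subgroup π.range) = ⊤ := by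
    have h1 := Sylow.is_maximal' (S.mapSurjective (f := π.rangeRestrict) π.rangeRestrict_surjective)
      (Q := (⊤ : Subgroup π.range)) (hrt.of_equiv Subgroup.topEquiv.symm) le_top
    exact h1.symm
  rw [Sylow.coe_mapSurjective] at hSr
  obtain ⟨s, hs, es⟩ : π.rangeRestrict ⟨x, hx⟩ ∈ (S : Subgroup L).map π.rangeRestrict :=
    hSr ▸ Subgroup.mem_top _
  have h2 : π (⟨x, hx⟩ * s⁻¹) = 1 := by
    rw [map_mul, map_inv, mul_inv_eq_one]
    exact (congrArg Subtype.val es).symm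
  rw [hπker] at h2
  have := Subgroup.mul_mem_sup h2 (hTW ⟨s, hs, rfl⟩)
  simpa using this

/-! ### `W` and `ZOm` -/

theorem W_spec (h : Ctx p A θ) {q : ℕ} [Fact q.Prime] :
    Mem p A θ (W p A θ q) ∧ IsPGroup q (W p A θ q) := by
  have hA1 := A_ne_bot h
  have hbot : Mem p A θ (⊥ : Subgroup G) := family_sub h.hθ (dd_mem h) bot_le fun g _ =>
    Comp.mem_normalizer_of_maps fun x hx => by rw [Subgroup.mem_bot] at hx ⊢; simp [hx]
  obtain ⟨Q, hQ, -⟩ := exists_maxQ (q := q) hbot IsPGroup.of_bot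
  have hle : W p A θ q ≤ Q := by
    refine sSup_le ?_
    rintro X ⟨hX, hXq, hXD⟩
    obtain ⟨Q', hQ', hXQ'⟩ := exists_maxQ hX hXq
    obtain ⟨c, hc, e⟩ := transitivity h.hA h.hA3.ge h.hθ Q' Q hQ' hQ
    intro x hx
    have h1 : c⁻¹ * x * c ∈ X := (Subgroup.mem_normalizer_iff''.mp (hXD hc) x).mp hx
    rw [← e]
    exact ⟨_, hXQ' h1, by simp [mul_assoc]⟩
  refine ⟨family_sub h.hθ hQ.1 hle ?_, hQ.2.1.to_le hle⟩
  intro b hb
  refine Comp.mem_normalizer_of_maps ?_
  have hcom : W p A θ q ≤ (W p A θ q).comap (MulAut.conj b).toMonoidHom := sSup_le fun X hX x hx =>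
    le_sSup (a := X) (s := {X : Subgroup G | Mem p A θ X ∧ IsPGroup q X ∧ DD A θ ≤ normalizer (X : Set G)}) hX
      (hX.1.2.2.1 b hb x hx)
  exact fun x hx => hcom hx

theorem W_mem (h : Ctx p A θ) {q : ℕ} [Fact q.Prime] : Mem p A θ (W p A θ q) := (W_spec h).1

theorem W_isPGroup (h : Ctx p A θ) {q : ℕ} [Fact q.Prime] : IsPGroup q (W p A θ q) := (W_spec h).2

theorem W_dd (h : Ctx p A θ) {q : ℕ} [Fact q.Prime] : DD A θ ≤ normalizer (W p A θ q : Set G) := by
  intro d hd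
  refine Comp.mem_normalizer_of_maps ?_
  have hcom : W p A θ q ≤ (W p A θ q).comap (MulAut.conj d).toMonoidHom := sSup_le fun X hX x hx =>
    le_sSup (a := X) (s := {X : Subgroup G | Mem p A θ X ∧ IsPGroup q X ∧ DD A θ ≤ normalizer (X : Set G)}) hX
      ((Subgroup.mem_normalizer_iff.mp (hX.2.2 hd) x).mp hx)
  exact fun x hx => hcom hx

theorem le_W {q : ℕ} {X : Subgroup G} (hX : Mem p A θ X) (hq : IsPGroup q X)
    (hD : DD A θ ≤ normalizer (X : Set G)) : X ≤ W p A θ q :=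
  le_sSup (show X ∈ {X : Subgroup G | Mem p A θ X ∧ IsPGroup q X ∧ DD A θ ≤ normalizer (X : Set G)} from
    ⟨hX, hq, hD⟩)

theorem W_ne_bot (h : Ctx p A θ) {q : ℕ} {K : Subgroup G} [Fact q.Prime] (hK : MM p A θ K) (hO : O q K ≠ ⊥) :
    W p A θ q ≠ ⊥ := fun e => hO (le_bot_iff.mp (e ▸ O_le_W h hK))

theorem ZOm_le {q : ℕ} {R : Subgroup G} : ZOm q R ≤ R ⊓ centralizer (R : Set G) :=
  (Subgroup.closure_le _).mpr fun _ hx => hx.1

theorem ZOm_ne_bot {q : ℕ} [Fact q.Prime] {R : Subgroup G} (hR : IsPGroup q R) (h1 : R ≠ ⊥) : ZOm q R ≠ ⊥ := by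
  haveI : Nontrivial R := (Subgroup.nontrivial_iff_ne_bot R).mpr h1
  haveI := hR.center_nontrivial
  have hd : q ∣ Nat.card (Subgroup.center R) := by
    obtain ⟨n, hn⟩ := IsPGroup.iff_card.mp (hR.to_subgroup (Subgroup.center R))
    rw [hn]
    refine dvd_pow_self _ fun e => ?_
    rw [e, pow_zero] at hn
    exact (Finite.one_lt_card (α := Subgroup.center R)).ne' hn
  obtain ⟨z, hz⟩ := exists_prime_orderOf_dvd_card' q hd
  intro e
  have hz1 : ((z : R) : G) ∈ ZOm q R := by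
    refine Subgroup.subset_closure ⟨Subgroup.mem_inf.mpr ⟨(z : R).2, mem_centralizer_of fun y hy =>
      congrArg Subtype.val (Subgroup.mem_center_iff.mp z.2 ⟨y, hy⟩)⟩, ?_⟩
    have h2 : z ^ q = 1 := hz ▸ pow_orderOf_eq_one z
    exact_mod_cast congrArg (fun w : Subgroup.center R => ((w : R) : G)) h2
  rw [e, Subgroup.mem_bot] at hz1
  have hz2 : z = 1 := Subtype.ext (Subtype.ext hz1)
  rw [hz2, orderOf_one] at hz
  exact (Fact.out : q.Prime).one_lt.ne hz

theorem ZOm_normal {q : ℕ} {R : Subgroup G} : normalizer (R : Set G) ≤ normalizer (ZOm q R : Set G) := by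
  intro g hg
  refine Comp.mem_normalizer_of_maps ?_
  have hle : ZOm q R ≤ (ZOm q R).comap (MulAut.conj g).toMonoidHom := (Subgroup.closure_le _).mpr (by
    rintro x ⟨⟨hxR, hxc⟩, hxq⟩
    refine Subgroup.subset_closure ⟨Subgroup.mem_inf.mpr ⟨(Subgroup.mem_normalizer_iff.mp hg x).mp hxR,
      mem_centralizer_of fun y hy => ?_⟩, by rw [← map_pow, hxq, map_one]⟩
    have h1 := Subgroup.mem_centralizer_iff.mp hxc (g⁻¹ * y * g) ((Subgroup.mem_normalizer_iff''.mp hg y).mp hy)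
    simp only [MulEquiv.coe_toMonoidHom, MulAut.conj_apply]
    calc y * (g * x * g⁻¹) = g * (g⁻¹ * y * g * x) * g⁻¹ := by group
      _ = g * (x * (g⁻¹ * y * g)) * g⁻¹ := by rw [h1]
      _ = g * x * g⁻¹ * y := by group)
  exact fun x hx => hle hx

theorem ZOm_mem (h : Ctx p A θ) {q : ℕ} {R : Subgroup G} (hR : Mem p A θ R) : Mem p A θ (ZOm q R) := family_sub h.hθ hR (ZOm_le.trans inf_le_left) ((mem_normalizes hR).trans ZOm_normal)

/-- `Z(W q)` lies in every maximal member with a non-trivial `q`-core. -/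
theorem ZOm_W_le (h : Ctx p A θ) {q : ℕ} [Fact q.Prime] {K : Subgroup G} (hK : MM p A θ K) (hO : O q K ≠ ⊥) :
    ZOm q (W p A θ q) ≤ K := le_of_normalizes_O h hK hO (ZOm_mem h (W_mem h)) fun z hz =>
  Subgroup.centralizer_le_normalizer _ (Subgroup.centralizer_le (SetLike.coe_subset_coe.mpr (O_le_W h hK))
    (Subgroup.mem_inf.mp (ZOm_le hz)).2)

/-- In a member with only the core `O_q`, `Z(W q)` lies in that core. -/
theorem ZOm_W_le_O (h : Ctx p A θ) {q : ℕ} [Fact q.Prime] {K : Subgroup G} (hK : MM p A θ K) (hO : O q K ≠ ⊥)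
    (hs : ∀ r : ℕ, r.Prime → r ≠ q → O r K = ⊥) : ZOm q (W p A θ q) ≤ O q K := le_O_of_single h hK.1 hs (ZOm_W_le h hK hO) fun z hz =>
  Subgroup.centralizer_le (SetLike.coe_subset_coe.mpr (O_le_W h hK)) (Subgroup.mem_inf.mp (ZOm_le hz)).2

theorem pr_ne_p (h : Ctx p A θ) {q : ℕ} (hq : Pr A θ q) : q ≠ p := by
  rintro rfl
  obtain ⟨-, a, ha, hd⟩ := hq
  exact h.hθ.1.2.1 a ha.1 ha.2 hd

theorem pr_of_mem (h : Ctx p A θ) {q : ℕ} (hq : q.Prime) {X : Subgroup G} (hX : Mem p A θ X)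
    (hd : q ∣ Nat.card X) : Pr A θ q := pr_of_mem' h hq hX hd

theorem W_eq_bot_of_not_pr (h : Ctx p A θ) {q : ℕ} [Fact q.Prime] (hn : ¬ Pr A θ q) : W p A θ q = ⊥ := by
  by_contra hne
  obtain ⟨n, hc⟩ := IsPGroup.iff_card.mp (W_isPGroup (q := q) h)
  refine hn (pr_of_mem' h Fact.out (W_mem (q := q) h) ?_)
  rw [hc]
  exact dvd_pow_self _ fun e => hne (Subgroup.card_eq_one.mp (by rw [hc, e, pow_zero]))

/-! ### Commutation tools -/

/-- Coprime subgroups normalising each other commute. -/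
theorem commute_of_normalize {X Y : Subgroup G} (hc : (Nat.card X).Coprime (Nat.card Y))
    (hXY : X ≤ normalizer (Y : Set G)) (hYX : Y ≤ normalizer (X : Set G)) : X ≤ centralizer (Y : Set G) := by
  intro x hx
  refine mem_centralizer_of fun y hy => ?_
  have h1 : x * y * x⁻¹ * y⁻¹ ∈ X ⊓ Y := by
    refine Subgroup.mem_inf.mpr ⟨?_, mul_mem ((Subgroup.mem_normalizer_iff.mp (hXY hx) y).mp hy) (inv_mem hy)⟩
    have := mul_mem hx ((Subgroup.mem_normalizer_iff.mp (hYX hy) x⁻¹).mp (inv_mem hx))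
    simpa [mul_assoc] using this
  rw [Subgroup.inf_eq_bot_of_coprime hc, Subgroup.mem_bot, mul_inv_eq_one, mul_inv_eq_iff_eq_mul] at h1
  exact h1.symm

theorem O_coprime {q r : ℕ} [Fact q.Prime] [Fact r.Prime] (hqr : q ≠ r) {K L : Subgroup G} :
    (Nat.card (O q K)).Coprime (Nat.card (O r L)) := IsPGroup.coprime_card_of_ne q r hqr _ _ O_isPGroup O_isPGroup

/-- Thompson's `A × B` lemma. -/
theorem axb {q : ℕ} [Fact q.Prime] {P B Q : Subgroup G} (hP : IsPGroup q P) (hB : ¬ q ∣ Nat.card B)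
    (hQ : IsPGroup q Q) (hPQ : P ≤ normalizer (Q : Set G)) (hBQ : B ≤ normalizer (Q : Set G))
    (hPB : B ≤ centralizer (P : Set G))
    (hfix : B ≤ centralizer ((Q ⊓ centralizer (P : Set G) : Subgroup G) : Set G)) :
    B ≤ centralizer (Q : Set G) := thompson_PxQ hP (((Fact.out : q.Prime).coprime_iff_not_dvd.mpr hB).symm) (Subgroup.le_centralizer_iff.mp hPB) Q hQ
    hPQ hBQ (Subgroup.le_centralizer_iff.mp hfix)

/-- Two cores of `M` inside `L` : the `t`-core of `M` centralises the `s`-core of `L`. -/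
theorem core_centralizes (h : Ctx p A θ) {s t : ℕ} [Fact s.Prime] [Fact t.Prime] (hst : s ≠ t) {M L : Subgroup G}
    (hM : MM p A θ M) (hL : MM p A θ L) (hs : O s M ≠ ⊥) (hsL : O s M ≤ L) (htL : O t M ≤ L) :
    O t M ≤ centralizer (O s L : Set G) := by
  set P := O s M
  set B := O t M
  set Q := O s L
  have hBP : B ≤ centralizer (P : Set G) :=
    commute_of_normalize (O_coprime (q := t) (r := s) hst.symm) (O_le.trans O_normal) (O_le.trans O_normal)
  have hts : ¬ s ∣ Nat.card B := by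
    obtain ⟨n, hn⟩ := IsPGroup.iff_card.mp (O_isPGroup (q := t) (K := M))
    intro hd
    rw [hn] at hd
    exact hst ((Nat.prime_dvd_prime_iff_eq Fact.out Fact.out).mp ((Fact.out : s.Prime).dvd_of_dvd_pow hd))
  refine axb O_isPGroup hts O_isPGroup (hsL.trans O_normal) (htL.trans O_normal) hBP ?_
  set C := Q ⊓ centralizer (P : Set G) with hC
  have hAP : A ≤ normalizer (P : Set G) := mem_normalizes (O_mem h hM.1)
  have hnc : normalizer (P : Set G) ≤ normalizer (centralizer (P : Set G) : Set G) := fun g hg =>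
    Comp.mem_normalizer_of_maps fun x hx => mem_centralizer_of fun y hy => by
      have h1 := Subgroup.mem_centralizer_iff.mp hx (g⁻¹ * y * g) ((Subgroup.mem_normalizer_iff''.mp hg y).mp hy)
      calc y * (g * x * g⁻¹) = g * (g⁻¹ * y * g * x) * g⁻¹ := by group
        _ = g * (x * (g⁻¹ * y * g)) * g⁻¹ := by rw [h1]
        _ = g * x * g⁻¹ * y := by group
  have hCm : Mem p A θ C := family_sub h.hθ (O_mem h hL.1) inf_le_left
    (inf_normalizes (mem_normalizes (O_mem h hL.1)) (hAP.trans hnc))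
  have hCM : C ≤ M := le_of_normalizes_O h hM hs hCm (inf_le_right.trans (Subgroup.centralizer_le_normalizer _))
  refine commute_of_normalize ?_ ?_ (hCM.trans O_normal)
  · exact (IsPGroup.coprime_card_of_ne t s hst.symm _ _ O_isPGroup (O_isPGroup.to_le inf_le_left))
  · exact inf_normalizes (htL.trans O_normal) ((hBP.trans (Subgroup.centralizer_le_normalizer _)).trans hnc)

end CfsgLib.SolvSF
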