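import Cfsg.Agent.Lib.SolvSF.Setup

/-! Amalgam closure and the offender inequality. -/

set_option autoImplicit false
set_option linter.unusedSectionVars false

namespace CfsgLib.SolvSF

open Cfsg Subgroup CfsgLib.Signalizer

universe u
variable {G : Type u} [Group G] [Finite G] {p : ℕ} [Fact p.Prime] {A : Subgroup G} {θ : G → Subgroup G}

theorem map_conj_inf_centralizer (g : G) (X Y : Subgroup G) :
    (X ⊓ centralizer (Y : Set G)).map (MulAut.conj g).toMonoidHom =
      X.map (MulAut.conj g).toMonoidHom ⊓ centralizer ((Y.map (MulAut.conj g).toMonoidHom : Subgroup G) : Set G) := by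
  ext x
  constructor
  · rintro ⟨y, ⟨hy, hyc⟩, rfl⟩
    refine ⟨⟨y, hy, rfl⟩, ?_⟩
    rintro _ ⟨z, hz, rfl⟩
    rw [← map_mul, ← map_mul, hyc z hz]
  · rintro ⟨⟨y, hy, rfl⟩, hc⟩
    refine ⟨y, ⟨hy, fun z hz => ?_⟩, rfl⟩
    exact (MulAut.conj g).injective (by simpa using hc _ ⟨z, hz, rfl⟩)

/-- Two conjugate offender situations cannot both be strict. -/
theorem amalgam_pair {q : ℕ} {R : Subgroup G} {Vi Vj : Subgroup G} {g : G}
    (hVi : IsElementaryAbelian q Vi) (hVj : IsElementaryAbelian q Vj)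
    (hi : Vi.map (MulAut.conj g).toMonoidHom ≤ R) (hj : Vj.map (MulAut.conj g⁻¹).toMonoidHom ≤ R)
    (offi : ∀ B : Subgroup G, B ≤ R → IsElementaryAbelian q B → ¬ B ≤ centralizer (Vi : Set G) →
      Nat.card B * Nat.card (Vi ⊓ centralizer (B : Set G) : Subgroup G) <
        Nat.card Vi * Nat.card (B ⊓ centralizer (Vi : Set G) : Subgroup G))
    (offj : ∀ B : Subgroup G, B ≤ R → IsElementaryAbelian q B → ¬ B ≤ centralizer (Vj : Set G) →
      Nat.card B * Nat.card (Vj ⊓ centralizer (B : Set G) : Subgroup G) <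
        Nat.card Vj * Nat.card (B ⊓ centralizer (Vj : Set G) : Subgroup G)) :
    Vi.map (MulAut.conj g).toMonoidHom ≤ centralizer (Vj : Set G) := by
  have hea : ∀ (V : Subgroup G) (g : G), IsElementaryAbelian q V →
      IsElementaryAbelian q (V.map (MulAut.conj g).toMonoidHom) := by
    intro V g hV
    refine ⟨⟨⟨?_⟩⟩, ?_⟩
    · rintro ⟨_, x, hx, rfl⟩ ⟨_, y, hy, rfl⟩
      apply Subtype.ext
      show (MulAut.conj g).toMonoidHom x * (MulAut.conj g).toMonoidHom y =
        (MulAut.conj g).toMonoidHom y * (MulAut.conj g).toMonoidHom x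
      rw [← map_mul, ← map_mul]
      exact congrArg _ (congrArg Subtype.val (hV.1.is_comm.comm ⟨x, hx⟩ ⟨y, hy⟩))
    · rintro _ ⟨x, hx, rfl⟩
      rw [← map_pow, hV.2 x hx, map_one]
  by_contra hA
  have h1 := offj _ hi (hea Vi g hVi) hA
  set B' := Vj.map (MulAut.conj g⁻¹).toMonoidHom
  have hB' : B'.map (MulAut.conj g).toMonoidHom = Vj := by
    rw [Signalizer.map_conj_conj, mul_inv_cancel, Signalizer.map_conj_one]
  have hnB : ¬ B' ≤ centralizer (Vi : Set G) := by
    intro hle
    refine hA (le_centralizer_iff.mp ?_)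
    rw [← hB']
    rintro _ ⟨y, hy, rfl⟩ _ ⟨z, hz, rfl⟩
    rw [← map_mul, ← map_mul, hle hy z hz]
  have h2 := offi _ hj (hea Vj g⁻¹ hVj) hnB
  have c1 : ∀ X : Subgroup G, Nat.card (X.map (MulAut.conj g).toMonoidHom) = Nat.card X :=
    fun X => Subgroup.card_map_of_injective (MulAut.conj g).injective
  rw [← c1 (Vi ⊓ _), ← c1 (B' ⊓ _), ← c1 B', ← c1 Vi, map_conj_inf_centralizer, map_conj_inf_centralizer, hB'] at h2
  linarith

/-- The amalgam lemma. -/
theorem amalgam {q : ℕ} [Fact q.Prime] {ι : Type u} {R : Subgroup G} (hR : IsPGroup q R) (K V E : ι → Subgroup G)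
    (hKV : ∀ i, K i ≤ normalizer (V i : Set G)) (hKE : ∀ i, K i ≤ normalizer (E i : Set G))
    (hVE : ∀ i, V i ≤ E i) (hER : ∀ i, E i ≤ R) (hV : ∀ i, IsElementaryAbelian q (V i))
    (hcent : ∀ i, ∀ B : Subgroup G, B ≤ R → IsElementaryAbelian q B → B ≤ centralizer (V i : Set G) → B ≤ E i)
    (hoff : ∀ i, ∀ B : Subgroup G, B ≤ R → IsElementaryAbelian q B → ¬ B ≤ centralizer (V i : Set G) →
      Nat.card B * Nat.card (V i ⊓ centralizer (B : Set G) : Subgroup G) <
        Nat.card (V i) * Nat.card (B ⊓ centralizer (V i : Set G) : Subgroup G)) :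
    ∃ N : Subgroup G, N ≤ R ∧ (∀ i, V i ≤ N) ∧ (∀ i, K i ≤ normalizer (N : Set G)) ∧
      ∀ g : G, (∀ i, g ∈ normalizer (K i : Set G) ∧ g ∈ normalizer (V i : Set G)) →
        g ∈ normalizer (N : Set G) := by
  classical
  let Wd : List G → Prop := fun w => ∀ x ∈ w, ∃ i, x ∈ K i
  have key : ∀ n (w : List G), w.length = n → Wd w → ∀ i j,
      (V i).map (MulAut.conj w.prod).toMonoidHom ≤ E j := by
    intro n
    induction n with
    | zero =>
      intro w hw _ i j
      rw [List.length_eq_zero_iff.mp hw, List.prod_nil, Signalizer.map_conj_one]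
      refine hcent j _ ((hVE i).trans (hER i)) (hV i) ?_
      have := amalgam_pair (R := R) (g := (1 : G)) (hV i) (hV j)
        (by rw [Signalizer.map_conj_one]; exact (hVE i).trans (hER i))
        (by rw [inv_one, Signalizer.map_conj_one]; exact (hVE j).trans (hER j)) (hoff i) (hoff j)
      rwa [Signalizer.map_conj_one] at this
    | succ n ih =>
      have hR' : ∀ (w : List G), w.length = n + 1 → Wd w → ∀ i,
          (V i).map (MulAut.conj w.prod).toMonoidHom ≤ R := by
        intro w hw hwd i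
        cases w with
        | nil => simp at hw
        | cons k w' =>
          obtain ⟨l, hl⟩ := hwd k List.mem_cons_self
          have h1 := ih w' (by simpa using hw) (fun x hx => hwd x (List.mem_cons_of_mem _ hx)) i l
          rw [List.prod_cons, ← Signalizer.map_conj_conj]
          refine (Subgroup.map_mono h1).trans ?_
          rintro _ ⟨e, he, rfl⟩
          exact hER l ((Subgroup.mem_normalizer_iff.mp (hKE l hl) e).mp he)
      intro w hw hwd i j
      have hA := hR' w hw hwd i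
      have hinv : Wd (w.map (fun x => x⁻¹)).reverse := by
        intro x hx
        rw [List.mem_reverse, List.mem_map] at hx
        obtain ⟨y, hy, rfl⟩ := hx
        obtain ⟨l, hl⟩ := hwd y hy
        exact ⟨l, inv_mem hl⟩
      have hB := hR' (w.map (fun x => x⁻¹)).reverse (by simpa using hw) hinv j
      rw [← List.prod_inv_reverse] at hB
      refine hcent j _ hA ⟨⟨⟨?_⟩⟩, ?_⟩ (amalgam_pair (hV i) (hV j) hA hB (hoff i) (hoff j))
      · rintro ⟨_, x, hx, rfl⟩ ⟨_, y, hy, rfl⟩
        apply Subtype.ext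
        show (MulAut.conj w.prod).toMonoidHom x * (MulAut.conj w.prod).toMonoidHom y =
          (MulAut.conj w.prod).toMonoidHom y * (MulAut.conj w.prod).toMonoidHom x
        rw [← map_mul, ← map_mul]
        exact congrArg _ (congrArg Subtype.val ((hV i).1.is_comm.comm ⟨x, hx⟩ ⟨y, hy⟩))
      · rintro _ ⟨x, hx, rfl⟩
        rw [← map_pow, (hV i).2 x hx, map_one]
  let N : Subgroup G := ⨆ iw : {iw : ι × List G // Wd iw.2}, (V iw.1.1).map (MulAut.conj iw.1.2.prod).toMonoidHom
  have hVN : ∀ i, V i ≤ N := fun i =>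
    le_trans (by rw [List.prod_nil, Signalizer.map_conj_one])
      (le_iSup (fun iw : {iw : ι × List G // Wd iw.2} => (V iw.1.1).map (MulAut.conj iw.1.2.prod).toMonoidHom)
        ⟨(i, []), by simp [Wd]⟩)
  refine ⟨N, ?_, hVN, fun l k hk => ?_, fun g hg => ?_⟩
  · refine iSup_le fun iw => ?_
    exact (key _ iw.1.2 rfl iw.2 iw.1.1 iw.1.1).trans (hER _)
  · refine Comp.mem_normalizer_of_maps fun x hx => ?_
    have hle : N.map (MulAut.conj k).toMonoidHom ≤ N := by
      rw [Subgroup.map_iSup]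
      refine iSup_le fun iw => ?_
      rw [Signalizer.map_conj_conj]
      exact le_iSup (fun iw : {iw : ι × List G // Wd iw.2} => (V iw.1.1).map (MulAut.conj iw.1.2.prod).toMonoidHom)
        ⟨(iw.1.1, k :: iw.1.2), fun x hx => by
          rcases List.mem_cons.mp hx with rfl | hx
          · exact ⟨l, hk⟩
          · exact iw.2 x hx⟩
    exact hle ⟨x, hx, rfl⟩
  · refine Comp.mem_normalizer_of_maps fun x hx => ?_
    have hle : N.map (MulAut.conj g).toMonoidHom ≤ N := by
      rw [Subgroup.map_iSup]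
      refine iSup_le fun iw => ?_
      rw [Signalizer.map_conj_conj]
      have hp : g * iw.1.2.prod = (iw.1.2.map (MulAut.conj g)).prod * g := by
        rw [← map_list_prod]; simp
      rw [hp, ← Signalizer.map_conj_conj]
      refine le_trans (Subgroup.map_mono ?_)
        (le_iSup (fun iw : {iw : ι × List G // Wd iw.2} => (V iw.1.1).map (MulAut.conj iw.1.2.prod).toMonoidHom)
          ⟨(iw.1.1, iw.1.2.map (MulAut.conj g)), fun y hy => by
            obtain ⟨z, hz, rfl⟩ := List.mem_map.mp hy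
            obtain ⟨l, hl⟩ := iw.2 z hz
            exact ⟨l, (Subgroup.mem_normalizer_iff.mp (hg l).1 z).mp hl⟩⟩)
      rintro _ ⟨v, hv, rfl⟩
      exact (Subgroup.mem_normalizer_iff.mp (hg iw.1.1).2 v).mp hv
    exact hle ⟨x, hx, rfl⟩

end CfsgLib.SolvSF
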