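import Cfsg.Agent.Lib.SolvSF.Setup

/-! The pencil lemma and its corollaries. -/

set_option autoImplicit false
set_option linter.unusedSectionVars false

namespace CfsgLib.SolvSF

open Cfsg Subgroup CfsgLib.Signalizer
open scoped commutatorElement Pointwise

universe u
variable {G : Type u} [Group G] [Finite G] {p : ℕ} [Fact p.Prime] {A : Subgroup G} {θ : G → Subgroup G}

/-- Two independent points generate their line. -/
theorem line_eq_sup (h : Ctx p A θ) {H : Subgroup G} (hH : Line p A H) {a x : G} (ha : a ∈ H)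
    (ha1 : a ≠ 1) (hx : x ∈ H) (hxa : x ∉ zpowers a) : zpowers a ⊔ zpowers x = H := by
  refine Subgroup.eq_of_le_of_card_ge (sup_le (zpowers_le.mpr ha) (zpowers_le.mpr hx)) ?_
  obtain ⟨k, hk, hk'⟩ := (Nat.dvd_prime_pow (Fact.out : p.Prime)).mp
    (hH.2 ▸ Subgroup.card_dvd_of_le (sup_le (zpowers_le.mpr ha) (zpowers_le.mpr hx)))
  have hcl : Nat.card (zpowers a) < Nat.card ↥(zpowers a ⊔ zpowers x) :=
    lt_of_le_of_ne (Subgroup.card_le_of_le le_sup_left) fun e => hxa
      (Subgroup.eq_of_le_of_card_ge (le_sup_left : zpowers a ≤ zpowers a ⊔ zpowers x) e.ge ▸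
        Subgroup.mem_sup_right (mem_zpowers x))
  rw [Nat.card_zpowers, orderOf_eq_prime_of_ea h.hA (hH.1 ha) ha1, hk'] at hcl
  have h2 := (Nat.pow_lt_pow_iff_right (Fact.out : p.Prime).one_lt).mp (by rwa [pow_one] : p ^ 1 < p ^ k)
  rw [hH.2, hk', show k = 2 by omega]

/-- An element normalising both arguments normalises their commutator. -/
theorem normalizer_commutator_mem {X Z : Subgroup G} {g : G} (hX : g ∈ normalizer (X : Set G))
    (hZ : g ∈ normalizer (Z : Set G)) : g ∈ normalizer ((⁅X, Z⁆ : Subgroup G) : Set G) := by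
  refine Comp.mem_normalizer_of_maps fun w hw => ?_
  have hle : ∀ {Y : Subgroup G}, g ∈ normalizer (Y : Set G) → Y.map (MulAut.conj g).toMonoidHom ≤ Y := by
    rintro Y hY _ ⟨y, hy, rfl⟩
    exact (mem_normalizer_iff.mp hY y).mp hy
  have h1 : (⁅X, Z⁆ : Subgroup G).map (MulAut.conj g).toMonoidHom ≤ ⁅X, Z⁆ := by
    rw [Subgroup.map_commutator]
    exact Subgroup.commutator_mono (hle hX) (hle hZ)
  exact h1 ⟨w, hw, rfl⟩

/-- An element normalising each member of a family normalises their join. -/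
theorem normalizer_iSup_mem {ι : Sort*} (S : ι → Subgroup G) {g : G}
    (h : ∀ i, g ∈ normalizer (S i : Set G)) : g ∈ normalizer ((⨆ i, S i : Subgroup G) : Set G) := by
  refine Comp.mem_normalizer_of_maps fun w hw => ?_
  have h1 : (⨆ i, S i).map (MulAut.conj g).toMonoidHom ≤ ⨆ i, S i := by
    rw [Subgroup.map_iSup]
    refine iSup_mono fun i => ?_
    rintro _ ⟨y, hy, rfl⟩
    exact (mem_normalizer_iff.mp (h i) y).mp hy
  exact h1 ⟨w, hw, rfl⟩

/-- `⁅n * m, b⁆` from `⁅n, b⁆` and `⁅m, b⁆`. -/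
theorem commutator_mul_left_mem {R : Subgroup G} {n m b : G} (hn : n ∈ normalizer (R : Set G))
    (h1 : ⁅n, b⁆ ∈ R) (h2 : ⁅m, b⁆ ∈ R) : ⁅n * m, b⁆ ∈ R := by
  have e : ⁅n * m, b⁆ = n * ⁅m, b⁆ * n⁻¹ * ⁅n, b⁆ := by
    simp only [commutatorElement_def]; group
  rw [e]
  exact mul_mem ((mem_normalizer_iff.mp hn _).mp h2) h1

/-- The action of a point `b` on a member centralised by `a` is seen on the lines through `a` missing `b`. -/
theorem commutator_le_pieces (h : Ctx p A θ) {X : Subgroup G} (hX : Mem p A θ X) {a b : G}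
    (hXa : X ≤ centralizer ({a} : Set G)) (hb : Pt A b) {H₁ : Subgroup G} (hH₁ : Line p A H₁)
    (hb₁ : b ∈ H₁) :
    ⁅X, zpowers b⁆ ≤ ⨆ x : {x : G // x ∈ H₁ ∧ x ∉ zpowers b},
      ⁅X ⊓ centralizer ({(x : G)} : Set G), zpowers b⁆ := by
  have hzA : zpowers b ≤ A := zpowers_le.mpr hb.1
  have hsolv : Group.IsSolvable ↥(zpowers b) := ea_solvable (ea_le h.hA hzA)
  set Y := ⁅X, zpowers b⁆ with hY
  have hYX : Y ≤ X := commutator_le_of_le_normalizer (hzA.trans (mem_normalizes hX))
  have hAY : A ≤ normalizer (Y : Set G) := fun g hg => normalizer_commutator_mem (mem_normalizes hX hg)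
    (Subgroup.centralizer_le_normalizer _ fun z hz => ea_comm h.hA (hzA hz) hg)
  have hYm : Mem p A θ Y := family_sub h.hθ hX hYX hAY
  have hbA : ∀ {R : Subgroup G}, A ≤ normalizer (R : Set G) → ∀ r ∈ R, ⁅r, b⁆ ∈ R := by
    intro R hR r hr
    rw [commutatorElement_def, mul_assoc, mul_assoc, ← mul_assoc b]
    exact mul_mem hr ((mem_normalizer_iff.mp (hR hb.1) _).mp (inv_mem hr))
  -- `[Y, b] = Y`
  have hYY : Y ≤ ⁅Y, zpowers b⁆ := by
    refine Subgroup.commutator_le.mpr fun x hx g hg => ?_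
    obtain ⟨y, hy, c, hc, rfl⟩ := coprime_decomp (hzA.trans (mem_normalizes hX))
      (ea_coprime (ea_le h.hA hzA) hX.2.1) (Or.inl hsolv) hx
    have e : ⁅y * c, g⁆ = ⁅y, g⁆ := by
      have := hc.2 g hg
      simp only [commutatorElement_def]
      rw [mul_inv_rev, show y * c * g = y * (g * c) by rw [this]; group]
      group
    rw [e]
    exact Subgroup.commutator_mem_commutator hy hg
  -- pieces of `Y`
  set Q := ⨆ x : {x : G // x ∈ H₁ ∧ x ∉ zpowers b}, Y ⊓ centralizer ({(x : G)} : Set G) with hQ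
  have hQY : Q ≤ Y := iSup_le fun x => inf_le_left
  have hQA : A ≤ normalizer (Q : Set G) := fun g hg => normalizer_iSup_mem _ fun x =>
    inf_normalizes hAY (centralizer_singleton_normalizes h.hA (hH₁.1 x.2.1)) hg
  haveI := hYm.1
  obtain ⟨n, hn⟩ := Group.IsSolvable.solvable (G := ↥Y)
  set N : ℕ → Subgroup G := fun k => (derivedSeries ↥Y k).map Y.subtype with hN
  have hNn : ∀ k, Y ≤ normalizer (N k : Set G) := fun k => normal_map_normalizes _
  have hNA : ∀ k, A ≤ normalizer (N k : Set G) := fun k => normalizes_of_aut_stable hAY fun e =>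
    map_derivedSeries_eq (f := e.toMonoidHom) e.surjective k
  have hstep : ∀ k, Y ≤ Q ⊔ N k := by
    intro k
    induction k with
    | zero =>
      simp only [hN, derivedSeries_zero, ← MonoidHom.range_eq_map, Subgroup.range_subtype]
      exact le_sup_right
    | succ k ih =>
      set R := Q ⊔ N (k + 1) with hR
      have hNk : N (k + 1) = ⁅N k, N k⁆ := by
        simp only [hN, derivedSeries_succ, Subgroup.map_commutator]
      have hRA : A ≤ normalizer (R : Set G) := fun g hg => by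
        rw [hR, sup_eq_iSup]
        exact normalizer_iSup_mem _ fun i => by
          cases i
          · exact hNA (k + 1) hg
          · exact hQA hg
      have hRY : R ≤ Y := sup_le hQY (Subgroup.map_subtype_le _)
      have hNY : N k ≤ Y := Subgroup.map_subtype_le _
      have hNkn : N k ≤ normalizer ((R ⊓ N k : Subgroup G) : Set G) := fun g hg =>
        Comp.mem_normalizer_of_maps fun w hw => by
          have h1 : ⁅g, w⁆ ∈ R := Subgroup.mem_sup_right (hNk ▸ Subgroup.commutator_mem_commutator hg hw.2)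
          refine ⟨?_, (N k).mul_mem ((N k).mul_mem hg hw.2) ((N k).inv_mem hg)⟩
          have e : g * w * g⁻¹ = ⁅g, w⁆ * w := by rw [commutatorElement_def]; group
          rw [e]; exact mul_mem h1 hw.1
      -- the elements of `N k` fixed by `b` modulo `R`
      let M : Subgroup G :=
        { carrier := {m | m ∈ N k ∧ ⁅m, b⁆ ∈ R}
          one_mem' := ⟨one_mem _, by simp⟩
          mul_mem' := fun {y z} hy hz => ⟨mul_mem hy.1 hz.1, by
            have hz' : ⁅z, b⁆ ∈ R ⊓ N k := ⟨hz.2, hbA (hNA k) z hz.1⟩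
            have hy' : ⁅y, b⁆ ∈ R ⊓ N k := ⟨hy.2, hbA (hNA k) y hy.1⟩
            exact (commutator_mul_left_mem (hNkn hy.1) hy' hz').1⟩
          inv_mem' := fun {y} hy => ⟨inv_mem hy.1, by
            have hy' : ⁅y, b⁆ ∈ R ⊓ N k := ⟨hy.2, hbA (hNA k) y hy.1⟩
            have h1 := (mem_normalizer_iff''.mp (hNkn hy.1) _).mp (inv_mem hy')
            have e : ⁅y⁻¹, b⁆ = y⁻¹ * ⁅y, b⁆⁻¹ * y := by simp only [commutatorElement_def]; group
            rw [e]; exact h1.1⟩ }
      have hNM : N k ≤ M := by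
        have hNm : Mem p A θ (N k) := family_sub h.hθ hYm hNY (hNA k)
        refine le_of_points_of_line h hNm hH₁ fun x hx hx1 => ?_
        rintro y ⟨hy, hyx⟩
        refine ⟨hy, ?_⟩
        by_cases hxb : x ∈ zpowers b
        · have e : zpowers x = zpowers b := by
            refine Subgroup.eq_of_le_of_card_ge (zpowers_le.mpr hxb) ?_
            rw [Nat.card_zpowers, Nat.card_zpowers, orderOf_eq_prime_of_ea h.hA hb.1 hb.2,
              orderOf_eq_prime_of_ea h.hA (hH₁.1 hx) hx1]
          obtain ⟨j, hj⟩ := Subgroup.mem_zpowers_iff.mp (show b ∈ zpowers x from e.symm ▸ mem_zpowers b)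
          have : Commute y b := hj ▸ (show Commute y x from mem_centralizer_singleton_iff.mp hyx).zpow_right j
          rw [commutatorElement_eq_one_iff_commute.mpr this]
          exact one_mem _
        · exact hbA hRA y (Subgroup.mem_sup_left (Subgroup.mem_iSup_of_mem
            (⟨x, hx, hxb⟩ : {x : G // x ∈ H₁ ∧ x ∉ zpowers b}) (Subgroup.mem_inf.mpr ⟨hNY hy, hyx⟩)))
      refine hYY.trans (Subgroup.commutator_le.mpr fun y hy g hg => ?_)
      have hQn : Q ≤ normalizer (N k : Set G) := hQY.trans (hNn k)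
      obtain ⟨r, hr, m, hm, rfl⟩ :=
        Set.mem_mul.mp (show y ∈ (Q : Set G) * (N k : Set G) by
          rw [← Subgroup.coe_mul_of_left_le_normalizer_right Q (N k) hQn]; exact ih hy)
      obtain ⟨j, rfl⟩ := Subgroup.mem_zpowers_iff.mp hg
      have hb' : ⁅r * m, b⁆ ∈ R := commutator_mul_left_mem (Subgroup.le_normalizer (Subgroup.mem_sup_left hr))
        (hbA hRA r (Subgroup.mem_sup_left hr)) (hNM hm).2
      -- powers of `b`
      have hpow : ∀ i : ℕ, ⁅r * m, b ^ i⁆ ∈ R := by
        intro i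
        induction i with
        | zero => simp
        | succ i hi =>
          have e : ⁅r * m, b ^ (i + 1)⁆ = ⁅r * m, b ^ i⁆ * (b ^ i * ⁅r * m, b⁆ * (b ^ i)⁻¹) := by
            simp only [commutatorElement_def, pow_succ]; group
          rw [e]
          exact mul_mem hi ((mem_normalizer_iff.mp (hRA (pow_mem hb.1 i)) _).mp hb')
      obtain ⟨i, hi⟩ := (isOfFinOrder_of_finite b).mem_powers_iff_mem_zpowers.mpr hg
      exact hi ▸ hpow i
  have hbot : N n = ⊥ := by simp only [hN, hn, Subgroup.map_bot]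
  have hYQ : Y ≤ Q := (hstep n).trans (by rw [hbot, sup_bot_eq])
  -- now the commutators of the pieces
  set Q' := ⨆ x : {x : G // x ∈ H₁ ∧ x ∉ zpowers b}, ⁅Y ⊓ centralizer ({(x : G)} : Set G), zpowers b⁆ with hQ'
  refine le_trans ?_ (iSup_mono fun x => Subgroup.commutator_mono (inf_le_inf_right _ hYX) le_rfl :
    Q' ≤ ⨆ x : {x : G // x ∈ H₁ ∧ x ∉ zpowers b}, ⁅X ⊓ centralizer ({(x : G)} : Set G), zpowers b⁆)
  set C := Y ⊓ centralizer (H₁ : Set G) with hC
  have hCQ' : C ≤ normalizer (Q' : Set G) := fun g hg => normalizer_iSup_mem _ fun x => by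
    refine normalizer_commutator_mem ?_ (Subgroup.centralizer_le_normalizer _ fun z hz => ?_)
    · refine Subgroup.le_normalizer ⟨hg.1, mem_centralizer_singleton_iff.mpr ?_⟩
      exact (hg.2 x x.2.1).symm
    · exact hg.2 z (zpowers_le.mpr hb₁ hz)
  have hQ'A : A ≤ normalizer (Q' : Set G) := fun g hg => normalizer_iSup_mem _ fun x =>
    normalizer_commutator_mem (inf_normalizes hAY (centralizer_singleton_normalizes h.hA (hH₁.1 x.2.1)) hg)
      (Subgroup.centralizer_le_normalizer _ fun z hz => ea_comm h.hA (hzA hz) hg)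
  have hYQC : Y ≤ Q' ⊔ C := by
    refine hYQ.trans (iSup_le fun x => ?_)
    have hxA : (x : G) ∈ A := hH₁.1 x.2.1
    have hP : zpowers b ≤ normalizer ((Y ⊓ centralizer ({(x : G)} : Set G) : Subgroup G) : Set G) :=
      hzA.trans (inf_normalizes hAY (centralizer_singleton_normalizes h.hA hxA))
    rw [← coprime_commutator_sup hP (ea_coprime (ea_le h.hA hzA)
      fun hd => hYm.2.1 (hd.trans (Subgroup.card_dvd_of_le inf_le_left))) (Or.inl hsolv)]
    refine sup_le_sup (le_iSup (fun x : {x : G // x ∈ H₁ ∧ x ∉ zpowers b} =>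
      ⁅Y ⊓ centralizer ({(x : G)} : Set G), zpowers b⁆) x) ?_
    rintro y ⟨⟨hy, hyx⟩, hyb⟩
    refine ⟨hy, fun z hz => ?_⟩
    have hH : H₁ ≤ centralizer ({y} : Set G) := by
      rw [← line_eq_sup h hH₁ hb₁ hb.2 x.2.1 x.2.2]
      exact sup_le (fun w hw => mem_centralizer_singleton_iff.mpr (hyb w hw))
        (zpowers_le.mpr (mem_centralizer_singleton_iff.mpr (mem_centralizer_singleton_iff.mp hyx).symm))
    exact mem_centralizer_singleton_iff.mp (hH hz)
  refine hYY.trans (Subgroup.commutator_le.mpr fun y hy g hg => ?_)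
  obtain ⟨r, hr, c, hc, rfl⟩ :=
    Set.mem_mul.mp (show y ∈ (Q' : Set G) * (C : Set G) by
      rw [← Subgroup.coe_mul_of_right_le_normalizer_left Q' C hCQ']; exact hYQC hy)
  refine commutator_mul_left_mem (Subgroup.le_normalizer hr) ?_ ?_
  · rw [commutatorElement_def, mul_assoc, mul_assoc, ← mul_assoc g]
    exact mul_mem hr ((mem_normalizer_iff.mp (hQ'A (hzA hg)) _).mp (inv_mem hr))
  · have : Commute c g := (hc.2 g (zpowers_le.mpr hb₁ hg)).symm
    rw [commutatorElement_eq_one_iff_commute.mpr this]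
    exact one_mem _

/-- One member containing `θ(H)` for all lines missing one point forces completeness. -/
theorem pencil (h : Ctx p A θ) {M₀ : Subgroup G} (hM : Mem p A θ M₀) {b : G} (hb : Pt A b)
    (hle : ∀ H, Line p A H → b ∉ H → signalizerInf H θ ≤ M₀) : False := by
  have hzA : zpowers b ≤ A := zpowers_le.mpr hb.1
  have hsolv : Group.IsSolvable ↥(zpowers b) := ea_solvable (ea_le h.hA hzA)
  have hzn : ∀ g ∈ A, g ∈ normalizer (zpowers b : Set G) := fun g hg =>
    Subgroup.centralizer_le_normalizer _ fun z hz => ea_comm h.hA (hzA hz) hg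
  have hne : ∀ H, Line p A H → H ≠ ⊥ := by
    intro H hH e
    have h2 := hH.2
    rw [e, Subgroup.card_bot] at h2
    exact absurd h2 (Nat.one_lt_pow (by norm_num) (Fact.out : p.Prime).one_lt).ne
  set X' := ⨆ H : {H : Subgroup G // Line p A H ∧ b ∉ H}, ⁅signalizerInf (H : Subgroup G) θ, zpowers b⁆
    with hX'
  have hX'M : X' ≤ M₀ := iSup_le fun H =>
    (Subgroup.commutator_mono (hle H H.2.1 H.2.2) le_rfl).trans
      (commutator_le_of_le_normalizer (hzA.trans (mem_normalizes hM)))
  have hX'A : A ≤ normalizer (X' : Set G) := fun g hg => normalizer_iSup_mem _ fun H =>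
    normalizer_commutator_mem (mem_normalizes (inf_mem_family h.hA h.hθ H.2.1.1 (hne H H.2.1)) hg) (hzn g hg)
  have hX'm : Mem p A θ X' := family_sub h.hθ hM hX'M hX'A
  -- the commutators at a point
  have hpt : ∀ a, Pt A a → a ∉ zpowers b → ⁅θ a, zpowers b⁆ ≤ X' := by
    intro a ha hab
    obtain ⟨H₀, hH₀, hb₀, ha₀⟩ := line_through h hb ha.1
    obtain ⟨c, hcA, hc⟩ := SetLike.exists_of_lt (lt_of_le_of_ne hH₀.1 fun e => by
      have h3 := h.hA3
      rw [← e, hH₀.2] at h3
      exact absurd (Nat.pow_right_injective (Fact.out : p.Prime).two_le h3) (by norm_num))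
    obtain ⟨H₁, hH₁, hb₁, hc₁⟩ := line_through h hb hcA
    have ha₁ : a ∉ H₁ := fun ha₁ => hc (by
      rw [← line_eq_sup h hH₀ hb₀ hb.2 ha₀ hab, line_eq_sup h hH₁ hb₁ hb.2 ha₁ hab]
      exact hc₁)
    have hθa := theta_mem h.hθ ha.1 ha.2
    refine (commutator_le_pieces h hθa (a := a) (h.hθ.1.1 a ha.1 ha.2) hb hH₁ hb₁).trans (iSup_le fun x => ?_)
    obtain ⟨H, hH, haH, hxH⟩ := line_through h ha (hH₁.1 x.2.1)
    have hxa : (x : G) ∉ zpowers a := fun hxa => by
      have hx1 : (x : G) ≠ 1 := fun e => x.2.2 (e ▸ one_mem _)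
      have e : zpowers (x : G) = zpowers a := by
        refine Subgroup.eq_of_le_of_card_ge (zpowers_le.mpr hxa) ?_
        rw [Nat.card_zpowers, Nat.card_zpowers, orderOf_eq_prime_of_ea h.hA ha.1 ha.2,
          orderOf_eq_prime_of_ea h.hA (hH₁.1 x.2.1) hx1]
      exact ha₁ (zpowers_le.mpr x.2.1 (e.symm ▸ mem_zpowers a))
    have hbH : b ∉ H := fun hbH => ha₁ (by
      rw [← line_eq_sup h hH₁ hb₁ hb.2 x.2.1 x.2.2, line_eq_sup h hH hbH hb.2 hxH x.2.2]
      exact haH)
    refine le_trans (Subgroup.commutator_mono ?_ le_rfl) (le_iSup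
      (fun H : {H : Subgroup G // Line p A H ∧ b ∉ H} => ⁅signalizerInf (H : Subgroup G) θ, zpowers b⁆)
      ⟨H, hH, hbH⟩)
    refine le_trans ?_ (inf_centralizer_le_theta h hθa hH.1)
    rintro y ⟨hy, hyx⟩
    refine ⟨hy, fun z hz => ?_⟩
    have hle' : H ≤ centralizer ({y} : Set G) := by
      rw [← line_eq_sup h hH haH ha.2 hxH hxa]
      refine sup_le (zpowers_le.mpr ?_) (zpowers_le.mpr ?_)
      · exact mem_centralizer_singleton_iff.mpr (mem_centralizer_singleton_iff.mp (h.hθ.1.1 a ha.1 ha.2 hy)).symm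
      · exact mem_centralizer_singleton_iff.mpr (mem_centralizer_singleton_iff.mp hyx).symm
    exact mem_centralizer_singleton_iff.mp (hle' hz)
  -- lines through `b`
  have hthrough : ∀ H₀, Line p A H₀ → b ∈ H₀ → signalizerInf H₀ θ ≤ normalizer (X' : Set G) := by
    intro H₀ hH₀ hb₀ g hg
    have e : X' = ⨆ a : {a : G // a ∈ H₀ ∧ a ∉ zpowers b}, ⁅θ (a : G), zpowers b⁆ := by
      refine le_antisymm (iSup_le fun H => ?_) (iSup_le fun a =>
        hpt a ⟨hH₀.1 a.2.1, fun e => a.2.2 (e ▸ one_mem _)⟩ a.2.2)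
      obtain ⟨a, haH, ha₀, ha1⟩ := lines_meet h H.2.1 hH₀
      have hab : a ∉ zpowers b := fun hab => by
        have e : zpowers a = zpowers b := by
          refine Subgroup.eq_of_le_of_card_ge (zpowers_le.mpr hab) ?_
          rw [Nat.card_zpowers, Nat.card_zpowers, orderOf_eq_prime_of_ea h.hA hb.1 hb.2,
            orderOf_eq_prime_of_ea h.hA (hH₀.1 ha₀) ha1]
        exact H.2.2 (zpowers_le.mpr haH (e.symm ▸ mem_zpowers b))
      refine le_trans (Subgroup.commutator_mono ?_ le_rfl)
        (le_iSup (fun a : {a : G // a ∈ H₀ ∧ a ∉ zpowers b} => ⁅θ (a : G), zpowers b⁆) ⟨a, ha₀, hab⟩)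
      intro y hy
      exact Subgroup.mem_iInf.mp hy ⟨a, haH, ha1⟩
    rw [e]
    refine normalizer_iSup_mem _ fun a => normalizer_commutator_mem ?_ (Subgroup.centralizer_le_normalizer _ ?_)
    · exact Subgroup.le_normalizer (Subgroup.mem_iInf.mp hg ⟨a, a.2.1, fun e => a.2.2 (e ▸ one_mem _)⟩)
    · intro z hz
      exact inf_le_centralizer h hH₀.1 hg z (zpowers_le.mpr hb₀ hz)
  -- all lines normalise `X'`
  have hlines : ∀ H, Line p A H → signalizerInf H θ ≤ normalizer (X' : Set G) := by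
    intro H hH
    by_cases hbH : b ∈ H
    · exact hthrough H hH hbH
    have hm := inf_mem_family h.hA h.hθ hH.1 (hne H hH)
    rw [← coprime_commutator_sup (hzA.trans (mem_normalizes hm)) (ea_coprime (ea_le h.hA hzA) hm.2.1)
      (Or.inl hsolv)]
    refine sup_le ?_ ?_
    · exact (le_iSup (fun H : {H : Subgroup G // Line p A H ∧ b ∉ H} =>
        ⁅signalizerInf (H : Subgroup G) θ, zpowers b⁆) ⟨H, hH, hbH⟩).trans Subgroup.le_normalizer
    · rintro y ⟨hy, hyb⟩
      obtain ⟨H₀, hH₀, hb₀, -⟩ := line_through h hb hb.1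
      refine hthrough H₀ hH₀ hb₀ ?_
      refine Subgroup.mem_iInf.mpr fun a => ?_
      obtain ⟨c, hcH, hc₀, hc1⟩ := lines_meet h hH hH₀
      have hcb : c ∉ zpowers b := fun hcb => by
        have e : zpowers c = zpowers b := by
          refine Subgroup.eq_of_le_of_card_ge (zpowers_le.mpr hcb) ?_
          rw [Nat.card_zpowers, Nat.card_zpowers, orderOf_eq_prime_of_ea h.hA hb.1 hb.2,
            orderOf_eq_prime_of_ea h.hA (hH₀.1 hc₀) hc1]
        exact hbH (zpowers_le.mpr hcH (e.symm ▸ mem_zpowers b))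
      have hyH₀ : y ∈ centralizer (H₀ : Set G) := by
        intro z hz
        have hle' : H₀ ≤ centralizer ({y} : Set G) := by
          rw [← line_eq_sup h hH₀ hb₀ hb.2 hc₀ hcb]
          refine sup_le (fun w hw => mem_centralizer_singleton_iff.mpr (hyb w hw)) (zpowers_le.mpr ?_)
          exact mem_centralizer_singleton_iff.mpr (inf_le_centralizer h hH.1 hy c hcH)
        exact mem_centralizer_singleton_iff.mp (hle' hz)
      exact Subgroup.mem_iInf.mp (inf_centralizer_le_theta h hm hH₀.1 ⟨hy, hyH₀⟩) a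
  have hall : ∀ a, Pt A a → θ a ≤ normalizer (X' : Set G) := fun a ha =>
    le_of_lines h (theta_mem h.hθ ha.1 ha.2) fun H hH =>
      (inf_centralizer_le_theta h (theta_mem h.hθ ha.1 ha.2) hH.1).trans (hlines H hH)
  by_cases hbot : X' = ⊥
  · refine h.ncomplete ⟨θ b, theta_mem h.hθ hb.1 hb.2, fun a ha => ?_⟩
    have hcen : θ a ≤ centralizer ({b} : Set G) := by
      intro y hy
      by_cases hab : a ∈ zpowers b
      · have e : zpowers a = zpowers b := by
          refine Subgroup.eq_of_le_of_card_ge (zpowers_le.mpr hab) ?_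
          rw [Nat.card_zpowers, Nat.card_zpowers, orderOf_eq_prime_of_ea h.hA hb.1 hb.2,
            orderOf_eq_prime_of_ea h.hA ha.1 ha.2]
        obtain ⟨j, hj⟩ := Subgroup.mem_zpowers_iff.mp (show b ∈ zpowers a from e.symm ▸ mem_zpowers b)
        rw [← hj]
        exact mem_centralizer_singleton_iff.mpr
          ((show Commute y a from mem_centralizer_singleton_iff.mp (h.hθ.1.1 a ha.1 ha.2 hy)).zpow_right j).eq
      · have h1 : ⁅y, b⁆ = 1 := Subgroup.mem_bot.mp (hbot ▸ hpt a ha hab
          (Subgroup.commutator_mem_commutator hy (mem_zpowers b)))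
        exact mem_centralizer_singleton_iff.mpr (commutatorElement_eq_one_iff_commute.mp h1).eq
    exact (le_inf le_rfl hcen).trans (theta_le_of_mem (theta_mem h.hθ ha.1 ha.2) hb)
  · have hD : DD A θ ≤ normalizer (X' : Set G) := (dd_le_theta hb).trans (hall b hb)
    obtain ⟨K, hK, -, hmax⟩ := exists_MM_normalizer h hX'm hbot hD
    exact h.ncomplete ⟨K, hK.1, fun a ha => hmax _ (theta_mem h.hθ ha.1 ha.2) (hall a ha)⟩

/-- A line centralising every core of a maximal member forces completeness. -/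
theorem fix_line (h : Ctx p A θ) {K : Subgroup G} (hK : MM p A θ K) {H : Subgroup G} (hH : Line p A H)
    (hc : ∀ r : ℕ, r.Prime → O r K ≤ centralizer (H : Set G)) : False := by
  haveI := hK.1.1
  have hθ : ∀ a ∈ H, a ≠ 1 → θ a = K := by
    intro a ha ha1
    have hzA : zpowers a ≤ A := (zpowers_le.mpr ha).trans hH.1
    have hcop := ea_coprime (ea_le h.hA hzA) hK.1.2.1
    have hn : zpowers a ≤ normalizer (K : Set G) := hzA.trans (mem_normalizes hK.1)
    set X := ⁅K, zpowers a⁆ with hX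
    have hXK : X ≤ K := commutator_le_of_le_normalizer hn
    have hXc : ∀ r : ℕ, r.Prime → X ≤ centralizer (O r K : Set G) := by
      intro r hr
      refine Subgroup.commutator_le.mpr fun k hk g hg y hy => ?_
      have hgc : ∀ z ∈ O r K, Commute g z := fun z hz => (hc r hr hz) g (zpowers_le.mpr ha hg)
      have h1 : Commute g (k⁻¹ * y * k) := hgc _ ((mem_normalizer_iff''.mp (O_normal hk) y).mp hy)
      have h3 : Commute g⁻¹ y := (hgc y hy).inv_left
      rw [commutatorElement_def]
      calc y * (k * g * k⁻¹ * g⁻¹) = k * ((k⁻¹ * y * k) * g) * k⁻¹ * g⁻¹ := by group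
        _ = k * (g * (k⁻¹ * y * k)) * k⁻¹ * g⁻¹ := by rw [h1.eq]
        _ = k * g * k⁻¹ * (y * g⁻¹) := by group
        _ = k * g * k⁻¹ * (g⁻¹ * y) := by rw [h3.eq]
        _ = _ := by group
    have hXa : X ≤ centralizer (zpowers a : Set G) := by
      have hF : fittingSubgroup ↥K ≤ (centralizer (zpowers a : Set G)).subgroupOf K := by
        rw [fittingSubgroup_eq_iSup_pCore]
        exact iSup_le fun r x hx => Subgroup.centralizer_le (zpowers_le.mpr ha)
          (hc r r.2 ⟨x, hx, rfl⟩ : (x : G) ∈ centralizer (H : Set G))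
      have h1 : X.subgroupOf K ≤ fittingSubgroup ↥K := by
        refine le_trans ?_ centralizer_fitting_le
        rw [fittingSubgroup_eq_iSup_pCore]
        exact Subgroup.le_centralizer_iff.mp (iSup_le fun r =>
          Subgroup.le_centralizer_iff.mp (centralizer_O_le hXK (hXc r r.2)))
      exact fun x hx => hF (h1 (x := ⟨x, hXK hx⟩) hx)
    have hKc : K ≤ centralizer ({a} : Set G) := by
      intro k hk
      obtain ⟨y, hy, c, hc', rfl⟩ := coprime_decomp hn hcop (Or.inl (ea_solvable (ea_le h.hA hzA))) hk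
      exact mul_mem (Subgroup.centralizer_le (Set.singleton_subset_iff.mpr (mem_zpowers a)) (hXa hy))
        (Subgroup.centralizer_le (Set.singleton_subset_iff.mpr (mem_zpowers a)) hc'.2)
    exact hK.2.2 _ (theta_mem h.hθ (hH.1 ha) ha1)
      ((le_inf le_rfl hKc).trans (theta_le_of_mem hK.1 ⟨hH.1 ha, ha1⟩))
  refine h.ncomplete ⟨K, hK.1, fun c hc' => ?_⟩
  refine le_of_points_of_line h (theta_mem h.hθ hc'.1 hc'.2) hH fun a ha ha1 => ?_
  exact (theta_le_of_mem (theta_mem h.hθ hc'.1 hc'.2) ⟨hH.1 ha, ha1⟩).trans (hθ a ha ha1).le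

/-- In a maximal member with one core, that core is centralised by no line. -/
theorem multi_of_single (h : Ctx p A θ) {K : Subgroup G} (hK : MM p A θ K) {q : ℕ}
    (hs : ∀ r : ℕ, r.Prime → r ≠ q → O r K = ⊥) {H : Subgroup G} (hH : Line p A H) :
    ¬ O q K ≤ centralizer (H : Set G) := fun hle =>
  fix_line h hK hH fun r hr => by
    by_cases e : r = q
    · rw [e]; exact hle
    · rw [hs r hr e]; exact bot_le

end CfsgLib.SolvSF
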