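import Cfsg.Agent.Lib.SolvSF.Lift
import Cfsg.Agent.Lib.SolvSF.Pencil

/-! The engine: good and bad lines. -/

set_option autoImplicit false
set_option linter.unusedSectionVars false

namespace CfsgLib.SolvSF

open Cfsg Subgroup CfsgLib.Signalizer
open scoped commutatorElement

universe u
variable {G : Type u} [Group G] [Finite G] {p : ℕ} [Fact p.Prime] {A : Subgroup G} {θ : G → Subgroup G}

/-- A group `U` normalised by `x` of prime order with `C_U(x) = 1` that centralises `C_M(x)` centralises the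
`t`-group `M`, `t` prime to `#U`. -/
theorem frob_centralizes {X : Type u} [Group X] [Finite X] {t : ℕ} [Fact t.Prime] {M U : Subgroup X} {x : X}
    (hM : IsPGroup t M) (hMp : (Nat.card M).Coprime p) (hU : ¬ t ∣ Nat.card U)
    (hUM : U ≤ normalizer (M : Set X)) (hxM : x ∈ normalizer (M : Set X)) (hxU : x ∈ normalizer (U : Set X))
    (hxp : x ^ p = 1) (hfix : ∀ u ∈ U, x * u = u * x → u = 1)
    (hc : ∀ u ∈ U, ∀ m ∈ M, x * m = m * x → u * m = m * u) :
    U ≤ centralizer (M : Set X) := by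
  classical
  haveI := Fintype.ofFinite U
  have hp := (Fact.out : p.Prime)
  have hx1 : orderOf x ∣ p := orderOf_dvd_of_pow_eq_one hxp
  let cj : ↥(normalizer (M : Set X)) → (↥M →* ↥M) := fun g =>
    { toFun := fun m => ⟨(g : X) * m * (g : X)⁻¹, (mem_normalizer_iff.mp g.2 m).mp m.2⟩
      map_one' := Subtype.ext (by simp)
      map_mul' := fun a b => Subtype.ext (by simp [mul_assoc]) }
  let α : ↥(normalizer (M : Set X)) → (Abelianization ↥M →* Abelianization ↥M) := fun g =>
    Abelianization.map (cj g)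
  have hα_of : ∀ g m, α g (Abelianization.of m) = Abelianization.of (cj g m) := fun g m =>
    Abelianization.map_of (cj g) m
  have hα_mul : ∀ g h v, α (g * h) v = α g (α h v) := by
    intro g h v
    obtain ⟨m, rfl⟩ := QuotientGroup.mk_surjective v
    show α (g * h) (Abelianization.of m) = α g (α h (Abelianization.of m))
    rw [hα_of, hα_of, hα_of]
    exact congrArg _ (Subtype.ext (by simp [cj, mul_assoc]))
  have hα_one : ∀ v, α 1 v = v := by
    intro v
    obtain ⟨m, rfl⟩ := QuotientGroup.mk_surjective v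
    show α 1 (Abelianization.of m) = Abelianization.of m
    rw [hα_of]
    exact congrArg _ (Subtype.ext (by simp [cj]))
  have hker : ∀ a b : ↥M, Abelianization.of a = Abelianization.of b → (a : X)⁻¹ * b ∈ ⁅M, M⁆ := by
    intro a b e
    have h1 : a⁻¹ * b ∈ commutator ↥M := QuotientGroup.eq.mp e
    have h2 : ((a⁻¹ * b : ↥M) : X) ∈ (commutator ↥M).map M.subtype := Subgroup.mem_map_of_mem M.subtype h1
    rwa [_root_.commutator_def, Subgroup.map_commutator, ← MonoidHom.range_eq_map, Subgroup.range_subtype,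
      Subgroup.coe_mul, Subgroup.coe_inv] at h2
  set xN : ↥(normalizer (M : Set X)) := ⟨x, hxM⟩ with hxN
  let wN : U → ↥(normalizer (M : Set X)) := fun w => ⟨w, hUM w.2⟩
  have hxNp : xN ^ p = 1 := Subtype.ext (by simpa using hxp)
  -- the norm over `⟨x⟩` is fixed by `U`
  have hnorm : ∀ v, ∀ u : U, α (wN u) (∏ i ∈ Finset.range p, α (xN ^ i) v) =
      ∏ i ∈ Finset.range p, α (xN ^ i) v := by
    intro v u
    set P := ∏ i ∈ Finset.range p, α (xN ^ i) v with hP
    have hPx : α xN P = P := by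
      obtain ⟨n, hn⟩ : ∃ n, p = n + 1 := ⟨p - 1, by have := hp.pos; omega⟩
      rw [hP, map_prod, hn, Finset.prod_range_succ' (fun i => α (xN ^ i) v), Finset.prod_range_succ]
      congr 1
      · exact Finset.prod_congr rfl fun i _ => by rw [← hα_mul, ← pow_succ']
      · rw [← hα_mul, ← pow_succ', ← hn, hxNp, pow_zero]
    obtain ⟨z, hz⟩ := QuotientGroup.mk_surjective P
    have hz' : Abelianization.of z = P := hz
    have hpow : ∀ k : ℕ, α (xN ^ k) P = P := by
      intro k
      induction k with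
      | zero => rw [pow_zero, hα_one]
      | succ k ih => rw [pow_succ', hα_mul, ih, hPx]
    have hzx : zpowers x ≤ normalizer (M : Set X) := zpowers_le.mpr hxM
    have hcard : (Nat.card (zpowers x)).Coprime (Nat.card M) := by
      rw [Nat.card_zpowers]
      exact Nat.Coprime.coprime_dvd_left hx1 hMp.symm
    obtain ⟨c, ⟨hcM, hcx⟩, hzc⟩ := coprime_fixed_quotient (N := ⁅M, M⁆) hzx hcard
      (Or.inl inferInstance) (Subgroup.commutator_le_self M)
      (left_le_normalizer_commutator M M)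
      (fun a ha => by
        have haM := hzx ha
        refine Comp.mem_normalizer_of_maps fun y hy => ?_
        have e : M.map (MulAut.conj a).toMonoidHom = M := by
          refine Subgroup.eq_of_le_of_card_ge ?_
            (by rw [Subgroup.card_map_of_injective (MulAut.conj a).injective])
          rintro _ ⟨m, hm, rfl⟩
          exact (mem_normalizer_iff.mp haM m).mp hm
        have h2 : (⁅M, M⁆ : Subgroup X).map (MulAut.conj a).toMonoidHom = ⁅M, M⁆ := by
          rw [Subgroup.map_commutator, e]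
        rw [← h2]
        exact ⟨y, hy, rfl⟩)
      z.2 (fun a ha => by
        obtain ⟨k, rfl⟩ : ∃ k : ℕ, a = x ^ k := by
          obtain ⟨k, -, hk⟩ := Finset.mem_image.mp (mem_zpowers_iff_mem_range_orderOf.mp ha)
          exact ⟨k, hk.symm⟩
        have h1 : Abelianization.of (cj (xN ^ k) z) = Abelianization.of z := by rw [← hα_of, hz', hpow]
        have h2 := hker _ _ h1
        have h3 : ((cj (xN ^ k) z : ↥M) : X) = x ^ k * z * (x ^ k)⁻¹ := rfl
        rw [h3] at h2
        have h4 := inv_mem h2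
        rw [mul_inv_rev, inv_inv] at h4
        -- `z⁻¹ * (a z a⁻¹)` to `a z a⁻¹ z⁻¹`
        have h5 := (mem_normalizer_iff.mp (left_le_normalizer_commutator M M z.2) _).mp h4
        simpa [mul_assoc] using h5)
    have hPc : P = Abelianization.of ⟨c, hcM⟩ := by
      rw [← hz']
      refine QuotientGroup.eq.mpr ?_
      have h1 : (commutator ↥M).map M.subtype = ⁅M, M⁆ := by
        rw [_root_.commutator_def, Subgroup.map_commutator, ← MonoidHom.range_eq_map, Subgroup.range_subtype]
      rw [← h1] at hzc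
      obtain ⟨y, hy, e⟩ := hzc
      have : z⁻¹ * (⟨c, hcM⟩ : ↥M) = y := Subtype.ext (by simpa using e.symm)
      rw [this]; exact hy
    rw [hPc, hα_of]
    refine congrArg _ (Subtype.ext ?_)
    show (u : X) * c * (u : X)⁻¹ = c
    rw [hc u u.2 c hcM (hcx x (mem_zpowers x)), mul_inv_cancel_right]
  -- every `#U`-th power is fixed by `U`
  have hfixed : ∀ v, ∀ u : U, α (wN u) v = v := by
    intro v
    set Tv := ∏ w : U, α (wN w) (∏ i ∈ Finset.range p, α (xN ^ i) (α (wN w)⁻¹ v)) with hTv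
    have hT : ∀ u : U, α (wN u) Tv = Tv := by
      intro u
      rw [hTv, map_prod]
      exact Finset.prod_congr rfl fun w _ => by rw [hnorm, hnorm]
    obtain ⟨n, hn⟩ : ∃ n, p = n + 1 := ⟨p - 1, by have := hp.pos; omega⟩
    have hsplit : Tv = (∏ i ∈ Finset.range n, ∏ w : U, α (wN w * xN ^ (i + 1) * (wN w)⁻¹) v) *
        v ^ Fintype.card U := by
      rw [hTv]
      simp_rw [map_prod, ← hα_mul]
      rw [Finset.prod_comm, hn, Finset.prod_range_succ']
      congr 1
      · exact Finset.prod_congr rfl fun i _ => Finset.prod_congr rfl fun w _ => by rw [mul_assoc]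
      · simp [hα_one]
    have hrest : ∀ i ∈ Finset.range n, ∀ u : U,
        α (wN u) (∏ w : U, α (wN w * xN ^ (i + 1) * (wN w)⁻¹) v) =
          ∏ w : U, α (wN w * xN ^ (i + 1) * (wN w)⁻¹) v := by
      intro i hi u
      set y := x ^ (i + 1) with hy
      have hyU : y ∈ normalizer (U : Set X) := pow_mem hxU _
      let e : U → U := fun w => ⟨(w : X) * (y * (w : X)⁻¹ * y⁻¹),
        mul_mem w.2 ((mem_normalizer_iff.mp hyU _).mp (inv_mem w.2))⟩
      have he : Function.Bijective e := by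
        refine Finite.injective_iff_bijective.mp fun a b hab => ?_
        have h1 : (a : X) * (y * (a : X)⁻¹ * y⁻¹) = (b : X) * (y * (b : X)⁻¹ * y⁻¹) := congrArg Subtype.val hab
        have h1' : (a : X) * y * (a : X)⁻¹ = (b : X) * y * (b : X)⁻¹ := by
          have h' := congrArg (· * y) h1
          simpa [mul_assoc] using h'
        set k := (b : X)⁻¹ * a with hk
        have h2 : Commute k y := by
          show k * y = y * k
          rw [hk]
          calc (b : X)⁻¹ * a * y = (b : X)⁻¹ * ((a : X) * y * (a : X)⁻¹) * a := by group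
            _ = (b : X)⁻¹ * ((b : X) * y * (b : X)⁻¹) * a := by rw [h1']
            _ = _ := by group
        have hcop : (i + 1).Coprime (orderOf x) := by
          refine Nat.Coprime.coprime_dvd_right hx1 ((hp.coprime_iff_not_dvd.mpr fun h => ?_).symm)
          have := Nat.le_of_dvd (Nat.succ_pos i) h
          have := Finset.mem_range.mp hi
          omega
        obtain ⟨m, hm⟩ := exists_pow_eq_self_of_coprime hcop
        have h3 : Commute k x := hm ▸ (h2.pow_right m)
        have h4 := hfix k (mul_mem (inv_mem b.2) a.2) h3.eq.symm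
        exact Subtype.ext (inv_mul_eq_one.mp h4).symm
      have hre : (∏ w : U, α (wN w * xN ^ (i + 1) * (wN w)⁻¹) v) =
          ∏ w : U, α (wN w) (α (xN ^ (i + 1)) v) := by
        rw [← Function.Bijective.prod_comp he fun w => α (wN w) (α (xN ^ (i + 1)) v)]
        refine Finset.prod_congr rfl fun w _ => ?_
        rw [← hα_mul]
        exact congrArg (fun g => α g v) (Subtype.ext (by simp [wN, e, y, xN, mul_assoc]))
      rw [hre, map_prod]
      calc ∏ w : U, α (wN u) (α (wN w) (α (xN ^ (i + 1)) v))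
          = ∏ w : U, α (wN (u * w)) (α (xN ^ (i + 1)) v) := Finset.prod_congr rfl fun w _ => by
            rw [← hα_mul (wN u)]; rfl
        _ = _ := (Group.mulLeft_bijective u).prod_comp fun w => α (wN w) (α (xN ^ (i + 1)) v)
    intro u
    have h1 : α (wN u) (v ^ Fintype.card U) = v ^ Fintype.card U := by
      have h2 := hT u
      rw [hsplit, map_mul, map_prod, Finset.prod_congr rfl fun i hi => hrest i hi u] at h2
      exact mul_left_cancel h2
    rw [map_pow] at h1
    obtain ⟨k, hk⟩ := IsPGroup.iff_card.mp (hM.of_surjective Abelianization.of QuotientGroup.mk_surjective)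
    have hcop : (Nat.card (Abelianization ↥M)).Coprime (Fintype.card U) := by
      rw [hk, ← Nat.card_eq_fintype_card]
      exact Nat.Coprime.pow_left k ((Fact.out : t.Prime).coprime_iff_not_dvd.mpr hU)
    exact (powCoprime hcop).injective h1
  have hder : ⁅M, U⁆ ≤ M.lowerCentralSeries 1 := by
    rw [Stabilizer.lowerCentralSeries_succ', Subgroup.lowerCentralSeries_zero, Subgroup.commutator_le]
    intro m hm u hu
    have h1 := hfixed (Abelianization.of ⟨m, hm⟩) ⟨u, hu⟩
    rw [hα_of] at h1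
    have h2 := hker _ _ h1
    have h3 : ((cj (wN ⟨u, hu⟩) ⟨m, hm⟩ : ↥M) : X) = u * m * u⁻¹ := rfl
    rw [h3] at h2
    have h4 := (mem_normalizer_iff.mp (left_le_normalizer_commutator M M hm) _).mp h2
    simpa [commutatorElement_def, mul_assoc] using h4
  intro u hu m hm
  have hcop : (orderOf u).Coprime t := Nat.Coprime.coprime_dvd_left (Subgroup.orderOf_dvd_natCard U hu)
    ((Fact.out : t.Prime).coprime_iff_not_dvd.mpr hU).symm
  exact (Stabilizer.centralizes_of_mod_derived hM hcop U hu hUM hder m hm).symm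

/-- `a` has a colour with a `q`-core. -/
def NonLack (p : ℕ) (A : Subgroup G) (θ : G → Subgroup G) (q : ℕ) (a : G) : Prop :=
  ∃ K, MM p A θ K ∧ θ a ≤ K ∧ O q K ≠ ⊥

theorem mem_zpowers_of_line (h : Ctx p A θ) {H : Subgroup G} (hH : Line p A H) {a b : G} (ha : a ∈ H)
    (ha1 : a ≠ 1) (hb : b ∈ H) (hb1 : b ∉ zpowers a) : zpowers a ⊔ zpowers b = H := by
  have hp := (Fact.out : p.Prime)
  have hle : zpowers a ⊔ zpowers b ≤ H := sup_le (zpowers_le.mpr ha) (zpowers_le.mpr hb)
  refine Subgroup.eq_of_le_of_card_ge hle ?_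
  have hlt : zpowers a < zpowers a ⊔ zpowers b :=
    lt_of_le_of_ne le_sup_left fun e => hb1 (e.symm ▸ Subgroup.mem_sup_right (mem_zpowers b))
  have ha_card : Nat.card (zpowers a) = p := by
    rw [Nat.card_zpowers, orderOf_eq_prime_of_ea h.hA (hH.1 ha) ha1]
  obtain ⟨k, hk, hk'⟩ := (Nat.dvd_prime_pow hp).mp (hH.2 ▸ Subgroup.card_dvd_of_le hle)
  have hne : Nat.card (zpowers a) ≠ Nat.card ↥(zpowers a ⊔ zpowers b) := fun e =>
    hlt.ne (Subgroup.eq_of_le_of_card_ge hlt.le e.ge)
  have hcl := lt_of_le_of_ne (Subgroup.card_le_of_le hlt.le) hne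
  rw [ha_card, hk'] at hcl
  rw [hH.2, hk']
  refine Nat.pow_le_pow_right hp.pos ?_
  by_contra hk2
  have : p ^ k ≤ p ^ 1 := Nat.pow_le_pow_right hp.pos (by omega)
  rw [pow_one] at this
  omega

theorem mem_centralizer_line (h : Ctx p A θ) {H : Subgroup G} (hH : Line p A H) {a b : G} (ha : a ∈ H)
    (ha1 : a ≠ 1) (hb : b ∈ H) (hb1 : b ∉ zpowers a) {y : G} (hya : y ∈ centralizer ({a} : Set G))
    (hyb : y ∈ centralizer ({b} : Set G)) : y ∈ centralizer (H : Set G) := by
  have hle : H ≤ centralizer ({y} : Set G) := by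
    rw [← mem_zpowers_of_line h hH ha ha1 hb hb1]
    exact sup_le (zpowers_le.mpr (mem_centralizer_singleton_iff.mpr (mem_centralizer_singleton_iff.mp hya).symm))
      (zpowers_le.mpr (mem_centralizer_singleton_iff.mpr (mem_centralizer_singleton_iff.mp hyb).symm))
  exact fun z hz => mem_centralizer_singleton_iff.mp (hle hz)

/-- The colours of a lacking point lack the `q`-core. -/
theorem lacking_meet (h : Ctx p A θ) {q : ℕ} {Y : Subgroup G} (hY : Qual p A θ q Y) {a : G} (ha : Pt A a)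
    (hl : ¬ NonLack p A θ q a) : Y ⊓ centralizer ({a} : Set G) = ⊥ := by
  obtain ⟨K, hK, hθK⟩ := exists_colour h ha
  have hO : O q K = ⊥ := by
    by_contra hne; exact hl ⟨K, hK, hθK, hne⟩
  refine le_bot_iff.mp ?_
  rw [← hY.2 K hK hO]
  exact le_inf inf_le_left ((hY.1.2.2.2 a ha.1 ha.2).trans hθK)

/-- A piece of a line contains a point. -/
theorem piece_point {H B : Subgroup G} (hH : Line p A H) (hB : B.relIndex H ≤ p) :
    ∃ x ∈ B, x ≠ 1 := by
  by_contra hne
  push Not at hne
  have e : B = ⊥ := (Subgroup.eq_bot_iff_forall B).mpr hne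
  rw [e, Subgroup.relIndex_bot_left, hH.2] at hB
  have := (Fact.out : p.Prime).one_lt
  nlinarith

/-- A line with two independent non-lacking points is good. -/
theorem good_line (h : Ctx p A θ) {q : ℕ} (hE : EngineHyp p A θ q) {H : Subgroup G} (hH : Line p A H)
    {d e : G} (hd : d ∈ H) (hd1 : d ≠ 1) (he : e ∈ H) (hde : e ∉ zpowers d)
    (hdn : NonLack p A θ q d) (hen : NonLack p A θ q e) :
    signalizerInf H θ ≤ normalizer (T0 p A θ q : Set G) := by
  haveI : Fact q.Prime := ⟨hE.prime⟩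
  have hHA := hH.1
  set T := T0 p A θ q with hT
  intro c hc
  have hcθ : ∀ x ∈ H, x ≠ 1 → c ∈ θ x := fun x hx hx1 => Subgroup.mem_iInf.mp hc ⟨x, hx, hx1⟩
  have hcx : ∀ x ∈ H, Commute x c := fun x hx => by
    by_cases hx1 : x = 1
    · rw [hx1]; exact Commute.one_left c
    · exact (mem_centralizer_singleton_iff.mp (h.hθ.1.1 x (hHA hx) hx1 (hcθ x hx hx1))).symm
  set S := T.map (MulAut.conj c).toMonoidHom with hS
  have hTmem : Mem p A θ T := T0_mem h
  have hTp : IsPGroup q T := (W_isPGroup h).to_le inf_le_left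
  have hSp : IsPGroup q S := hTp.map _
  have hScard : Nat.card S = Nat.card T := Subgroup.card_map_of_injective (MulAut.conj c).injective
  have hSnp : ¬ p ∣ Nat.card S := hScard ▸ hTmem.2.1
  have hSH : H ≤ normalizer (S : Set G) := fun x hx => by
    refine Comp.mem_normalizer_of_maps ?_
    rintro _ ⟨y, hy, rfl⟩
    refine ⟨x * y * x⁻¹, hTmem.2.2.1 x (hHA hx) y hy, ?_⟩
    show c * (x * y * x⁻¹) * c⁻¹ = x * (c * y * c⁻¹) * x⁻¹
    calc c * (x * y * x⁻¹) * c⁻¹ = (c * x) * y * (c * x)⁻¹ := by group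
      _ = (x * c) * y * (x * c)⁻¹ := by rw [(hcx x hx).eq]
      _ = _ := by group
  -- the conjugate lies in the `q`-core of every colour
  have hScol : ∀ x ∈ H, x ≠ 1 → ∀ K, MM p A θ K → θ x ≤ K → O q K ≠ ⊥ → S ≤ O q K := by
    rintro x hx hx1 K hK hθK hO _ ⟨y, hy, rfl⟩
    exact (mem_normalizer_iff.mp (O_normal (hθK (hcθ x hx hx1))) y).mp (hE.t_le K hK hO hy)
  -- lacking points
  have hSlack : ∀ x ∈ H, x ≠ 1 → ¬ NonLack p A θ q x → S ⊓ centralizer ({x} : Set G) = ⊥ := by
    intro x hx hx1 hl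
    refine le_bot_iff.mp ?_
    rintro _ ⟨⟨y, hy, rfl⟩, hyx⟩
    have hyx' : y ∈ centralizer ({x} : Set G) := by
      have hc' : c ∈ centralizer ({x} : Set G) := mem_centralizer_singleton_iff.mpr (hcx x hx).symm.eq
      have := mul_mem (mul_mem (inv_mem hc') hyx) hc'
      simpa [mul_assoc] using this
    have : y ∈ T ⊓ centralizer ({x} : Set G) := ⟨hy, hyx'⟩
    rw [lacking_meet h hE.qual ⟨hHA hx, hx1⟩ hl, Subgroup.mem_bot] at this
    simp [this]
  have hSW : S ≤ W p A θ q := by
    obtain ⟨K, hK, hθK, hO⟩ := hdn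
    exact (hScol d hd hd1 K hK hθK hO).trans (O_le_W h hK)
  have hST : S ≤ T := by
    refine le_inf hSW (le_iInf ?_)
    rintro ⟨G₀, hG₀, hWG⟩
    show S ≤ O q G₀
    refine le_O_of_layers h hG₀.1 (hSW.trans hWG) hSp fun t ht htq => ?_
    haveI : Fact t.Prime := ⟨ht⟩
    set E := O q G₀ with hEdef
    set L := Lay q t G₀ with hL
    set N := normalizer (E : Set G) with hN
    have hLmem : Mem p A θ L := Lay_mem h hG₀.1
    have hEmem : Mem p A θ E := O_mem h hG₀.1
    have hLN : L ≤ N := Lay_le.trans O_normal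
    have hSN : S ≤ N := (hSW.trans hWG).trans O_normal
    have hAN : A ≤ N := mem_normalizes hEmem
    have hAL : A ≤ normalizer (L : Set G) := mem_normalizes hLmem
    haveI : (E.subgroupOf N).Normal :=
      (Subgroup.normal_subgroupOf_iff_le_normalizer Subgroup.le_normalizer).mpr le_rfl
    set π := QuotientGroup.mk' (E.subgroupOf N) with hπ
    have hπ1 : ∀ a : N, π a = 1 ↔ (a : G) ∈ E := fun a => by
      rw [hπ, QuotientGroup.mk'_apply, QuotientGroup.eq_one_iff, Subgroup.mem_subgroupOf]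
    have hπc : ∀ a b : N, π a * π b = π b * π a ↔ (a : G) * b * (a : G)⁻¹ * (b : G)⁻¹ ∈ E := fun a b => by
      have := hπ1 (a * b * a⁻¹ * b⁻¹)
      rw [map_mul, map_mul, map_mul, map_inv, map_inv, mul_inv_eq_one, mul_inv_eq_iff_eq_mul] at this
      simpa using this
    set Lb := (L.subgroupOf N).map π with hLb
    set Sb := (S.subgroupOf N).map π with hSb
    suffices hgoal : Sb ≤ centralizer (Lb : Set (↥N ⧸ E.subgroupOf N)) by
      intro x hx y hy
      exact (hπc ⟨x, hSN hx⟩ ⟨y, hLN hy⟩).mp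
        ((hgoal ⟨⟨x, hSN hx⟩, hx, rfl⟩) (π ⟨y, hLN hy⟩) ⟨⟨y, hLN hy⟩, hy, rfl⟩).symm
    -- non-lacking points
    have hnl : ∀ x ∈ H, x ≠ 1 → NonLack p A θ q x → ∀ s ∈ S, ∀ y ∈ L, y ∈ centralizer ({x} : Set G) →
        s * y * s⁻¹ * y⁻¹ ∈ E := by
      rintro x hx hx1 ⟨K, hK, hθK, hO⟩ s hs y hy hyx
      have hsK := hScol x hx hx1 K hK hθK hO hs
      have hyK : y ∈ K := hθK (hG₀.1.2.2.2 x (hHA hx) hx1 ⟨Lay_le hy, hyx⟩)
      have h1 : s * y * s⁻¹ * y⁻¹ ∈ L := by
        refine mul_mem ?_ (inv_mem hy)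
        exact (mem_normalizer_iff.mp (Lay_normal (hSW.trans hWG hs)) y).mp hy
      have h2 : s * y * s⁻¹ * y⁻¹ ∈ O q K := by
        rw [mul_assoc, mul_assoc, ← mul_assoc y]
        exact mul_mem hsK ((mem_normalizer_iff.mp (O_normal hyK) _).mp (inv_mem hsK))
      exact Lay_sylow htq (Q := O q K ⊓ L) inf_le_right (O_isPGroup.to_le inf_le_left) ⟨h2, h1⟩
    by_cases hall : ∀ x ∈ H, x ≠ 1 → NonLack p A θ q x
    · suffices hle : L ≤ ((centralizer (Sb : Set (↥N ⧸ E.subgroupOf N))).comap π).map N.subtype by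
        rintro _ ⟨s, hs, rfl⟩ _ ⟨y, hy, rfl⟩
        obtain ⟨y', hy', e'⟩ := hle hy
        have : y' = y := Subtype.ext e'
        rw [this] at hy'
        exact ((hy' : π y ∈ centralizer (Sb : Set _)) (π s) ⟨s, hs, rfl⟩).symm
      rw [gen_index (K := L) (ea_le h.hA hHA) hLmem.2.1 (hHA.trans hAL)]
      refine iSup_le fun B y hy => ?_
      obtain ⟨x, hxB, hx1⟩ := piece_point hH B.2.2
      refine ⟨⟨y, hLN hy.1⟩, ?_, rfl⟩
      rintro _ ⟨s, hs, rfl⟩
      exact (hπc s ⟨y, hLN hy.1⟩).mpr (hnl x (B.2.1 hxB) hx1 (hall x (B.2.1 hxB) hx1) s hs y hy.1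
        (mem_centralizer_singleton_iff.mpr (hy.2 x hxB).symm))
    · push Not at hall
      obtain ⟨b, hb, hb1, hbl⟩ := hall
      suffices hle : S ≤ ((centralizer (Lb : Set (↥N ⧸ E.subgroupOf N))).comap π).map N.subtype by
        rintro _ ⟨s, hs, rfl⟩
        obtain ⟨s', hs', e'⟩ := hle hs
        have : s' = s := Subtype.ext e'
        rw [this] at hs'
        exact hs'
      rw [gen_index (K := S) (ea_le h.hA hHA) hSnp hSH]
      refine iSup_le fun B => ?_
      obtain ⟨x, hxB, hx1⟩ := piece_point hH B.2.2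
      have hx := B.2.1 hxB
      refine le_trans (inf_le_inf_left S (Subgroup.centralizer_le
        (show ({x} : Set G) ⊆ (B : Subgroup G) from Set.singleton_subset_iff.mpr hxB))) ?_
      by_cases hxn : NonLack p A θ q x
      swap
      · rw [hSlack x hx hx1 hxn]; exact bot_le
      set U := S ⊓ centralizer ({x} : Set G) with hU
      obtain ⟨x', hx', hx'1, hx'n, hx'x⟩ : ∃ x' ∈ H, x' ≠ 1 ∧ NonLack p A θ q x' ∧ x' ∉ zpowers x := by
        by_cases hdx : d ∈ zpowers x
        · refine ⟨e, he, fun h1 => hde (h1 ▸ one_mem _), hen, fun hex => hde ?_⟩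
          have : zpowers d = zpowers x := by
            refine Subgroup.eq_of_le_of_card_ge (zpowers_le.mpr hdx) ?_
            rw [Nat.card_zpowers, Nat.card_zpowers, orderOf_eq_prime_of_ea h.hA (hHA hx) hx1,
              orderOf_eq_prime_of_ea h.hA (hHA hd) hd1]
          rw [this]; exact hex
        · exact ⟨d, hd, hd1, hdn, hdx⟩
      have hUfix : ∀ w ∈ U, x' * w = w * x' → w = 1 := by
        intro w hw hwx
        have h1 := mem_centralizer_line h hH hx hx1 hx' hx'x hw.2 (mem_centralizer_singleton_iff.mpr hwx.symm)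
        have h2 : w ∈ S ⊓ centralizer ({b} : Set G) :=
          ⟨hw.1, mem_centralizer_singleton_iff.mpr (h1 b hb).symm⟩
        rwa [hSlack b hb hb1 hbl, Subgroup.mem_bot] at h2
      have hx'A := hHA hx'
      have hzA : zpowers x' ≤ A := zpowers_le.mpr hx'A
      have hxU : zpowers x' ≤ normalizer (U : Set G) := zpowers_le.mpr
        (inf_normalizes hSH ((centralizer_singleton_normalizes h.hA (hHA hx)).trans' hHA) hx')
      have hUnp : ¬ p ∣ Nat.card U := fun hd' => hSnp (hd'.trans (Subgroup.card_dvd_of_le inf_le_left))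
      have hUN : U ≤ N := inf_le_left.trans hSN
      set x'N : N := ⟨x', hAN hx'A⟩ with hx'N
      set Ub := (U.subgroupOf N).map π with hUb
      -- lifting fixed elements
      have hlift : ∀ K : Subgroup G, ∀ hKN : K ≤ N, A ⊓ zpowers x' ≤ normalizer (K : Set G) →
          ¬ p ∣ Nat.card K → ∀ k : N, (k : G) ∈ K → π x'N * π k = π k * π x'N →
          ∃ c' : N, (c' : G) ∈ K ∧ (c' : G) ∈ centralizer ({x'} : Set G) ∧ π c' = π k := by
        intro K hKN hAK hKp k hk hcomm
        obtain ⟨c', hc', hkc⟩ := coprime_fixed_quotient (A := zpowers x') (N := K ⊓ E)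
          ((le_inf hzA le_rfl).trans hAK) (ea_coprime (ea_le h.hA hzA) hKp)
          (Or.inl (ea_solvable (ea_le h.hA hzA))) inf_le_left
          (fun g hg => Comp.mem_normalizer_of_maps fun w hw =>
            Subgroup.mem_inf.mpr ⟨K.mul_mem (K.mul_mem hg hw.1) (K.inv_mem hg), (mem_normalizer_iff.mp (hKN hg) w).mp hw.2⟩)
          (inf_normalizes ((le_inf hzA le_rfl).trans hAK) (hzA.trans hAN))
          hk (fun a ha => by
            refine Subgroup.mem_inf.mpr ⟨K.mul_mem ((mem_normalizer_iff.mp (((le_inf hzA le_rfl).trans hAK) ha) _).mp hk) (K.inv_mem hk), ?_⟩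
            obtain ⟨j, rfl⟩ := Subgroup.mem_zpowers_iff.mp ha
            have h1 : π (x'N ^ j) * π k = π k * π (x'N ^ j) := by
              rw [map_zpow]; exact ((show Commute (π x'N) (π k) from hcomm).zpow_left j).eq
            have h2 := (hπc _ _).mp h1
            simpa [hx'N] using h2)
        refine ⟨⟨c', hKN hc'.1⟩, hc'.1, mem_centralizer_singleton_iff.mpr (hc'.2 x' (mem_zpowers x')).symm, ?_⟩
        exact ((QuotientGroup.eq (s := E.subgroupOf N)).mpr hkc.2).symm
      have hfrob : Ub ≤ centralizer (Lb : Set (↥N ⧸ E.subgroupOf N)) := by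
        refine frob_centralizes (p := p) (t := t) (x := π x'N) ?_ ?_ ?_ ?_ ?_ ?_ ?_ ?_ ?_
        · rintro ⟨_, y, hy, rfl⟩
          obtain ⟨y', hy', e'⟩ := (hy : (y : G) ∈ L)
          obtain ⟨k, hk⟩ := isPGroup_pCore t ⟨QuotientGroup.mk' (pCore q ↥G₀) y', hy'⟩
          refine ⟨k, Subtype.ext ?_⟩
          have h1 : (QuotientGroup.mk' (pCore q ↥G₀) y') ^ t ^ k = 1 := congrArg Subtype.val hk
          rw [← map_pow, QuotientGroup.mk'_apply, QuotientGroup.eq_one_iff] at h1
          rw [SubmonoidClass.coe_pow, OneMemClass.coe_one, ← map_pow, hπ1, SubmonoidClass.coe_pow,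
            show ((y : N) : G) = (y' : G) from e'.symm]
          exact ⟨y' ^ t ^ k, h1, rfl⟩
        · refine Nat.Coprime.coprime_dvd_left ?_ ((Fact.out : p.Prime).coprime_iff_not_dvd.mpr hLmem.2.1).symm
          rw [← Nat.card_congr (Subgroup.subgroupOfEquivOfLe hLN).toEquiv]
          exact Subgroup.card_map_dvd _ _
        · intro hdv
          have hUq : IsPGroup q Ub := ((hSp.to_le inf_le_left).of_injective (Subgroup.subgroupOfEquivOfLe hUN).toMonoidHom
            (Subgroup.subgroupOfEquivOfLe hUN).injective).map π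
          obtain ⟨k, hk⟩ := IsPGroup.iff_card.mp hUq
          rw [hk] at hdv
          exact htq ((Nat.prime_dvd_prime_iff_eq ht hE.prime).mp (ht.dvd_of_dvd_pow hdv))
        · rintro _ ⟨s, hs, rfl⟩
          refine Comp.mem_normalizer_of_maps ?_
          rintro _ ⟨y, hy, rfl⟩
          refine ⟨s * y * s⁻¹, ?_, by simp⟩
          exact (mem_normalizer_iff.mp (Lay_normal (hSW.trans hWG hs.1)) (y : G)).mp hy
        · refine Comp.mem_normalizer_of_maps ?_
          rintro _ ⟨y, hy, rfl⟩
          exact ⟨x'N * y * x'N⁻¹, (mem_normalizer_iff.mp (hAL hx'A) (y : G)).mp hy, by simp⟩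
        · refine Comp.mem_normalizer_of_maps ?_
          rintro _ ⟨y, hy, rfl⟩
          exact ⟨x'N * y * x'N⁻¹, (mem_normalizer_iff.mp (hxU (mem_zpowers x')) (y : G)).mp hy, by simp⟩
        · rw [← map_pow, hπ1]
          have : ((x'N ^ p : N) : G) = 1 := by simpa [hx'N] using h.hA.2 x' hx'A
          rw [this]; exact one_mem _
        · rintro _ ⟨w, hw, rfl⟩ hcomm
          obtain ⟨c', hc'U, hc'x, e'⟩ := hlift U hUN (inf_le_right.trans hxU) hUnp w hw hcomm
          have h1 := hUfix (c' : G) hc'U (mem_centralizer_singleton_iff.mp hc'x).symm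
          rw [← e', hπ1, h1]; exact one_mem _
        · rintro _ ⟨w, hw, rfl⟩ _ ⟨y, hy, rfl⟩ hcomm
          obtain ⟨c', hc'L, hc'x, e'⟩ := hlift L hLN (inf_le_left.trans hAL) hLmem.2.1 y hy hcomm
          rw [← e']
          exact (hπc w c').mpr (hnl x' hx' hx'1 hx'n w hw.1 c' hc'L hc'x)
      intro w hw
      exact ⟨⟨w, hUN hw⟩, hfrob ⟨⟨w, hUN hw⟩, hw, rfl⟩, rfl⟩
  exact Comp.mem_normalizer_of_maps fun y hy => hST ⟨y, hy, rfl⟩

/-- A bad line has one non-lacking point, and it centralises every qualified subgroup. -/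
theorem bad_line (h : Ctx p A θ) {q : ℕ} (hE : EngineHyp p A θ q) {H : Subgroup G} (hH : Line p A H)
    (hbad : ¬ signalizerInf H θ ≤ normalizer (T0 p A θ q : Set G)) :
    ∃ d ∈ H, d ≠ 1 ∧ NonLack p A θ q d ∧ (∀ Y, Qual p A θ q Y → Y ≤ centralizer ({d} : Set G)) ∧
      ∀ b ∈ H, b ∉ zpowers d → ¬ NonLack p A θ q b := by
  obtain ⟨d, hd, hd1, hdn⟩ : ∃ d ∈ H, d ≠ 1 ∧ NonLack p A θ q d := by
    by_contra hnone
    push Not at hnone
    refine hE.tne (le_bot_iff.mp ?_)
    rw [gen_index (ea_le h.hA hH.1) hE.qual.1.2.1 (hH.1.trans (mem_normalizes hE.qual.1))]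
    refine iSup_le fun B => ?_
    obtain ⟨x, hxB, hx1⟩ := piece_point hH B.2.2
    refine le_trans (inf_le_inf_left _ (Subgroup.centralizer_le
      (show ({x} : Set G) ⊆ (B : Subgroup G) from Set.singleton_subset_iff.mpr hxB))) ?_
    exact (lacking_meet h hE.qual ⟨hH.1 (B.2.1 hxB), hx1⟩ (hnone x (B.2.1 hxB) hx1)).le
  have hlack : ∀ b ∈ H, b ∉ zpowers d → ¬ NonLack p A θ q b := fun b hb hbd hbn =>
    hbad (good_line h hE hH hd hd1 hb hbd hdn hbn)
  refine ⟨d, hd, hd1, hdn, fun Y hY => ?_, hlack⟩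
  rw [gen_index (K := Y) (ea_le h.hA hH.1) hY.1.2.1 (hH.1.trans (mem_normalizes hY.1))]
  refine iSup_le fun B => ?_
  obtain ⟨x, hxB, hx1⟩ := piece_point hH B.2.2
  have hxH := B.2.1 hxB
  refine le_trans (inf_le_inf_left Y (Subgroup.centralizer_le
    (show ({x} : Set G) ⊆ (B : Subgroup G) from Set.singleton_subset_iff.mpr hxB))) ?_
  by_cases hxd : x ∈ zpowers d
  · have e : zpowers x = zpowers d := by
      refine Subgroup.eq_of_le_of_card_ge (zpowers_le.mpr hxd) ?_
      rw [Nat.card_zpowers, Nat.card_zpowers, orderOf_eq_prime_of_ea h.hA (hH.1 hd) hd1,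
        orderOf_eq_prime_of_ea h.hA (hH.1 hxH) hx1]
    intro y hy
    obtain ⟨j, hj⟩ := Subgroup.mem_zpowers_iff.mp (show d ∈ zpowers x from e.symm ▸ mem_zpowers d)
    rw [← hj]
    exact mem_centralizer_singleton_iff.mpr ((show Commute y x from mem_centralizer_singleton_iff.mp hy.2).zpow_right j).eq
  · rw [lacking_meet h hY ⟨hH.1 hxH, hx1⟩ (hlack x hxH hxd)]
    exact bot_le

/-- If every member normalises `T₀` the functor is complete. -/
theorem not_all_normalize (h : Ctx p A θ) {q : ℕ} (hE : EngineHyp p A θ q)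
    (hall : ∀ H, Line p A H → signalizerInf H θ ≤ normalizer (T0 p A θ q : Set G)) : False := by
  haveI : Fact q.Prime := ⟨hE.prime⟩
  obtain ⟨K, hK, -, hmax⟩ := exists_MM_normalizer h (T0_mem h) hE.tne (dd_normalizes_T0 h)
  refine h.ncomplete ⟨K, hK.1, fun a ha => hmax _ (theta_mem h.hθ ha.1 ha.2) ?_⟩
  exact le_of_lines h (theta_mem h.hθ ha.1 ha.2) fun H hH =>
    (inf_centralizer_le_theta h (theta_mem h.hθ ha.1 ha.2) hH.1).trans (hall H hH)

/-- A qualified subgroup centralised by no line ends the proof. -/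
theorem engine (h : Ctx p A θ) {q : ℕ} (hE : EngineHyp p A θ q) {Y : Subgroup G} (hY : Qual p A θ q Y)
    (hm : Multi p A Y) : False := by
  haveI : Fact q.Prime := ⟨hE.prime⟩
  by_cases hall : ∀ H, Line p A H → signalizerInf H θ ≤ normalizer (T0 p A θ q : Set G)
  · exact not_all_normalize h hE hall
  push Not at hall
  obtain ⟨H₀, hH₀, hbad₀⟩ := hall
  obtain ⟨d₀, hd₀, hd₀1, -, hY₀, -⟩ := bad_line h hE hH₀ hbad₀
  have hd₀A : Pt A d₀ := ⟨hH₀.1 hd₀, hd₀1⟩
  obtain ⟨K, hK, -, hmax⟩ := exists_MM_normalizer h (T0_mem h) hE.tne (dd_normalizes_T0 h)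
  refine pencil h hK.1 hd₀A fun H hH hdH => hmax _ (inf_mem_family h.hA h.hθ hH.1 ?_) ?_
  · intro e
    have h2 := hH.2
    rw [e, Subgroup.card_bot] at h2
    exact absurd h2 (Nat.one_lt_pow (by norm_num) (Fact.out : p.Prime).one_lt).ne
  by_contra hbad
  obtain ⟨d, hd, hd1, -, hYd, -⟩ := bad_line h hE hH hbad
  obtain ⟨L, hL, hL₀, hLd⟩ := line_through h hd₀A (hH.1 hd)
  have hdd : d ∉ zpowers d₀ := fun hm' => by
    have e : zpowers d = zpowers d₀ := by
      refine Subgroup.eq_of_le_of_card_ge (zpowers_le.mpr hm') ?_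
      rw [Nat.card_zpowers, Nat.card_zpowers, orderOf_eq_prime_of_ea h.hA hd₀A.1 hd₀A.2,
        orderOf_eq_prime_of_ea h.hA (hH.1 hd) hd1]
    exact hdH (zpowers_le.mpr hd (e.symm ▸ mem_zpowers d₀))
  exact hm L hL fun y hy => mem_centralizer_line h hL hL₀ hd₀1 hLd hdd (hY₀ Y hY hy) (hYd Y hY hy)

/-- If a line centralises `T₀` and `X` normalises some `N₁ ≥ T₀` centralised by it, then `X` normalises `T₀`. -/
theorem single_normalizes (h : Ctx p A θ) {q : ℕ} (hE : EngineHyp p A θ q) {R : Subgroup G} (hR : Line p A R)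
    {N₁ : Subgroup G} (hTN : T0 p A θ q ≤ N₁) (hN : N₁ ≤ centralizer (R : Set G))
    {X : Subgroup G} (hX : Mem p A θ X) (hXN : X ≤ normalizer (N₁ : Set G)) :
    X ≤ normalizer (T0 p A θ q : Set G) := by
  haveI : Fact q.Prime := ⟨hE.prime⟩
  set T := T0 p A θ q with hT
  have hRnl : ∀ a ∈ R, a ≠ 1 → NonLack p A θ q a := by
    intro a ha ha1
    by_contra hl
    refine hE.tne (le_bot_iff.mp ?_)
    rw [← lacking_meet h hE.qual ⟨hR.1 ha, ha1⟩ hl]
    exact le_inf le_rfl ((hTN.trans hN).trans (Subgroup.centralizer_le (Set.singleton_subset_iff.mpr ha)))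
  have hRgood : signalizerInf R θ ≤ normalizer (T : Set G) := by
    obtain ⟨d, hd, hd1⟩ := piece_point hR (B := R) (by simp; exact (Fact.out : p.Prime).pos)
    obtain ⟨e, he, hed⟩ := SetLike.exists_of_lt (lt_of_le_of_ne (zpowers_le.mpr hd) fun e => by
      have h2 := hR.2
      rw [← e, Nat.card_zpowers, orderOf_eq_prime_of_ea h.hA (hR.1 hd) hd1] at h2
      have := (Fact.out : p.Prime).one_lt
      nlinarith)
    exact good_line h hE hR hd hd1 he hed (hRnl d hd hd1) (hRnl e he fun h1 => hed (h1 ▸ one_mem _))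
  refine le_of_lines h hX fun H hH => ?_
  by_cases hRH : R ≤ H
  · have e : R = H := Subgroup.eq_of_le_of_card_ge hRH (by rw [hR.2, hH.2])
    exact ((inf_centralizer_le_theta h hX hH.1).trans (e ▸ hRgood))
  obtain ⟨a, haR, haH⟩ := SetLike.not_le_iff_exists.mp hRH
  have haA := hR.1 haR
  have hzA : zpowers a ≤ A := zpowers_le.mpr haA
  set XH := X ⊓ centralizer (H : Set G) with hXH
  have hXA : A ≤ normalizer (XH : Set G) :=
    inf_normalizes (mem_normalizes hX) (le_normalizer_centralizer h.hA hH.1)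
  rw [← coprime_commutator_sup (hzA.trans hXA) (ea_coprime (ea_le h.hA hzA)
    fun hd => hX.2.1 (hd.trans (Subgroup.card_dvd_of_le inf_le_left))) (Or.inl (ea_solvable (ea_le h.hA hzA)))]
  refine sup_le ?_ ?_
  · refine Subgroup.commutator_le.mpr fun x hx g hg => ?_
    have hgR : g ∈ R := zpowers_le.mpr haR hg
    have hgN : ∀ n ∈ N₁, g * n = n * g := fun n hn => hN hn g hgR
    have hcent : ⁅x, g⁆ ∈ centralizer (T : Set G) := fun n hn => by
      have hn' := hTN hn
      have h1 := (mem_normalizer_iff''.mp (hXN hx.1) n).mp hn'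
      have h2 := hgN _ h1
      have h3 : Commute g⁻¹ n := (show Commute g n from hgN n hn').inv_left
      rw [commutatorElement_def]
      have h2' : Commute g (x⁻¹ * n * x) := h2
      calc n * (x * g * x⁻¹ * g⁻¹) = x * ((x⁻¹ * n * x) * g) * x⁻¹ * g⁻¹ := by group
        _ = x * (g * (x⁻¹ * n * x)) * x⁻¹ * g⁻¹ := by rw [h2'.eq]
        _ = x * g * x⁻¹ * (n * g⁻¹) := by group
        _ = x * g * x⁻¹ * (g⁻¹ * n) := by rw [h3.eq]
        _ = _ := by group
    exact Subgroup.centralizer_le_normalizer _ hcent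
  · refine le_trans (le_trans (le_inf (inf_le_left.trans inf_le_left) ?_) (inf_centralizer_A_le h hX))
      (dd_normalizes_T0 h)
    rintro y ⟨⟨-, hyH⟩, hya⟩ z hz
    have hle : A ≤ centralizer ({y} : Set G) := by
      have hsup : H ⊔ zpowers a = A := by
        refine Subgroup.eq_of_le_of_card_ge (sup_le hH.1 hzA) ?_
        have hlt : H < H ⊔ zpowers a :=
          lt_of_le_of_ne le_sup_left fun e => haH (e.symm ▸ Subgroup.mem_sup_right (mem_zpowers a))
        obtain ⟨k, hk, hk'⟩ := (Nat.dvd_prime_pow (Fact.out : p.Prime)).mp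
          (h.hA3 ▸ Subgroup.card_dvd_of_le (sup_le hH.1 hzA))
        have hne : Nat.card H ≠ Nat.card ↥(H ⊔ zpowers a) := fun e =>
          hlt.ne (Subgroup.eq_of_le_of_card_ge hlt.le e.ge)
        have hcl := lt_of_le_of_ne (Subgroup.card_le_of_le hlt.le) hne
        rw [hH.2, hk'] at hcl
        rw [h.hA3, hk']
        refine Nat.pow_le_pow_right (Fact.out : p.Prime).pos ?_
        by_contra hk2
        have : p ^ k ≤ p ^ 2 := Nat.pow_le_pow_right (Fact.out : p.Prime).pos (by omega)
        omega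
      rw [← hsup]
      exact sup_le (fun w hw => mem_centralizer_singleton_iff.mpr (hyH w hw))
        (fun w hw => mem_centralizer_singleton_iff.mpr (hya w hw))
    exact mem_centralizer_singleton_iff.mp (hle hz)

end CfsgLib.SolvSF
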