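import Cfsg.Agent.Lib.SolvSF.Setup

/-!
Predicates shared by the engine and the case analyses.
-/

set_option autoImplicit false
set_option linter.unusedSectionVars false

namespace CfsgLib.SolvSF

open Cfsg Subgroup CfsgLib.Signalizer

universe u
variable {G : Type u} [Group G] [Finite G]

/-- `Y` meets no maximal member without `q`-core. -/
def Qual (p : ℕ) (A : Subgroup G) (θ : G → Subgroup G) (q : ℕ) (Y : Subgroup G) : Prop :=
  Mem p A θ Y ∧ ∀ K, MM p A θ K → O q K = ⊥ → Y ⊓ K = ⊥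

/-- No line centralises `Y`. -/
def Multi (p : ℕ) (A Y : Subgroup G) : Prop :=
  ∀ H, Line p A H → ¬ Y ≤ centralizer (H : Set G)

/-- The hypotheses under which the engine runs for the prime `q`. -/
structure EngineHyp (p : ℕ) (A : Subgroup G) (θ : G → Subgroup G) (q : ℕ) : Prop where
  prime : q.Prime
  wne : W p A θ q ≠ ⊥
  all : ∀ K, MM p A θ K → W p A θ q ≤ K → O q K ≠ ⊥
  tne : T0 p A θ q ≠ ⊥
  t_le : ∀ K, MM p A θ K → O q K ≠ ⊥ → T0 p A θ q ≤ O q K
  qual : Qual p A θ q (T0 p A θ q)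

/-- No maximal member contains every `W r`. -/
def NoTop (p : ℕ) (A : Subgroup G) (θ : G → Subgroup G) : Prop :=
  ¬ ∃ U, MM p A θ U ∧ ∀ r : ℕ, r.Prime → W p A θ r ≤ U

end CfsgLib.SolvSF
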