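import Cfsg.Agent.Lib.SolvSF.LiftLayer.Sit

/-! Lifting the intersection of the cores. -/

set_option autoImplicit false
set_option linter.unusedSectionVars false

namespace CfsgLib.SolvSF

open Cfsg Subgroup CfsgLib.Signalizer
open scoped commutatorElement

universe u
variable {G : Type u} [Group G] [Finite G] {p : ℕ} [Fact p.Prime] {A : Subgroup G} {θ : G → Subgroup G}

/-- Normalisers grow inside a `q`-group. -/
theorem exists_normalizing_outside {q : ℕ} [Fact q.Prime] {T U : Subgroup G} (hT : IsPGroup q T) (hU : U ≤ T)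
    (hne : ¬ T ≤ U) : ∃ x ∈ T, x ∈ normalizer (U : Set G) ∧ x ∉ U := by
  haveI := hT.isNilpotent
  have hlt : U.subgroupOf T < ⊤ :=
    lt_of_le_of_ne le_top fun e => hne (Subgroup.subgroupOf_eq_top.1 e)
  obtain ⟨x, hx1, hx2⟩ := SetLike.exists_of_lt
    (Group.normalizerCondition_of_isNilpotent (U.subgroupOf T) hlt)
  refine ⟨x, x.2, Comp.mem_normalizer_of_maps fun n hn => ?_, fun hxU => hx2 (Subgroup.mem_subgroupOf.2 hxU)⟩
  exact (Subgroup.mem_normalizer_iff.1 hx1 ⟨n, hU hn⟩).1 hn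

/-- `T₀` lies in every non-trivial `q`-core. -/
theorem lift (h : Ctx p A θ) {q : ℕ} [Fact q.Prime]
    (hall : ∀ K, MM p A θ K → W p A θ q ≤ K → O q K ≠ ⊥) (hT : T0 p A θ q ≠ ⊥)
    (hE2 : ∀ K, MM p A θ K → O q K ≠ ⊥ → ∀ t : ℕ, t.Prime → t ≠ q →
      T0 p A θ q ⊓ K ≤ centralizer (O t K : Set G))
    (hlack : ∀ K, MM p A θ K → O q K = ⊥ → ¬ ZOm q (W p A θ q) ≤ K) :
    ∀ K, MM p A θ K → O q K ≠ ⊥ → T0 p A θ q ≤ O q K := by
  suffices H : ∀ n : ℕ, ∀ K, MM p A θ K → O q K ≠ ⊥ →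
      Nat.card (W p A θ q) - Nat.card (W p A θ q ⊓ K : Subgroup G) = n → T0 p A θ q ≤ O q K from
    fun K hK hO => H _ K hK hO rfl
  intro n
  induction n using Nat.strong_induction_on with
  | _ n ih =>
  intro K hK hO hn
  by_cases hWK : W p A θ q ≤ K
  · exact T0_le_O hK hWK
  set R0 := W p A θ q ⊓ K with hR0
  have hR0W : R0 ≤ W p A θ q := inf_le_left
  have hnW : ¬ W p A θ q ≤ R0 := fun e => hWK (e.trans inf_le_right)
  have hWA := mem_normalizes (W_mem h (q := q))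
  have hR0A : A ≤ normalizer (R0 : Set G) := inf_normalizes' hWA (mem_normalizes hK.1)
  set R1 := W p A θ q ⊓ normalizer (R0 : Set G) with hR1
  have hR1mem : Mem p A θ R1 := family_sub h.hθ (W_mem h) inf_le_left
    (inf_normalizes' hWA fun g hg => Subgroup.le_normalizer (hR0A hg))
  have hR01 : R0 < R1 := by
    obtain ⟨x, hxW, hxn, hxR⟩ := exists_normalizing_outside (W_isPGroup h) hR0W hnW
    exact SetLike.lt_iff_le_and_exists.mpr ⟨le_inf hR0W Subgroup.le_normalizer, x, Subgroup.mem_inf.mpr ⟨hxW, hxn⟩, hxR⟩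
  have hZR1 : ZOm q (W p A θ q) ≤ R1 :=
    le_inf (ZOm_le.trans inf_le_left)
      ((ZOm_le.trans inf_le_right).trans
        ((centralizer_le hR0W).trans (Comp.centralizer_le_normalizer' R0)))
  have hXE : T0 p A θ q ⊓ K ≤ O q K := by
    refine le_O_of_layers h hK.1 inf_le_right ((W_isPGroup h).to_le (inf_le_left.trans T0_le_W))
      fun t ht htq => ?_
    haveI : Fact t.Prime := ⟨ht⟩
    suffices hc : ⁅Lay q t K, T0 p A θ q ⊓ K⁆ ≤ O q K by
      intro x hx y hy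
      rw [← inv_mem_iff]
      have h1 : ⁅y, x⁆ ∈ O q K := hc (Subgroup.commutator_mem_commutator hy hx)
      simpa [commutatorElement_def, mul_assoc] using h1
    by_contra hbad
    let S : Set (Subgroup G) := {P | O q K ≤ P ∧ P ≤ Lay q t K ∧ A ≤ normalizer (P : Set G) ∧
      R0 ≤ normalizer (P : Set G) ∧ DD A θ ≤ normalizer (P : Set G) ∧ ¬ ⁅P, T0 p A θ q ⊓ K⁆ ≤ O q K}
    have hLay : Lay q t K ∈ S := ⟨O_le_Lay, le_rfl, mem_normalizes (Lay_mem h hK.1),
      inf_le_right.trans Lay_normal, hK.2.1.trans Lay_normal, hbad⟩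
    obtain ⟨P, hPS, hPmin⟩ := (Set.toFinite S).exists_minimal ⟨_, hLay⟩
    obtain ⟨hEP, hPL, hPA, hPR, hPD, hPbad⟩ := hPS
    have s : LSit p A θ q t K P := ⟨hK, hO, htq, hEP, hPL, hPA, hPR, hPD, hPbad,
      fun Q hEQ hQP hQA hQR hQD hne => by
        by_contra hQ
        exact hne (le_antisymm hQP (hPmin ⟨hEQ, hQP.trans hPL, hQA, hQR, hQD, hQ⟩ hQP))⟩
    obtain ⟨N, hNR, hN1, hPN, hAN, hDN, hR1N⟩ := s.caseA h (s.caseB h (hE2 K hK hO t ht htq))
    have hNmem : Mem p A θ N := family_sub h.hθ (W_mem h) (hNR.trans hR0W) hAN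
    obtain ⟨K', hK', hNK', hmax⟩ := exists_MM_normalizer h hNmem hN1 hDN
    have hPK' : P ≤ K' := hmax P (s.hPmem h) hPN
    have hR1K' : R1 ≤ K' := hmax R1 hR1mem hR1N
    have hO' : O q K' ≠ ⊥ := fun e => hlack K' hK' e (hZR1.trans hR1K')
    have hlt : R0 < W p A θ q ⊓ K' := lt_of_lt_of_le hR01 (le_inf inf_le_left hR1K')
    have hc1 : Nat.card R0 < Nat.card (W p A θ q ⊓ K' : Subgroup G) :=
      Set.Finite.card_lt_card (Set.toFinite _) (SetLike.coe_ssubset_coe.mpr hlt)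
    have hc2 : Nat.card (W p A θ q ⊓ K' : Subgroup G) ≤ Nat.card (W p A θ q) :=
      Subgroup.card_le_of_le inf_le_left
    have hTK' : T0 p A θ q ≤ O q K' := ih _ (by subst hn; omega) K' hK' hO' rfl
    have hPX' : ⁅P, T0 p A θ q ⊓ K⁆ ≤ O q K' := by
      rw [Subgroup.commutator_comm]
      exact Stabilizer.commutator_le_left_of_normalizes (hPK'.trans O_normal) |>.trans'
        (Subgroup.commutator_mono (inf_le_left.trans hTK') le_rfl)
    have hPX : ⁅P, T0 p A θ q ⊓ K⁆ ≤ Lay q t K :=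
      (Stabilizer.commutator_le_left_of_normalizes (s.hXR.trans hPR)).trans hPL
    exact hPbad (Lay_sylow htq hPX (O_isPGroup.to_le hPX'))
  set T := T0 p A θ q with hTdef
  set Y := T ⊓ normalizer (R0 : Set G) with hY
  have hWT : W p A θ q ≤ normalizer (T : Set G) := W_normalizes_T0 h
  have hTA : A ≤ normalizer (T : Set G) := mem_normalizes (T0_mem h)
  have hYmem : Mem p A θ Y := family_sub h.hθ (T0_mem h) inf_le_left
    (inf_normalizes' hTA fun g hg => Subgroup.le_normalizer (hR0A hg))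
  have hEW : O q K ≤ W p A θ q := O_le_W h hK
  have hYE : Y ≤ normalizer (O q K : Set G) := fun y hy => Comp.mem_normalizer_of_maps fun e he => by
    have h1 : ⁅y, e⁆ ∈ T := Stabilizer.commutator_le_left_of_normalizes (hEW.trans hWT)
      (Subgroup.commutator_mem_commutator hy.1 he)
    have heR : e ∈ R0 := ⟨hEW he, O_le he⟩
    have h2 : ⁅y, e⁆ ∈ R0 := by
      rw [commutatorElement_def]
      exact mul_mem ((Subgroup.mem_normalizer_iff.mp hy.2 e).mp heR) (inv_mem heR)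
    exact mem_of_commutator_left (hXE ⟨h1, h2.2⟩) he
  have hYK : Y ≤ K := le_of_normalizes_O h hK hO hYmem hYE
  have hTR : T ≤ R0 := by
    by_contra hTR
    have hRT : R0 ≤ normalizer (T : Set G) := hR0W.trans hWT
    have hle : T ⊔ R0 ≤ W p A θ q := sup_le T0_le_W hR0W
    obtain ⟨x, hx, hxn, hxR⟩ := exists_normalizing_outside ((W_isPGroup h).to_le hle) le_sup_right
      (fun e => hTR (le_sup_left.trans e))
    obtain ⟨y, hy, r, hr, rfl⟩ := CfsgLib.mem_sup_of_le_normalizer hRT hx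
    have hyn : y ∈ normalizer (R0 : Set G) := by
      simpa using mul_mem hxn (inv_mem (Subgroup.le_normalizer hr : r ∈ normalizer (R0 : Set G)))
    exact hxR (mul_mem ⟨T0_le_W hy, hYK ⟨hy, hyn⟩⟩ hr)
  exact fun x hx => hXE ⟨hx, (hTR hx).2⟩

/-- Building the engine's hypotheses. -/
theorem engineHyp_of (h : Ctx p A θ) {q : ℕ} [hq : Fact q.Prime]
    (hW : W p A θ q ≠ ⊥) (hall : ∀ K, MM p A θ K → W p A θ q ≤ K → O q K ≠ ⊥) (hT : T0 p A θ q ≠ ⊥)
    (hE2 : ∀ K, MM p A θ K → O q K ≠ ⊥ → ∀ t : ℕ, t.Prime → t ≠ q →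
      T0 p A θ q ⊓ K ≤ centralizer (O t K : Set G))
    (hlack : ∀ K, MM p A θ K → O q K = ⊥ → T0 p A θ q ⊓ K = ⊥)
    (hZ : ∀ K, MM p A θ K → O q K = ⊥ → ¬ ZOm q (W p A θ q) ≤ K) : EngineHyp p A θ q :=
  ⟨hq.out, hW, hall, hT, lift h hall hT hE2 hZ, T0_mem h, hlack⟩

end CfsgLib.SolvSF
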