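import Cfsg.Agent.Lib.CoprimeSeries
import Cfsg.Agent.Lib.Coprime

/-!
Commutation and coprime action modulo a normalised subgroup, stated in the ambient group.
-/

set_option autoImplicit false
set_option linter.unusedSectionVars false

namespace CfsgLib.SolvSF.Mod

open Subgroup
open scoped commutatorElement

universe u
variable {G : Type u} [Group G] [Finite G] {E : Subgroup G}

/-- The image of `X ∩ N(E)` in `N(E) / E`. -/
noncomputable def Img (E X : Subgroup G) :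
    Subgroup (↥(normalizer (E : Set G)) ⧸ E.subgroupOf (normalizer (E : Set G))) :=
  (X.subgroupOf (normalizer (E : Set G))).map (QuotientGroup.mk' _)

theorem comm_le_iff {X Y : Subgroup G} (hX : X ≤ normalizer (E : Set G)) (hY : Y ≤ normalizer (E : Set G)) :
    ⁅X, Y⁆ ≤ E ↔ Img E X ≤ centralizer (Img E Y : Set _) := by
  rw [← commutator_eq_bot_iff_le_centralizer, Img, Img, ← Subgroup.map_commutator, Subgroup.map_eq_bot_iff,
    QuotientGroup.ker_mk', ← Subgroup.map_subtype_le_map_subtype, Subgroup.map_commutator,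
    Subgroup.map_subgroupOf_eq_of_le hX, Subgroup.map_subgroupOf_eq_of_le hY,
    Subgroup.map_subgroupOf_eq_of_le Subgroup.le_normalizer]

theorem comm_le_of_sup {X Y₁ Y₂ : Subgroup G} (hX : X ≤ normalizer (E : Set G))
    (h₁ : Y₁ ≤ normalizer (E : Set G)) (h₂ : Y₂ ≤ normalizer (E : Set G))
    (c₁ : ⁅X, Y₁⁆ ≤ E) (c₂ : ⁅X, Y₂⁆ ≤ E) : ⁅X, Y₁ ⊔ Y₂⁆ ≤ E := by
  rw [comm_le_iff hX h₁, le_centralizer_iff] at c₁
  rw [comm_le_iff hX h₂, le_centralizer_iff] at c₂
  rw [comm_le_iff hX (sup_le h₁ h₂), le_centralizer_iff, Img, Subgroup.subgroupOf_sup h₁ h₂, Subgroup.map_sup]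
  exact sup_le c₁ c₂

theorem img_isPGroup {t : ℕ} {X : Subgroup G} (h : ∀ x ∈ X, ∃ k : ℕ, x ^ t ^ k ∈ E) :
    IsPGroup t (Img E X) := by
  rintro ⟨_, x, hx, rfl⟩
  obtain ⟨k, hk⟩ := h x hx
  refine ⟨k, Subtype.ext ?_⟩
  rw [SubmonoidClass.coe_pow, ← map_pow]
  exact (QuotientGroup.eq_one_iff _).mpr hk

theorem img_isPGroup_of {t : ℕ} {X : Subgroup G} (h : IsPGroup t X) : IsPGroup t (Img E X) :=
  img_isPGroup fun x hx => by
    obtain ⟨k, hk⟩ := h ⟨x, hx⟩
    refine ⟨k, ?_⟩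
    have e : x ^ t ^ k = 1 := congrArg Subtype.val hk
    rw [e]
    exact one_mem E

theorem img_normalizes {X Y : Subgroup G} (hXY : X ≤ normalizer (Y : Set G)) :
    Img E X ≤ normalizer (Img E Y : Set _) := by
  rintro _ ⟨⟨x, hxN⟩, hx, rfl⟩
  refine (Subgroup.le_normalizer_map _) ⟨⟨x, hxN⟩, ?_, rfl⟩
  exact Subgroup.mem_normalizer_iff.mpr fun y => (Subgroup.mem_normalizer_iff.mp (hXY hx) (y : G))

/-- Coprime action modulo `E`: commuting with the commutators is commuting. -/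
theorem comm_le_of_comm_comm {q t : ℕ} [Fact q.Prime] [Fact t.Prime] (hqt : q ≠ t) {X P : Subgroup G}
    (hXE : X ≤ normalizer (E : Set G)) (hPE : P ≤ normalizer (E : Set G)) (hXP : X ≤ normalizer (P : Set G))
    (hX : IsPGroup q X) (hP : ∀ x ∈ P, ∃ k : ℕ, x ^ t ^ k ∈ E) (h : ⁅⁅P, X⁆, X⁆ ≤ E) : ⁅P, X⁆ ≤ E := by
  set N := normalizer (E : Set G)
  have hcop : (Nat.card (Img E X)).Coprime (Nat.card (Img E P)) :=
    IsPGroup.coprime_card_of_ne q t hqt _ _ (img_isPGroup_of hX) (img_isPGroup hP)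
  haveI : Group.IsNilpotent (Img E X) := (img_isPGroup_of hX).isNilpotent
  have key := CfsgLib.coprime_commutator_commutator (img_normalizes (E := E) hXP) hcop (Or.inl inferInstance)
  have hPX : ⁅P, X⁆ ≤ N := by
    refine Subgroup.commutator_le.mpr fun a ha b hb => ?_
    rw [commutatorElement_def]
    exact mul_mem (mul_mem (mul_mem (hPE ha) (hXE hb)) (inv_mem (hPE ha))) (inv_mem (hXE hb))
  have himg : Img E ⁅P, X⁆ = ⁅Img E P, Img E X⁆ := by
    unfold Img
    rw [← Subgroup.map_commutator]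
    congr 1
    apply Subgroup.map_injective N.subtype_injective
    rw [Subgroup.map_commutator, Subgroup.map_subgroupOf_eq_of_le hPE, Subgroup.map_subgroupOf_eq_of_le hXE,
      Subgroup.map_subgroupOf_eq_of_le hPX]
  have h' : ⁅⁅Img E P, Img E X⁆, Img E X⁆ = ⊥ := by
    rw [← himg, commutator_eq_bot_iff_le_centralizer, ← comm_le_iff hPX hXE]
    exact h
  rw [key, commutator_eq_bot_iff_le_centralizer, ← comm_le_iff hPE hXE] at h'
  exact h'

/-- Coprime decomposition modulo `E`. -/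
theorem le_commutator_sup {q t : ℕ} [Fact q.Prime] [Fact t.Prime] (hqt : q ≠ t) {C P P₃ : Subgroup G}
    (hCE : C ≤ normalizer (E : Set G)) (hPE : P ≤ normalizer (E : Set G)) (hCP : C ≤ normalizer (P : Set G))
    (hC : IsPGroup q C) (hP : ∀ x ∈ P, ∃ k : ℕ, x ^ t ^ k ∈ E)
    (hP₃ : ∀ x ∈ P, (∀ c ∈ C, x * c * x⁻¹ * c⁻¹ ∈ E) → x ∈ P₃) :
    P ≤ ⁅P, C⁆ ⊔ P₃ ⊔ E := by
  intro x hx
  set N := normalizer (E : Set G)
  have hcop : (Nat.card (Img E C)).Coprime (Nat.card (Img E P)) :=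
    IsPGroup.coprime_card_of_ne q t hqt _ _ (img_isPGroup_of hC) (img_isPGroup hP)
  haveI : Group.IsNilpotent (Img E C) := (img_isPGroup_of hC).isNilpotent
  have hPC : ⁅P, C⁆ ≤ N := by
    refine Subgroup.commutator_le.mpr fun a ha b hb => ?_
    rw [commutatorElement_def]
    exact mul_mem (mul_mem (mul_mem (hPE ha) (hCE hb)) (inv_mem (hPE ha))) (inv_mem (hCE hb))
  have himg : ⁅Img E P, Img E C⁆ = Img E ⁅P, C⁆ := by
    unfold Img
    rw [← Subgroup.map_commutator]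
    congr 1
    apply Subgroup.map_injective N.subtype_injective
    rw [Subgroup.map_commutator, Subgroup.map_subgroupOf_eq_of_le hPE, Subgroup.map_subgroupOf_eq_of_le hCE,
      Subgroup.map_subgroupOf_eq_of_le hPC]
  obtain ⟨y, hy, c, hc, e⟩ := CfsgLib.coprime_decomp (img_normalizes (E := E) hCP) hcop (Or.inl inferInstance)
    (k := QuotientGroup.mk' _ (⟨x, hPE hx⟩ : N)) ⟨⟨x, hPE hx⟩, hx, rfl⟩
  rw [himg] at hy
  obtain ⟨⟨z, hzN⟩, hz, rfl⟩ := hy
  obtain ⟨⟨w, hwN⟩, hw, rfl⟩ := hc.1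
  have hwC : ∀ d ∈ C, w * d * w⁻¹ * d⁻¹ ∈ E := by
    intro d hd
    have hcm := hc.2 _ ⟨⟨d, hCE hd⟩, hd, rfl⟩
    have h1 : QuotientGroup.mk' (E.subgroupOf N) (⁅(⟨w, hwN⟩ : N), ⟨d, hCE hd⟩⁆) = 1 := by
      rw [map_commutatorElement, commutatorElement_eq_one_iff_mul_comm]
      exact hcm.symm
    have h2 := (QuotientGroup.eq_one_iff _).mp h1
    rw [Subgroup.mem_subgroupOf] at h2
    simpa [commutatorElement_def] using h2
  rw [← map_mul] at e
  obtain ⟨v, hv, ev⟩ := (QuotientGroup.mk'_eq_mk' _).mp e.symm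
  have hx' : x = z * w * (v : G) := (congrArg Subtype.val ev).symm
  rw [hx']
  exact mul_mem (mul_mem (mem_sup_left (mem_sup_left hz)) (mem_sup_left (mem_sup_right (hP₃ w hw hwC))))
    (mem_sup_right hv)

end CfsgLib.SolvSF.Mod
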