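import Cfsg.Agent.Lib.SolvSF.Setup
import Cfsg.Agent.Lib.CoprimeGen
import Cfsg.Agent.Lib.Elementary

/-!
The offender inequality of the solvable signalizer functor theorem.

`W` is an elementary abelian `q`-group and everything acts inside `MulAut W`; `offender_in_group`
transfers the result to subgroups of `G` acting on `V`.
-/

set_option autoImplicit false
set_option linter.unusedSectionVars false

namespace CfsgLib.SolvSF

open Cfsg Subgroup CfsgLib.Signalizer
open scoped commutatorElement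

universe u

namespace Offender

section Aut

variable {W : Type u} [CommGroup W] [Finite W]

/-- The fixed subgroup of one automorphism. -/
def fix (σ : MulAut W) : Subgroup W where
  carrier := {w | σ w = w}
  one_mem' := map_one σ
  mul_mem' := fun {a b} ha hb => by
    simp only [Set.mem_setOf_eq] at ha hb ⊢; rw [map_mul, ha, hb]
  inv_mem' := fun {a} ha => by
    simp only [Set.mem_setOf_eq] at ha ⊢; rw [map_inv, ha]

theorem mem_fix {σ : MulAut W} {w : W} : w ∈ fix σ ↔ σ w = w := Iff.rfl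

/-- The fixed subgroup of a group of automorphisms. -/
def fixS (B : Subgroup (MulAut W)) : Subgroup W where
  carrier := {w | ∀ σ ∈ B, σ w = w}
  one_mem' := fun σ _ => map_one σ
  mul_mem' := fun {a b} ha hb σ hσ => by rw [map_mul, ha σ hσ, hb σ hσ]
  inv_mem' := fun {a} ha σ hσ => by rw [map_inv, ha σ hσ]

theorem mem_fixS {B : Subgroup (MulAut W)} {w : W} : w ∈ fixS B ↔ ∀ σ ∈ B, σ w = w := Iff.rfl

/-- The automorphisms fixing a subgroup pointwise. -/
def fixer (U : Subgroup W) : Subgroup (MulAut W) where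
  carrier := {σ | ∀ u ∈ U, σ u = u}
  one_mem' := fun _ _ => rfl
  mul_mem' := fun {a b} ha hb u hu => by rw [MulAut.mul_apply, hb u hu, ha u hu]
  inv_mem' := fun {a} ha u hu => by
    conv_lhs => rw [← ha u hu]
    exact MulEquiv.symm_apply_apply a u

theorem mem_fixer {U : Subgroup W} {σ : MulAut W} : σ ∈ fixer U ↔ ∀ u ∈ U, σ u = u := Iff.rfl

/-- The displacement. -/
def dl (σ : MulAut W) : W →* W where
  toFun w := σ w / w
  map_one' := by simp
  map_mul' a b := by rw [map_mul, mul_div_mul_comm]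

theorem dl_apply (σ : MulAut W) (w : W) : dl σ w = σ w / w := rfl

theorem apply_eq_dl (σ : MulAut W) (w : W) : σ w = dl σ w * w := (div_mul_cancel _ _).symm

theorem dl_eq_one {σ : MulAut W} {w : W} : dl σ w = 1 ↔ σ w = w := by
  rw [dl_apply, div_eq_one]

theorem dl_ker (σ : MulAut W) : (dl σ).ker = fix σ := by
  ext w; rw [MonoidHom.mem_ker, dl_eq_one, mem_fix]

theorem dl_mul (σ τ : MulAut W) (w : W) : dl (σ * τ) w = dl σ (τ w) * dl τ w := by
  rw [dl_apply, dl_apply, dl_apply, MulAut.mul_apply, div_mul_div_cancel]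

theorem dl_inv (σ : MulAut W) (w : W) : dl σ⁻¹ w = (dl σ (σ⁻¹ w))⁻¹ := by
  rw [dl_apply, dl_apply, inv_div]
  congr 1
  exact (MulEquiv.apply_symm_apply σ w).symm

/-- An element commuting with `σ` commutes with the displacement of `σ`. -/
theorem dl_comm {σ τ : MulAut W} (h : Commute τ σ) (w : W) : τ (dl σ w) = dl σ (τ w) := by
  rw [dl_apply, dl_apply, map_div]
  congr 1
  rw [← MulAut.mul_apply, h.eq, MulAut.mul_apply]

theorem range_inv {σ τ : MulAut W} (h : Commute τ σ) {w : W} (hw : w ∈ (dl σ).range) :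
    τ w ∈ (dl σ).range := by
  obtain ⟨a, rfl⟩ := hw
  exact ⟨τ a, (dl_comm h a).symm⟩

theorem fix_inv {σ τ : MulAut W} (h : Commute τ σ) {w : W} (hw : w ∈ fix σ) : τ w ∈ fix σ := by
  rw [mem_fix] at hw ⊢
  rw [← MulAut.mul_apply, ← h.eq, MulAut.mul_apply, hw]

theorem zpow_apply {σ : MulAut W} {u δ : W} (h : σ u = u * δ) (hδ : σ δ = δ) (k : ℤ) :
    (σ ^ k) u = u * δ ^ k := by
  have hfix : ∀ i : ℤ, (σ ^ i) δ = δ := fun i => by
    have : σ ∈ fixer (Subgroup.zpowers δ) := fun z hz => by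
      obtain ⟨j, rfl⟩ := Subgroup.mem_zpowers_iff.mp hz
      rw [map_zpow, hδ]
    exact (Subgroup.zpow_mem _ this i) δ (Subgroup.mem_zpowers δ)
  induction k using Int.induction_on with
  | zero => simp
  | succ n ih =>
    rw [zpow_add_one, MulAut.mul_apply, h, map_mul, ih, hfix, zpow_add_one, mul_assoc]
  | pred n ih =>
    have h1 := ih
    have h2 : (σ ^ (-(n : ℤ))) u = (σ ^ (-(n : ℤ) - 1)) (σ u) := by
      rw [← MulAut.mul_apply, ← zpow_add_one, sub_add_cancel]
    rw [h, map_mul, hfix, ih] at h2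
    rw [← mul_right_cancel_iff (a := δ), ← h2, zpow_sub_one]
    simp [mul_assoc]

variable {q : ℕ} [Fact q.Prime]

theorem isPGroup_W (hexp : ∀ w : W, w ^ q = 1) : IsPGroup q W := fun w => ⟨1, by rw [pow_one, hexp w]⟩

/-- An element of order prime to `q` whose displacement of `U` is fixed by it fixes `U`. -/
theorem fix_of_step (hexp : ∀ w : W, w ^ q = 1) {σ : MulAut W} (hσ : (orderOf σ).Coprime q)
    {w : W} (h : σ (dl σ w) = dl σ w) : σ w = w := by
  have h0 : σ w = w * dl σ w := by rw [mul_comm, ← apply_eq_dl]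
  have := zpow_apply h0 h (orderOf σ : ℤ)
  rw [zpow_natCast, pow_orderOf_eq_one, MulAut.one_apply, zpow_natCast, left_eq_mul] at this
  have h2 : orderOf (dl σ w) ∣ Nat.gcd (orderOf σ) q :=
    Nat.dvd_gcd (orderOf_dvd_of_pow_eq_one this) (orderOf_dvd_of_pow_eq_one (hexp _))
  rw [hσ.gcd_eq_one] at h2
  exact dl_eq_one.mp (orderOf_eq_one_iff.mp (Nat.dvd_one.mp h2))

theorem zp (hexp : ∀ w : W, w ^ q = 1) {i j : ℤ} (h : (q : ℤ) ∣ i - j) (w : W) : w ^ i = w ^ j := by
  obtain ⟨c, hc⟩ := h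
  rw [show i = j + (q : ℤ) * c by omega, zpow_add, zpow_mul, zpow_natCast, hexp, one_zpow, mul_one]

theorem zp_one (hexp : ∀ w : W, w ^ q = 1) {i : ℤ} (h : (q : ℤ) ∣ i) (w : W) : w ^ i = 1 := by
  rw [zp hexp (i := i) (j := 0) (by simpa using h), zpow_zero]

theorem zp_dvd (hexp : ∀ w : W, w ^ q = 1) {w : W} (hw : w ≠ 1) {i : ℤ} (h : w ^ i = 1) : (q : ℤ) ∣ i := by
  have ho : orderOf w = q := by
    rcases (Nat.dvd_prime (Fact.out : q.Prime)).mp (orderOf_dvd_of_pow_eq_one (hexp w)) with h1 | h1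
    · exact absurd (orderOf_eq_one_iff.mp h1) hw
    · exact h1
  rw [← ho]
  exact orderOf_dvd_iff_zpow_eq_one.mpr h

/-- Fixed points of a group of prime power order acting on a subgroup. -/
theorem card_modEq_fixed {r : ℕ} [Fact r.Prime] {S : Subgroup (MulAut W)} (hS : IsPGroup r S)
    {D : Subgroup W} (hD : ∀ σ ∈ S, ∀ w ∈ D, σ w ∈ D) :
    Nat.card D ≡ Nat.card (D ⊓ fixS S : Subgroup W) [MOD r] := by
  let _ : MulAction S D :=
    { smul := fun σ w => ⟨(σ : MulAut W) w, hD _ σ.2 _ w.2⟩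
      one_smul := fun w => rfl
      mul_smul := fun σ τ w => rfl }
  refine (hS.card_modEq_card_fixedPoints D).trans ?_
  refine (congrArg (· % r) (Nat.card_congr ?_) : _)
  exact
    { toFun := fun w => ⟨(w.1 : W), w.1.2, fun σ hσ => congrArg Subtype.val (w.2 ⟨σ, hσ⟩)⟩
      invFun := fun w => ⟨⟨(w : W), w.2.1⟩, fun σ => Subtype.ext (w.2.2 σ.1 σ.2)⟩
      left_inv := fun w => rfl
      right_inv := fun w => rfl }

/-- A `q`-group fixes a point of every non-trivial invariant subgroup. -/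
theorem exists_fixed (hexp : ∀ w : W, w ^ q = 1) {S : Subgroup (MulAut W)} (hS : IsPGroup q S)
    {D : Subgroup W} (hD : ∀ σ ∈ S, ∀ w ∈ D, σ w ∈ D) (hne : D ≠ ⊥) : D ⊓ fixS S ≠ ⊥ := by
  intro h
  have hm := card_modEq_fixed hS hD
  rw [h, Subgroup.card_bot] at hm
  obtain ⟨n, hn⟩ := ((isPGroup_W hexp).to_subgroup D).exists_card_eq
  rcases Nat.eq_zero_or_pos n with rfl | hpos
  · exact hne (Subgroup.eq_bot_of_card_eq _ (by simpa using hn))
  · have h0 : q ∣ Nat.card D := hn ▸ dvd_pow_self q hpos.ne'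
    exact (Fact.out : q.Prime).ne_one
      (Nat.dvd_one.mp (Nat.modEq_zero_iff_dvd.mp (hm.symm.trans (Nat.modEq_zero_iff_dvd.mpr h0))))

/-- Thompson's `A × B` lemma on `W`. -/
theorem axb_aut (hexp : ∀ w : W, w ^ q = 1) {B : Subgroup (MulAut W)} (hB : IsPGroup q B)
    {c : MulAut W} (hc : (orderOf c).Coprime q) (hcB : ∀ b ∈ B, Commute b c)
    (hfix : ∀ w ∈ fixS B, c w = w) : c = 1 := by
  by_cases hbot : (dl c).range = ⊥
  · ext w
    exact dl_eq_one.mp (Subgroup.mem_bot.mp (hbot ▸ MonoidHom.mem_range.mpr ⟨w, rfl⟩))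
  exfalso
  refine exists_fixed hexp hB (fun σ hσ w hw => range_inv (hcB σ hσ) hw) hbot ?_
  rw [eq_bot_iff]
  rintro d ⟨⟨w, rfl⟩, hd⟩
  exact Subgroup.mem_bot.mpr (dl_eq_one.mpr (fix_of_step hexp hc (hfix _ hd)))

theorem coprime_orderOf {t : ℕ} [Fact t.Prime] (hqt : q ≠ t) {T : Subgroup (MulAut W)}
    (hT : IsPGroup t T) {σ : MulAut W} (hσ : σ ∈ T) : (orderOf σ).Coprime q := by
  obtain ⟨k, hk⟩ := hT ⟨σ, hσ⟩
  refine Nat.Coprime.coprime_dvd_left (orderOf_dvd_of_pow_eq_one (congrArg Subtype.val hk)) ?_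
  exact ((Nat.coprime_primes Fact.out Fact.out).mpr (Ne.symm hqt)).pow_left k

/-- In `T⟨x⟩` the elements of order prime to `q` lie in `T`. -/
theorem mem_of_coprime {T : Subgroup (MulAut W)} {x M : MulAut W} (hxT : x ∈ normalizer (T : Set (MulAut W)))
    (hxq : IsPGroup q (Subgroup.zpowers x)) (hM : M ∈ T ⊔ Subgroup.zpowers x) (hco : (orderOf M).Coprime q) :
    M ∈ T := by
  obtain ⟨τ, hτ, z, hz, rfl⟩ := mem_sup_of_le_normalizer (Subgroup.zpowers_le.mpr hxT) hM
  have hzn : z ∈ normalizer (T : Set (MulAut W)) := (Subgroup.zpowers_le.mpr hxT) hz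
  have key : ∀ n : ℕ, ∃ τ' ∈ T, (τ * z) ^ n = τ' * z ^ n := by
    intro n
    induction n with
    | zero => exact ⟨1, T.one_mem, by simp⟩
    | succ n ih =>
      obtain ⟨τ', hτ', e⟩ := ih
      refine ⟨τ' * (z ^ n * τ * (z ^ n)⁻¹), T.mul_mem hτ'
        ((Subgroup.mem_normalizer_iff.mp (Subgroup.pow_mem _ hzn n) τ).mp hτ), ?_⟩
      rw [pow_succ, e, pow_succ]
      group
  obtain ⟨k, hk⟩ := hxq ⟨z, hz⟩
  obtain ⟨τ', hτ', e⟩ := key (q ^ k)
  have hk' : z ^ q ^ k = 1 := congrArg Subtype.val hk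
  rw [hk', mul_one] at e
  obtain ⟨m, hm⟩ := exists_pow_eq_self_of_coprime (x := τ * z) (hco.symm.pow_left k)
  rw [← hm, e]
  exact T.pow_mem hτ' m

theorem eq_of_chain (hexp : ∀ w : W, w ^ q = 1) {x y : MulAut W} {v v' : W}
    (hx : ∀ w, dl x w ∈ Subgroup.zpowers v) (hy : ∀ w, dl y w ∈ Subgroup.zpowers v')
    (hxv : x v = v) (hyv : y v' = v') (hxv' : x v' = v')
    (hco : (orderOf (y * x⁻¹)).Coprime q) : y = x := by
  set σ := y * x⁻¹ with hσ
  set U := Subgroup.zpowers v ⊔ Subgroup.zpowers v' with hU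
  have hxU : x ∈ fixer U := fun u hu => by
    obtain ⟨a, ha, b, hb, rfl⟩ := Subgroup.mem_sup.mp hu
    obtain ⟨i, rfl⟩ := Subgroup.mem_zpowers_iff.mp ha
    obtain ⟨j, rfl⟩ := Subgroup.mem_zpowers_iff.mp hb
    rw [map_mul, map_zpow, map_zpow, hxv, hxv']
  have hxiU : x⁻¹ ∈ fixer U := Subgroup.inv_mem _ hxU
  -- `σ` moves `U` into `⟨v'⟩`
  have h1 : ∀ u ∈ U, dl σ u ∈ Subgroup.zpowers v' := fun u hu => by
    rw [hσ, dl_mul, hxiU u hu]
    have : dl x⁻¹ u = 1 := dl_eq_one.mpr (hxiU u hu)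
    rw [this, mul_one]; exact hy u
  have hv'U : Subgroup.zpowers v' ≤ U := le_sup_right
  have h0 : ∀ u ∈ Subgroup.zpowers v', σ u = u := fun u hu => by
    obtain ⟨i, rfl⟩ := Subgroup.mem_zpowers_iff.mp hu
    rw [map_zpow, hσ, MulAut.mul_apply, hxiU v' (hv'U (Subgroup.mem_zpowers _)), hyv]
  have h2 : ∀ u ∈ U, σ u = u := fun u hu => fix_of_step hexp hco (h0 _ (h1 u hu))
  have h3 : ∀ w, dl σ w ∈ U := fun w => by
    rw [hσ, dl_mul]
    refine U.mul_mem (hv'U (hy _)) ?_
    rw [dl_inv]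
    exact U.inv_mem ((le_sup_left : Subgroup.zpowers v ≤ U) (hx _))
  have : σ = 1 := MulEquiv.ext fun w => fix_of_step hexp hco (h2 _ (h3 w))
  rwa [hσ, mul_inv_eq_one] at this

/-- The facts about one rotation `f` of a two-dimensional `U` with complement `C`. -/
structure Rot (q : ℕ) (f e : MulAut W) (U C : Subgroup W) : Prop where
  ef : e ∈ Subgroup.zpowers f
  fU : ∀ u ∈ U, f u ∈ U
  fC : ∀ c ∈ C, f c = c
  dec : ∀ w, ∃ u ∈ U, ∃ c ∈ C, w = u * c
  inj : ∀ u ∈ U, e u = u → u = 1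
  card : Nat.card U = q ^ 2
  irr : ∀ I : Subgroup W, I ≤ U → (∀ u ∈ I, f u ∈ I) → I = ⊥ ∨ I = U

namespace Rot

variable {f e : MulAut W} {U C : Subgroup W}

theorem eC (h : Rot q f e U C) : ∀ c ∈ C, e c = c := by
  obtain ⟨i, rfl⟩ := Subgroup.mem_zpowers_iff.mp h.ef
  have : f ∈ fixer C := h.fC
  exact fun c hc => (Subgroup.zpow_mem _ this i) c hc

theorem eU (h : Rot q f e U C) : ∀ u ∈ U, e u ∈ U := by
  have hn : ∀ n : ℕ, ∀ u ∈ U, (f ^ n) u ∈ U := by
    intro n
    induction n with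
    | zero => exact fun u hu => hu
    | succ n ih => exact fun u hu => by rw [pow_succ', MulAut.mul_apply]; exact h.fU _ (ih u hu)
  obtain ⟨n, rfl⟩ := mem_powers_iff_mem_zpowers.mpr h.ef
  exact hn n

theorem fix_eq (h : Rot q f e U C) : fix e = C := by
  refine le_antisymm (fun w hw => ?_) fun c hc => h.eC c hc
  obtain ⟨u, hu, c, hc, rfl⟩ := h.dec w
  rw [mem_fix, map_mul, h.eC c hc] at hw
  rw [h.inj u hu (mul_right_cancel hw), one_mul]
  exact hc

theorem range_eq (h : Rot q f e U C) : (dl e).range = U := by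
  refine le_antisymm ?_ ?_
  · rintro _ ⟨w, rfl⟩
    obtain ⟨u, hu, c, hc, rfl⟩ := h.dec w
    rw [map_mul, dl_eq_one.mpr (h.eC c hc), mul_one, dl_apply]
    exact U.div_mem (h.eU u hu) hu
  · intro u hu
    let g : U → U := fun u => ⟨dl e u, by rw [dl_apply]; exact U.div_mem (h.eU _ u.2) u.2⟩
    have hinj : Function.Injective g := fun a b hab => by
      have h1 : dl e ((a / b : U) : W) = 1 := by
        rw [Subgroup.coe_div, map_div, div_eq_one]; exact congrArg Subtype.val hab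
      exact div_eq_one.mp (Subtype.ext (h.inj _ (a / b : U).2 (dl_eq_one.mp h1)))
    obtain ⟨w, hw⟩ := (Finite.injective_iff_surjective.mp hinj) ⟨u, hu⟩
    exact ⟨w, congrArg Subtype.val hw⟩

theorem preserves (h : Rot q f e U C) {σ : MulAut W} (hσ : Commute σ e) :
    (∀ u ∈ U, σ u ∈ U) ∧ ∀ c ∈ C, σ c ∈ C :=
  ⟨fun u hu => by rw [← h.range_eq] at hu ⊢; exact range_inv hσ hu,
    fun c hc => by rw [← h.fix_eq] at hc ⊢; exact fix_inv hσ hc⟩

variable {p : ℕ} [Fact p.Prime] {A : Subgroup (MulAut W)}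

theorem conj_range (h : Rot q f e U C) (a : MulAut W) {w : W} :
    w ∈ (dl (a * e * a⁻¹)).range ↔ a⁻¹ w ∈ U := by
  have key : ∀ z, dl (a * e * a⁻¹) z = a (dl e (a⁻¹ z)) := fun z => by
    rw [dl_apply, dl_apply, map_div, MulAut.mul_apply, MulAut.mul_apply]
    congr 1
    exact (MulEquiv.apply_symm_apply a z).symm
  rw [← h.range_eq]
  constructor
  · rintro ⟨z, rfl⟩
    exact ⟨a⁻¹ z, by rw [key]; exact (MulEquiv.symm_apply_apply a _).symm⟩
  · rintro ⟨z, hz⟩
    refine ⟨a z, ?_⟩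
    rw [key, show a⁻¹ (a z) = z from MulEquiv.symm_apply_apply a z, hz]
    exact MulEquiv.apply_symm_apply a w

theorem conj_fix (h : Rot q f e U C) (a : MulAut W) {w : W} :
    w ∈ fix (a * e * a⁻¹) ↔ a⁻¹ w ∈ C := by
  rw [← h.fix_eq, mem_fix, mem_fix, MulAut.mul_apply, MulAut.mul_apply]
  constructor
  · intro hw
    conv_rhs => rw [← hw]
    exact (MulEquiv.symm_apply_apply a _).symm
  · intro hw
    rw [hw]
    exact MulEquiv.apply_symm_apply a w

/-- If `f` commutes with the conjugate of `e` by `a`, then `a` fixes `f` or `f` fixes `a U`. -/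
theorem dichotomy (h : Rot q f e U C) (hA : IsPGroup p A) (hp : 5 ≤ p) (hq : q ≤ 3) {a : MulAut W}
    (ha : a ∈ A) (hc : Commute f (a * e * a⁻¹)) :
    a * f * a⁻¹ = f ∨ ∀ w : W, a⁻¹ w ∈ U → f w = w := by
  have hce : Commute e (a * e * a⁻¹) := by
    obtain ⟨i, hi⟩ := Subgroup.mem_zpowers_iff.mp h.ef
    have := hc.zpow_left i
    rwa [hi] at this
  have hPU := h.preserves (σ := a * e * a⁻¹) hce.symm
  set I := U ⊓ (dl (a * e * a⁻¹)).range with hI
  rcases h.irr I inf_le_left (fun u hu => ⟨h.fU u hu.1, range_inv hc hu.2⟩) with hb | ht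
  · right
    intro w hw
    have hw' : w ∈ (dl (a * e * a⁻¹)).range := (h.conj_range a).mpr hw
    have h1 : dl e w ∈ I := ⟨by rw [← h.range_eq]; exact ⟨w, rfl⟩, by
      rw [dl_apply]; exact Subgroup.div_mem _ (range_inv hce hw') hw'⟩
    rw [hb, Subgroup.mem_bot, dl_eq_one] at h1
    exact h.fC w (by rw [← h.fix_eq]; exact h1)
  · left
    have hmap : ∀ u ∈ U, a⁻¹ u ∈ U := fun u hu => by
      have : u ∈ I := ht.symm ▸ hu
      exact (h.conj_range a).mp this.2
    -- `a` fixes `U` pointwise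
    have hinvU : ∀ σ ∈ Subgroup.zpowers a, ∀ u ∈ U, σ u ∈ U := by
      have hn : ∀ n : ℕ, ∀ u ∈ U, ((a⁻¹) ^ n) u ∈ U := by
        intro n
        induction n with
        | zero => exact fun u hu => hu
        | succ n ih => exact fun u hu => by rw [pow_succ', MulAut.mul_apply]; exact hmap _ (ih u hu)
      intro σ hσ
      rw [← Subgroup.zpowers_inv] at hσ
      obtain ⟨n, rfl⟩ := mem_powers_iff_mem_zpowers.mpr hσ
      exact hn n
    have hza : IsPGroup p (Subgroup.zpowers a) := hA.to_le (Subgroup.zpowers_le.mpr ha)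
    have hfixU : ∀ u ∈ U, a u = u := by
      set F := U ⊓ fixS (Subgroup.zpowers a) with hF
      have hm : Nat.card U ≡ Nat.card F [MOD p] := card_modEq_fixed hza hinvU
      have hdvd : Nat.card F ∣ q ^ 2 := h.card ▸ Subgroup.card_dvd_of_le inf_le_left
      have hle : Nat.card F ≤ Nat.card U := Subgroup.card_le_of_le inf_le_left
      have heq : Nat.card F = Nat.card U := by
        by_contra hne
        have hd : p ∣ Nat.card U - Nat.card F := (Nat.modEq_iff_dvd' hle).mp hm.symm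
        have h5 := Nat.le_of_dvd (by omega) hd
        obtain ⟨j, hj, hj'⟩ := (Nat.dvd_prime_pow (Fact.out : q.Prime)).mp hdvd
        have hq2 : 2 ≤ q := (Fact.out : q.Prime).two_le
        rw [h.card, hj'] at hd hne
        have hpp : p.Prime := Fact.out
        interval_cases q <;> interval_cases j <;> simp at hd hne
        all_goals (have := Nat.le_of_dvd (by norm_num) hd; interval_cases p <;> first | (norm_num at hd; done) | (norm_num at hpp; done))
      have hFU : F = U := Subgroup.eq_of_le_of_card_ge inf_le_left heq.ge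
      intro u hu
      rw [← hFU] at hu
      exact hu.2 a (Subgroup.mem_zpowers a)
    have hfixU' : ∀ u ∈ U, a⁻¹ u = u := fun u hu => by
      conv_lhs => rw [← hfixU u hu]
      exact MulEquiv.symm_apply_apply a u
    -- `a` normalises `C`
    have hmapC : ∀ w, a⁻¹ w ∈ C → w ∈ C := by
      intro w hw
      have hw' : w ∈ fix (a * e * a⁻¹) := (h.conj_fix a).mpr hw
      have h1 : dl e w ∈ U := by rw [← h.range_eq]; exact ⟨w, rfl⟩
      have h2 : dl e w ∈ fix (a * e * a⁻¹) := by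
        rw [dl_apply]; exact Subgroup.div_mem _ (fix_inv hce hw') hw'
      have h3 : a⁻¹ (dl e w) ∈ C := (h.conj_fix a).mp h2
      rw [hfixU' _ h1] at h3
      have := h.inj _ h1 (h.eC _ h3)
      rw [← h.fix_eq]
      exact dl_eq_one.mp this
    refine MulEquiv.ext fun w => ?_
    obtain ⟨u, hu, c, hc', e1⟩ := h.dec (a⁻¹ w)
    have haa : ∀ z, a (a⁻¹ z) = z := fun z => MulEquiv.apply_symm_apply a z
    have hac : a c ∈ C := hmapC _ (by rw [show a⁻¹ (a c) = c from MulEquiv.symm_apply_apply a c]; exact hc')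
    have hw : w = u * a c := by rw [← haa w, e1, map_mul, hfixU u hu]
    rw [MulAut.mul_apply, MulAut.mul_apply, e1, map_mul, h.fC c hc', map_mul, hfixU _ (h.fU u hu), hw,
      map_mul, h.fC _ hac]

/-- All conjugates of `f` under `A` commute with `f`. -/
theorem commute_conj (h : Rot q f e U C) (hA : IsPGroup p A) (hp : 5 ≤ p) (hq : q ≤ 3)
    (hc : ∀ a ∈ A, Commute f (a * e * a⁻¹)) {a : MulAut W} (ha : a ∈ A) :
    Commute f (a * f * a⁻¹) := by
  have hA' := A.inv_mem ha
  rcases h.dichotomy hA hp hq ha (hc a ha) with h1 | h1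
  · rw [h1]
  rcases h.dichotomy hA hp hq hA' (hc _ hA') with h2 | h2
  · have h3 : a * f * a⁻¹ = f := by
      have h4 : a⁻¹ * f * a = f := by simpa using h2
      conv_lhs => rw [← h4]
      group
    rw [h3]
  set g := a * f * a⁻¹ with hg
  have hgU : ∀ u ∈ U, g u = u := fun u hu => by
    have : f (a⁻¹ u) = a⁻¹ u := h2 _ (by
      rw [inv_inv]
      rw [show a (a⁻¹ u) = u from MulEquiv.apply_symm_apply a u]
      exact hu)
    rw [hg, MulAut.mul_apply, MulAut.mul_apply, this]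
    exact MulEquiv.apply_symm_apply a u
  have hge : Commute g e := by
    have h5 := (hc a⁻¹ hA')
    have h6 : Commute (a * f * a⁻¹) (a * (a⁻¹ * e * a) * a⁻¹) := by
      have := h5.map (MulAut.conj a : MulAut (MulAut W)).toMonoidHom
      simpa using this
    simpa [mul_assoc, hg] using h6
  have hgC := (h.preserves hge).2
  refine MulEquiv.ext fun w => ?_
  obtain ⟨u, hu, c, hc', rfl⟩ := h.dec w
  show f (g (u * c)) = g (f (u * c))
  rw [map_mul g u c, map_mul f u c, map_mul, map_mul,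
    hgU u hu, h.fC c hc', h.fC _ (hgC c hc'), hgU _ (h.fU u hu)]

end Rot

/-- Two transvections with centres `v`, `v'` in general position. -/
structure Pair (q : ℕ) (x y : MulAut W) (v v' : W) (α β : ℤ) : Prop where
  xv : x v = v
  yv' : y v' = v'
  xv' : x v' = v' * v ^ α
  yv : y v = v * v' ^ β
  hv : v ≠ 1
  hv' : v' ≠ 1
  hα : ¬ (q : ℤ) ∣ α
  hβ : ¬ (q : ℤ) ∣ β
  dx : ∀ w, dl x w ∈ Subgroup.zpowers v
  dy : ∀ w, dl y w ∈ Subgroup.zpowers v'

namespace Pair

variable {x y : MulAut W} {v v' : W} {α β : ℤ}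

theorem mem_U {u : W} (hu : u ∈ Subgroup.zpowers v ⊔ Subgroup.zpowers v') :
    ∃ a b : ℤ, u = v ^ a * v' ^ b := by
  obtain ⟨a, ha, b, hb, rfl⟩ := Subgroup.mem_sup.mp hu
  obtain ⟨i, rfl⟩ := Subgroup.mem_zpowers_iff.mp ha
  obtain ⟨j, rfl⟩ := Subgroup.mem_zpowers_iff.mp hb
  exact ⟨i, j, rfl⟩

theorem apply_x (h : Pair q x y v v' α β) (a b : ℤ) :
    x (v ^ a * v' ^ b) = v ^ a * v' ^ b * v ^ (α * b) := by
  rw [map_mul, map_zpow, map_zpow, h.xv, h.xv', mul_zpow, ← zpow_mul, mul_assoc]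

theorem apply_y (h : Pair q x y v v' α β) (a b : ℤ) :
    y (v ^ a * v' ^ b) = v ^ a * v' ^ b * v' ^ (β * a) := by
  rw [map_mul, map_zpow, map_zpow, h.yv, h.yv', mul_zpow, ← zpow_mul, mul_right_comm]

theorem dvd_of_fix (h : Pair q x y v v' α β) (hexp : ∀ w : W, w ^ q = 1) {a b : ℤ}
    (hx : x (v ^ a * v' ^ b) = v ^ a * v' ^ b) : (q : ℤ) ∣ b := by
  rw [h.apply_x, mul_eq_left] at hx
  exact ((Nat.prime_iff_prime_int.mp Fact.out).dvd_mul.mp (zp_dvd hexp h.hv hx)).resolve_left h.hα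

theorem fix_U (h : Pair q x y v v' α β) (hexp : ∀ w : W, w ^ q = 1) {u : W}
    (hu : u ∈ Subgroup.zpowers v ⊔ Subgroup.zpowers v') (hx : x u = u) : u ∈ Subgroup.zpowers v := by
  obtain ⟨a, b, rfl⟩ := mem_U hu
  rw [zp_one hexp (h.dvd_of_fix hexp hx), mul_one]
  exact Subgroup.zpow_mem _ (Subgroup.mem_zpowers v) a

theorem indep (h : Pair q x y v v' α β) (hexp : ∀ w : W, w ^ q = 1) {a b : ℤ}
    (e : v ^ a * v' ^ b = 1) : (q : ℤ) ∣ a ∧ (q : ℤ) ∣ b := by
  have hb : (q : ℤ) ∣ b := h.dvd_of_fix hexp (by rw [e, map_one])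
  rw [zp_one hexp hb, mul_one] at e
  exact ⟨zp_dvd hexp h.hv e, hb⟩

theorem exists_div (hexp : ∀ w : W, w ^ q = 1) {n : ℤ} (hn : ¬ (q : ℤ) ∣ n) (d : ℤ) :
    ∃ k : ℤ, (q : ℤ) ∣ n * k - d := by
  obtain ⟨a, b, e⟩ := (Nat.prime_iff_prime_int.mp (Fact.out : q.Prime)).coprime_iff_not_dvd.mpr hn
  exact ⟨b * d, ⟨-(a * d), by linear_combination d * e⟩⟩

theorem dec (h : Pair q x y v v' α β) (hexp : ∀ w : W, w ^ q = 1) (w : W) :
    ∃ u ∈ Subgroup.zpowers v ⊔ Subgroup.zpowers v', ∃ c ∈ fix x ⊓ fix y, w = u * c := by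
  obtain ⟨i, hi⟩ := Subgroup.mem_zpowers_iff.mp (h.dx w)
  obtain ⟨j, hj⟩ := Subgroup.mem_zpowers_iff.mp (h.dy w)
  obtain ⟨b, hb⟩ := exists_div hexp h.hα i
  obtain ⟨a, ha⟩ := exists_div hexp h.hβ j
  have hu : v ^ a * v' ^ b ∈ Subgroup.zpowers v ⊔ Subgroup.zpowers v' :=
    Subgroup.mul_mem_sup (Subgroup.zpow_mem _ (Subgroup.mem_zpowers v) a)
      (Subgroup.zpow_mem _ (Subgroup.mem_zpowers v') b)
  refine ⟨_, hu, w / (v ^ a * v' ^ b), ⟨?_, ?_⟩, (mul_div_cancel _ _).symm⟩
  · refine dl_eq_one.mp ?_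
    rw [map_div, dl_apply x (v ^ a * v' ^ b), h.apply_x, mul_div_cancel_left, ← hi,
      zp hexp hb v, div_self']
  · refine dl_eq_one.mp ?_
    rw [map_div, dl_apply y (v ^ a * v' ^ b), h.apply_y, mul_div_cancel_left, ← hj,
      zp hexp ha v', div_self']

theorem card_U (h : Pair q x y v v' α β) (hexp : ∀ w : W, w ^ q = 1) :
    Nat.card (Subgroup.zpowers v ⊔ Subgroup.zpowers v' : Subgroup W) = q ^ 2 := by
  have hord : ∀ {z : W}, z ≠ 1 → Nat.card (Subgroup.zpowers z) = q := fun {z} hz => by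
    rw [Nat.card_zpowers]
    exact orderOf_eq_prime (hexp z) hz
  rw [sq]
  nth_rewrite 1 [← hord h.hv]
  rw [← hord h.hv', ← Nat.card_prod]
  refine (Nat.card_congr (Equiv.ofBijective
    (fun z : Subgroup.zpowers v × Subgroup.zpowers v' =>
      (⟨(z.1 : W) * z.2, Subgroup.mul_mem_sup z.1.2 z.2.2⟩ :
        (Subgroup.zpowers v ⊔ Subgroup.zpowers v' : Subgroup W))) ⟨?_, ?_⟩)).symm
  · intro z w e
    have e' : (z.1 : W) * z.2 = w.1 * w.2 := congrArg Subtype.val e
    obtain ⟨a, ha⟩ := Subgroup.mem_zpowers_iff.mp z.1.2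
    obtain ⟨b, hb⟩ := Subgroup.mem_zpowers_iff.mp z.2.2
    obtain ⟨c, hc⟩ := Subgroup.mem_zpowers_iff.mp w.1.2
    obtain ⟨d, hd⟩ := Subgroup.mem_zpowers_iff.mp w.2.2
    rw [← ha, ← hb, ← hc, ← hd] at e'
    obtain ⟨h1, h2⟩ := h.indep hexp (a := a - c) (b := b - d) (by
      rw [zpow_sub, zpow_sub, mul_mul_mul_comm, e', ← mul_inv, mul_inv_cancel])
    exact Prod.ext (Subtype.ext (by rw [← ha, ← hc]; exact zp hexp h1 v))
      (Subtype.ext (by rw [← hb, ← hd]; exact zp hexp h2 v'))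
  · intro u
    obtain ⟨a, ha, b, hb, e⟩ := Subgroup.mem_sup.mp u.2
    exact ⟨(⟨a, ha⟩, ⟨b, hb⟩), Subtype.ext e⟩

/-- The element `x * y ^ k` of trace `2 + d`. -/
theorem exists_elt (h : Pair q x y v v' α β) (hexp : ∀ w : W, w ^ q = 1) (d : ℤ) :
    ∃ (M : MulAut W) (m : ℤ), M ∈ Subgroup.closure {x, y} ∧ (∀ c ∈ fix x ⊓ fix y, M c = c) ∧
      (q : ℤ) ∣ α * m - d ∧ M v = v ^ (1 + d) * v' ^ m ∧ M v' = v ^ α * v' := by
  obtain ⟨k, hk⟩ := exists_div hexp (n := α * β) (fun e =>
    ((Nat.prime_iff_prime_int.mp Fact.out).dvd_mul.mp e).elim h.hα h.hβ) d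
  have hx : x ∈ Subgroup.closure ({x, y} : Set (MulAut W)) := Subgroup.subset_closure (Set.mem_insert _ _)
  have hy : y ∈ Subgroup.closure ({x, y} : Set (MulAut W)) :=
    Subgroup.subset_closure (Set.mem_insert_of_mem _ rfl)
  have hyk : (y ^ k) v = v * v' ^ (β * k) := by
    rw [zpow_apply h.yv (by rw [map_zpow, h.yv']) k, ← zpow_mul]
  have hyk' : (y ^ k) v' = v' := by
    have : y ∈ fixer (Subgroup.zpowers v') := fun z hz => by
      obtain ⟨i, rfl⟩ := Subgroup.mem_zpowers_iff.mp hz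
      rw [map_zpow, h.yv']
    exact (Subgroup.zpow_mem _ this k) v' (Subgroup.mem_zpowers v')
  refine ⟨x * y ^ k, β * k, Subgroup.mul_mem _ hx (Subgroup.zpow_mem _ hy k), fun c hc => ?_, by
    rwa [← mul_assoc], ?_, ?_⟩
  · have hyc : y ∈ fixer (fix x ⊓ fix y) := fun z hz => hz.2
    rw [MulAut.mul_apply, (Subgroup.zpow_mem _ hyc k) c hc]
    exact hc.1
  · rw [MulAut.mul_apply, hyk]
    have := h.apply_x 1 (β * k)
    rw [zpow_one] at this
    rw [this, mul_right_comm, ← zpow_one_add, ← mul_assoc α β k]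
    congr 1
    exact zp hexp (by obtain ⟨c, hc⟩ := hk; exact ⟨c, by linear_combination hc⟩) v
  · rw [MulAut.mul_apply, hyk', h.xv', mul_comm]

theorem M_apply {M : MulAut W} {d m : ℤ} (hMv : M v = v ^ (1 + d) * v' ^ m)
    (hMv' : M v' = v ^ α * v') (a b : ℤ) :
    M (v ^ a * v' ^ b) = v ^ ((1 + d) * a + α * b) * v' ^ (m * a + b) := by
  rw [map_mul, map_zpow, map_zpow, hMv, hMv', mul_zpow, mul_zpow, ← zpow_mul, ← zpow_mul, ← zpow_mul,
    zpow_add, zpow_add]
  ac_rfl

/-- The quadratic equation `M² - (2 + d) M + 1 = 0` of `M` on `U`. -/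
theorem M_quad (h : Pair q x y v v' α β) (hexp : ∀ w : W, w ^ q = 1) {M : MulAut W} {d m : ℤ}
    (hdm : (q : ℤ) ∣ α * m - d) (hMv : M v = v ^ (1 + d) * v' ^ m) (hMv' : M v' = v ^ α * v') :
    ∀ u ∈ Subgroup.zpowers v ⊔ Subgroup.zpowers v', M (M u) * u = M u ^ (2 + d) := by
  intro u hu
  obtain ⟨a, b, rfl⟩ := mem_U hu
  rw [M_apply hMv hMv', M_apply hMv hMv', mul_zpow, ← zpow_mul, ← zpow_mul, mul_mul_mul_comm,
    ← zpow_add, ← zpow_add]
  obtain ⟨c, hc⟩ := hdm
  congr 1
  · exact zp hexp ⟨c * a, by linear_combination a * hc⟩ v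
  · exact zp hexp ⟨c * b, by linear_combination b * hc⟩ v'

theorem U_inv {M : MulAut W} {d m : ℤ} (hMv : M v = v ^ (1 + d) * v' ^ m) (hMv' : M v' = v ^ α * v')
    {u : W} (hu : u ∈ Subgroup.zpowers v ⊔ Subgroup.zpowers v') :
    M u ∈ Subgroup.zpowers v ⊔ Subgroup.zpowers v' := by
  obtain ⟨a, b, rfl⟩ := mem_U hu
  rw [M_apply hMv hMv']
  exact Subgroup.mul_mem_sup (Subgroup.zpow_mem _ (Subgroup.mem_zpowers v) _)
    (Subgroup.zpow_mem _ (Subgroup.mem_zpowers v') _)

theorem not_fix (h : Pair q x y v v' α β) (hexp : ∀ w : W, w ^ q = 1) {M : MulAut W} {d m : ℤ}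
    (hdm : (q : ℤ) ∣ α * m - d) (hMv : M v = v ^ (1 + d) * v' ^ m) (hd : ¬ (q : ℤ) ∣ d) :
    x (M v) ≠ M v := by
  intro e
  rw [hMv] at e
  refine hd ?_
  have := (h.dvd_of_fix hexp e).mul_left α
  have h2 := Int.dvd_sub this hdm
  rwa [sub_sub_cancel] at h2

theorem M_pow_three (h : Pair q x y v v' α β) (hexp : ∀ w : W, w ^ q = 1) {M : MulAut W} {m : ℤ}
    (hC : ∀ c ∈ fix x ⊓ fix y, M c = c) (hdm : (q : ℤ) ∣ α * m - (-3)) (hMv : M v = v ^ (1 + (-3) : ℤ) * v' ^ m)
    (hMv' : M v' = v ^ α * v') : M ^ 3 = 1 := by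
  refine MulEquiv.ext fun w => ?_
  obtain ⟨u, hu, c, hc, rfl⟩ := h.dec hexp w
  have h1 := h.M_quad hexp hdm hMv hMv' u hu
  have h2 := h.M_quad hexp hdm hMv hMv' (M u) (U_inv hMv hMv' hu)
  show (M ^ 3) (u * c) = u * c
  rw [pow_succ, pow_two, MulAut.mul_apply, MulAut.mul_apply, map_mul M u c, hC c hc, map_mul, hC c hc,
    map_mul, hC c hc]
  congr 1
  norm_num at h1 h2
  -- `M³u = (M²u)⁻¹ (Mu)⁻¹ = u`
  rw [show M (M (M u)) = (M (M u))⁻¹ * (M u)⁻¹ from eq_mul_inv_of_mul_eq h2]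
  rw [show (M (M u))⁻¹ = u * M u from by
    rw [inv_eq_iff_mul_eq_one, ← mul_assoc, h1, inv_mul_cancel]]
  rw [mul_inv_cancel_right]

theorem M_sq (h : Pair q x y v v' α β) (hexp : ∀ w : W, w ^ q = 1) {M : MulAut W} {m : ℤ}
    (hdm : (q : ℤ) ∣ α * m - (-2)) (hMv : M v = v ^ (1 + (-2) : ℤ) * v' ^ m)
    (hMv' : M v' = v ^ α * v') : ∀ u ∈ Subgroup.zpowers v ⊔ Subgroup.zpowers v', M (M u) = u⁻¹ := by
  intro u hu
  have h1 := h.M_quad hexp hdm hMv hMv' u hu
  norm_num at h1
  exact eq_inv_of_mul_eq_one_left h1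

end Pair

theorem dl_conj (a σ : MulAut W) (z : W) : dl (a * σ * a⁻¹) z = a (dl σ (a⁻¹ z)) := by
  rw [dl_apply, dl_apply, map_div, MulAut.mul_apply, MulAut.mul_apply]
  congr 1
  exact (MulEquiv.apply_symm_apply a z).symm

variable {p t : ℕ} [Fact p.Prime] [Fact t.Prime]

theorem conj_mem {Γ : Type*} [Group Γ] {S : Subgroup Γ} {g z : Γ} (hg : g ∈ normalizer (S : Set Γ))
    (hz : z ∈ S) : g * z * g⁻¹ ∈ S := (Subgroup.mem_normalizer_iff.mp hg z).mp hz

/-- No element of `P` centralises a subgroup of index `q` of `W`. -/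
theorem no_transvection (hexp : ∀ w : W, w ^ q = 1) (hqt : q ≠ t) (hpq : p ≠ q) (hpt : p ≠ t)
    {T A : Subgroup (MulAut W)} {x : MulAut W} (hT : IsPGroup t T) (hA : IsPGroup p A)
    (hAT : A ≤ normalizer (T : Set (MulAut W))) (hxT : x ∈ normalizer (T : Set (MulAut W)))
    (hxq : IsPGroup q (Subgroup.zpowers x)) (hne : ∃ g ∈ T, ¬ Commute g x)
    (hfx : ∀ c ∈ T, (∀ a ∈ A, Commute a c) → Commute c x) :
    Nat.card W ≠ q * Nat.card (fix x) := by
  classical
  intro hcard
  have hqp : q.Prime := Fact.out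
  -- a minimal subgroup moved by `x`
  obtain ⟨T1, ⟨hT1, hAT1, hxT1, g, hg, hgx⟩, hmin⟩ := Set.exists_min_image
    {S : Subgroup (MulAut W) | S ≤ T ∧ A ≤ normalizer (S : Set (MulAut W)) ∧
      x ∈ normalizer (S : Set (MulAut W)) ∧ ∃ g ∈ S, ¬ Commute g x}
    (fun S => Nat.card S) (Set.toFinite _) ⟨T, le_rfl, hAT, hxT, hne⟩
  have hT1t : IsPGroup t T1 := hT.to_le hT1
  -- its Frattini subgroup is centralised by `x` and by the conjugates of `x`
  set N := (frattini T1).map T1.subtype with hN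
  obtain ⟨hAxN, hT1N⟩ := le_normalizer_map_characteristic
    (sup_le hAT1 (Subgroup.zpowers_le.mpr hxT1) : A ⊔ Subgroup.zpowers x ≤ _) (frattini T1)
  have hNT1 : N ≤ T1 := Subgroup.map_subtype_le _
  have hNne : N ≠ T1 := by
    intro e
    have htop : frattini T1 = ⊤ := by
      refine Subgroup.eq_top_of_card_eq _ ?_
      have hc := Nat.card_congr (Subgroup.equivMapOfInjective (frattini T1) T1.subtype T1.subtype_injective).toEquiv
      rw [hc, ← hN, e]
    have hnt : (⊥ : Subgroup T1) ≠ ⊤ := by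
      intro e'
      have h0 : (⟨g, hg⟩ : T1) ∈ (⊥ : Subgroup T1) := e' ▸ Subgroup.mem_top _
      rw [Subgroup.mem_bot] at h0
      have : g = 1 := congrArg Subtype.val h0
      exact hgx (this ▸ Commute.one_left x)
    obtain h' | ⟨M, hM, -⟩ := eq_top_or_exists_le_coatom (⊥ : Subgroup T1)
    · exact hnt h'
    · exact hM.1 (top_le_iff.mp (htop ▸ frattini_le_coatom hM))
  have hNx : ∀ z ∈ N, Commute z x := by
    intro z hz
    by_contra hzx
    have hle := hmin N ⟨hNT1.trans hT1, le_sup_left.trans hAxN,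
      hAxN (Subgroup.mem_sup_right (Subgroup.mem_zpowers x)), z, hz, hzx⟩
    exact hNne (Subgroup.eq_of_le_of_card_ge hNT1 hle)
  set y := g * x * g⁻¹ with hy
  have hNy : ∀ z ∈ N, Commute z y := by
    intro z hz
    have h1 := hNx _ (conj_mem (hT1N (T1.inv_mem hg)) hz)
    have h2 := h1.map (MulAut.conj g : MulAut (MulAut W)).toMonoidHom
    simpa [mul_assoc, hy] using h2
  have hNA : ∀ a ∈ A, ∀ z ∈ N, a * z * a⁻¹ ∈ N := fun a ha z hz =>
    conj_mem (hAxN (Subgroup.mem_sup_left ha)) hz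
  -- the centres
  have hrange : Nat.card (dl x).range = q := by
    have h1 := Subgroup.card_mul_index (dl x).ker
    rw [Subgroup.index_ker, dl_ker, hcard, mul_comm q] at h1
    exact Nat.eq_of_mul_eq_mul_left Nat.card_pos h1
  have hrne : (dl x).range ≠ ⊥ := fun e => by
    rw [e, Subgroup.card_bot] at hrange; exact hqp.ne_one hrange.symm
  obtain ⟨v, hvr, hv⟩ := (Subgroup.ne_bot_iff_exists_ne_one.mp hrne).elim fun z hz =>
    (⟨z.1, z.2, fun e => hz (Subtype.ext e)⟩ : ∃ v ∈ (dl x).range, v ≠ 1)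
  have hord : orderOf v = q := orderOf_eq_prime (hexp v) hv
  have hspan : Subgroup.zpowers v = (dl x).range :=
    Subgroup.eq_of_le_of_card_ge (Subgroup.zpowers_le.mpr hvr)
      (by rw [hrange, Nat.card_zpowers, hord])
  have hdx : ∀ w, dl x w ∈ Subgroup.zpowers v := fun w => hspan.symm ▸ ⟨w, rfl⟩
  have hxv : x v = v := by
    have hinv : ∀ σ ∈ Subgroup.zpowers x, ∀ w ∈ (dl x).range, σ w ∈ (dl x).range := fun σ hσ w hw => by
      obtain ⟨i, rfl⟩ := Subgroup.mem_zpowers_iff.mp hσ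
      exact range_inv (Commute.zpow_self x i) hw
    obtain ⟨d, hd, hd1⟩ := (Subgroup.ne_bot_iff_exists_ne_one.mp (exists_fixed hexp hxq hinv hrne)).elim
      fun z hz => (⟨z.1, z.2, fun e => hz (Subtype.ext e)⟩ : ∃ d ∈ (dl x).range ⊓ fixS (Subgroup.zpowers x), d ≠ 1)
    have hle : (dl x).range ⊓ fixS (Subgroup.zpowers x) = (dl x).range := by
      refine Subgroup.eq_of_le_of_card_ge inf_le_left ?_
      rw [hrange, ← orderOf_eq_prime (hexp d) hd1, ← Nat.card_zpowers]
      exact Subgroup.card_le_of_le (Subgroup.zpowers_le.mpr hd)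
    have := hle.symm ▸ hvr
    exact this.2 x (Subgroup.mem_zpowers x)
  set v' := g v with hv'
  have hdy : ∀ w, dl y w ∈ Subgroup.zpowers v' := fun w => by
    obtain ⟨i, hi⟩ := Subgroup.mem_zpowers_iff.mp (hdx (g⁻¹ w))
    refine Subgroup.mem_zpowers_iff.mpr ⟨i, ?_⟩
    rw [hy, dl_conj, ← hi, map_zpow]
  have hyv' : y v' = v' := by
    rw [hy, hv', MulAut.mul_apply, MulAut.mul_apply, show g⁻¹ (g v) = v from MulEquiv.symm_apply_apply g v, hxv]
  have hσT1 : y * x⁻¹ ∈ T1 := by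
    rw [hy, mul_assoc g x, mul_assoc g (x * g⁻¹)]
    exact T1.mul_mem hg (conj_mem hxT1 (T1.inv_mem hg))
  have hco := coprime_orderOf hqt hT1t hσT1
  have hyx : y ≠ x := fun e => hgx (by
    have : g * x * g⁻¹ * g = x * g := by rw [← hy, e]
    simpa [Commute, SemiconjBy] using this)
  have hxv' : x v' ≠ v' := fun e => hyx (eq_of_chain hexp hdx hdy hxv hyv' e hco)
  have hyv : y v ≠ v := fun e => hyx (eq_of_chain hexp hdy hdx hyv' hxv e (by
    have e2 : x * y⁻¹ = (y * x⁻¹)⁻¹ := by group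
    rw [e2, orderOf_inv]; exact hco)).symm
  obtain ⟨α, hα⟩ := Subgroup.mem_zpowers_iff.mp (hdx v')
  obtain ⟨β, hβ⟩ := Subgroup.mem_zpowers_iff.mp (hdy v)
  have hP : Pair q x y v v' α β := by
    refine ⟨hxv, hyv', ?_, ?_, hv, fun e => hv ?_, fun e => hxv' ?_, fun e => hyv ?_, hdx, hdy⟩
    · rw [hα, mul_comm]; exact apply_eq_dl x v'
    · rw [hβ, mul_comm]; exact apply_eq_dl y v
    · exact g.injective (by rw [map_one]; exact e)
    · exact dl_eq_one.mp (by rw [← hα]; exact zp_one hexp e v)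
    · exact dl_eq_one.mp (by rw [← hβ]; exact zp_one hexp e v')
  -- elements of `⟨x, y⟩` of order prime to `q` lie in `T1`
  have hcl : ∀ M ∈ Subgroup.closure ({x, y} : Set (MulAut W)),
      (orderOf M).Coprime q → M ∈ T1 := by
    intro M hM hMo
    refine mem_of_coprime hxT1 hxq ((Subgroup.closure_le _).mpr ?_ hM) hMo
    rintro z (rfl | rfl)
    · exact Subgroup.mem_sup_right (Subgroup.mem_zpowers _)
    · have := Subgroup.mul_mem_sup hσT1 (Subgroup.mem_zpowers x)
      rwa [inv_mul_cancel_right] at this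
  have hclN : ∀ M ∈ Subgroup.closure ({x, y} : Set (MulAut W)), ∀ z ∈ N, Commute z M := by
    intro M hM z hz
    have hle : Subgroup.closure ({x, y} : Set (MulAut W)) ≤ Subgroup.centralizer ({z} : Set (MulAut W)) := by
      refine (Subgroup.closure_le _).mpr ?_
      rintro w (rfl | rfl)
      · exact Subgroup.mem_centralizer_singleton_iff.mpr (hNx z hz).symm.eq
      · exact Subgroup.mem_centralizer_singleton_iff.mpr (hNy z hz).symm.eq
    exact (Subgroup.mem_centralizer_singleton_iff.mp (hle hM)).symm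
  set U := Subgroup.zpowers v ⊔ Subgroup.zpowers v' with hU
  set C := fix x ⊓ fix y with hC
  -- the rotation
  have rot : 5 ≤ p ∧ q ≤ 3 ∧ ∃ f e, f ∈ T1 ∧ x (f v) ≠ f v ∧ Rot q f e U C ∧
      ∀ a ∈ A, Commute f (a * e * a⁻¹) := by
    have hpp : p.Prime := Fact.out
    have htp : t.Prime := Fact.out
    have h3 : q ≠ 3 → t = 3 ∧ ∃ (M : MulAut W) (m : ℤ), M ∈ Subgroup.closure {x, y} ∧ M ∈ T1 ∧
        M ^ 3 = 1 ∧ (∀ c ∈ C, M c = c) ∧ (q : ℤ) ∣ α * m - (-3) ∧
        M v = v ^ (1 + (-3) : ℤ) * v' ^ m ∧ M v' = v ^ α * v' := by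
      intro hq3
      obtain ⟨M, m, hM, hMC, hdm, hMv, hMv'⟩ := hP.exists_elt hexp (-3)
      have hd : ¬ (q : ℤ) ∣ (-3 : ℤ) := fun e =>
        hq3 ((Nat.prime_dvd_prime_iff_eq hqp Nat.prime_three).mp (by exact_mod_cast (Int.dvd_neg.mp e)))
      have hM3 := hP.M_pow_three hexp hMC hdm hMv hMv'
      have hM1 : M ≠ 1 := fun e => hP.not_fix hexp hdm hMv hd (by rw [e, MulAut.one_apply, hxv])
      have := Fact.mk Nat.prime_three
      have ho : orderOf M = 3 := orderOf_eq_prime hM3 hM1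
      have hMT : M ∈ T1 := hcl M hM (by rw [ho]; exact (Nat.coprime_primes Nat.prime_three hqp).mpr (Ne.symm hq3))
      obtain ⟨k, hk⟩ := hT1t ⟨M, hMT⟩
      have hd3 : 3 ∣ t ^ k := ho ▸ orderOf_dvd_of_pow_eq_one (congrArg Subtype.val hk)
      exact ⟨((Nat.prime_dvd_prime_iff_eq Nat.prime_three htp).mp (Nat.prime_three.dvd_of_dvd_pow hd3)).symm,
        M, m, hM, hMT, hM3, hMC, hdm, hMv, hMv'⟩
    have h2 : q ≠ 2 → t = 2 ∧ ∃ (M : MulAut W) (m : ℤ), M ∈ Subgroup.closure {x, y} ∧ M ∈ T1 ∧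
        (∀ c ∈ C, M c = c) ∧ (q : ℤ) ∣ α * m - (-2) ∧
        M v = v ^ (1 + (-2) : ℤ) * v' ^ m ∧ M v' = v ^ α * v' := by
      intro hq2
      obtain ⟨M, m, hM, hMC, hdm, hMv, hMv'⟩ := hP.exists_elt hexp (-2)
      have hd : ¬ (q : ℤ) ∣ (-2 : ℤ) := fun e =>
        hq2 ((Nat.prime_dvd_prime_iff_eq hqp Nat.prime_two).mp (by exact_mod_cast (Int.dvd_neg.mp e)))
      have hsq := hP.M_sq hexp hdm hMv hMv'
      have hM1 : M ≠ 1 := fun e => hP.not_fix hexp hdm hMv hd (by rw [e, MulAut.one_apply, hxv])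
      have hM4 : M ^ (2 * 2) = 1 := by
        refine MulEquiv.ext fun w => ?_
        obtain ⟨u, hu, c, hc, rfl⟩ := hP.dec hexp w
        have hiu := hsq u⁻¹ (U.inv_mem hu)
        show (M ^ (2 * 2)) (u * c) = u * c
        rw [pow_mul, pow_two, pow_two, MulAut.mul_apply, MulAut.mul_apply, MulAut.mul_apply,
          map_mul M u c, hMC c hc, map_mul, hMC c hc, hsq u hu, map_mul, hMC c hc, map_mul, hMC c hc,
          hiu, inv_inv]
      have hdvd : orderOf M ∣ 2 ^ 2 := orderOf_dvd_of_pow_eq_one hM4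
      have hco2 : (orderOf M).Coprime q :=
        ((((Nat.coprime_primes Nat.prime_two hqp).mpr (Ne.symm hq2)).pow_left 2)).coprime_dvd_left hdvd
      have hMT : M ∈ T1 := hcl M hM hco2
      obtain ⟨k, hk⟩ := hT1t ⟨M, hMT⟩
      have hd2 : orderOf M ∣ t ^ k := orderOf_dvd_of_pow_eq_one (congrArg Subtype.val hk)
      refine ⟨?_, M, m, hM, hMT, hMC, hdm, hMv, hMv'⟩
      by_contra ht
      have h1 : orderOf M ∣ Nat.gcd (2 ^ 2) (t ^ k) := Nat.dvd_gcd hdvd hd2
      rw [(((Nat.coprime_primes Nat.prime_two htp).mpr (Ne.symm ht)).pow 2 k).gcd_eq_one] at h1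
      exact hM1 (orderOf_eq_one_iff.mp (Nat.dvd_one.mp h1))
    have hvU : v ∈ U := Subgroup.mem_sup_left (Subgroup.mem_zpowers v)
    by_cases hq2 : q = 2
    · obtain ⟨ht3, M, m, hM, hMT, hM3, hMC, hdm, hMv, hMv'⟩ := h3 (by omega)
      have hpge : 5 ≤ p := by
        have := hpp.two_le
        by_contra hlt
        interval_cases p <;> first | omega | exact absurd hpp (by norm_num)
      have hquad : ∀ u ∈ U, M (M u) * M u * u = 1 := fun u hu => by
        have h' := hP.M_quad hexp hdm hMv hMv' u hu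
        norm_num at h'
        rw [mul_right_comm, h', inv_mul_cancel]
      have hinjM : ∀ u ∈ U, M u = u → u = 1 := fun u hu hMu => by
        have h' := hquad u hu
        rw [hMu, hMu] at h'
        have h2u : u * u = 1 := by rw [← pow_two]; exact hq2 ▸ hexp u
        rwa [h2u, one_mul] at h'
      have hrot : Rot q M M U C :=
        ⟨Subgroup.mem_zpowers M, fun u hu => Pair.U_inv hMv hMv' hu, hMC, hP.dec hexp, hinjM,
          hP.card_U hexp, fun I hI hinv => by
            by_cases hb : I = ⊥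
            · exact Or.inl hb
            refine Or.inr (Subgroup.eq_of_le_of_card_ge hI ?_)
            obtain ⟨⟨u, hu⟩, hu1⟩ := Subgroup.ne_bot_iff_exists_ne_one.mp hb
            have hu1' : u ≠ 1 := fun e => hu1 (Subtype.ext e)
            obtain ⟨j, hj, hjc⟩ := (Nat.dvd_prime_pow hqp).mp (hP.card_U hexp ▸ Subgroup.card_dvd_of_le hI)
            rw [hP.card_U hexp, hjc]
            refine Nat.pow_le_pow_right hqp.pos ?_
            by_contra hj2
            have hle : Nat.card I ≤ q := hjc ▸ (Nat.pow_le_pow_right hqp.pos (by omega : j ≤ 1)).trans (pow_one q).le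
            have hz : Subgroup.zpowers u = I := Subgroup.eq_of_le_of_card_ge (Subgroup.zpowers_le.mpr hu)
              (by rw [Nat.card_zpowers, orderOf_eq_prime (hexp u) hu1']; exact hle)
            obtain ⟨i, hi⟩ := Subgroup.mem_zpowers_iff.mp (hz.symm ▸ hinv u hu : M u ∈ Subgroup.zpowers u)
            rcases Int.even_or_odd i with ⟨c, hc⟩ | ⟨c, hc⟩
            · rw [zp_one hexp (i := i) (by subst hq2; exact ⟨c, by push_cast; omega⟩) u] at hi
              exact hu1' (M.injective (by rw [map_one]; exact hi.symm))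
            · rw [zp hexp (i := i) (j := 1) (by subst hq2; exact ⟨c, by push_cast; omega⟩) u, zpow_one] at hi
              exact hu1' (hinjM u (hI hu) hi.symm)⟩
      refine ⟨hpge, by omega, M, M, hMT, hP.not_fix hexp hdm hMv (by subst hq2; decide), hrot, fun a ha => ?_⟩
      -- the commutator of `M` and a conjugate fixes `U` and its conjugate
      have hfix : ∀ z ∈ N, ∀ u ∈ U, z u = u := by
        intro z hz
        have hzM := hclN M hM z hz
        have hzU := (hrot.preserves hzM).1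
        have h1 : z v ∈ Subgroup.zpowers v := hP.fix_U hexp (hzU v hvU) (by
          rw [← MulAut.mul_apply, ← (hNx z hz).eq, MulAut.mul_apply, hxv])
        obtain ⟨i, hi⟩ := Subgroup.mem_zpowers_iff.mp h1
        have hzv : z v = v := by
          rcases Int.even_or_odd i with ⟨c, hc⟩ | ⟨c, hc⟩
          · rw [zp_one hexp (i := i) (by subst hq2; exact ⟨c, by push_cast; omega⟩) v] at hi
            exact absurd (z.injective (by rw [map_one]; exact hi.symm)) hv
          · rw [← hi, zp hexp (i := i) (j := 1) (by subst hq2; exact ⟨c, by push_cast; omega⟩) v, zpow_one]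
        intro u hu
        rcases hrot.irr (U ⊓ fix z) inf_le_left (fun w hw => ⟨hrot.fU w hw.1, fix_inv hzM.symm hw.2⟩) with hb | htop
        · have : v ∈ U ⊓ fix z := ⟨hvU, hzv⟩
          rw [hb] at this
          exact absurd (Subgroup.mem_bot.mp this) hv
        · rw [← htop] at hu
          exact hu.2
      set M' := a * M * a⁻¹ with hM'
      have hM'T : M' ∈ T1 := conj_mem (hAT1 ha) hMT
      set c := M * M' * M⁻¹ * M'⁻¹ with hc
      have hcN : c ∈ N := ⟨⁅(⟨M, hMT⟩ : T1), ⟨M', hM'T⟩⁆,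
        commutator_le_frattini_pGroup hT1t (Subgroup.commutator_mem_commutator (Subgroup.mem_top _) (Subgroup.mem_top _)),
        by simp [commutatorElement_def, hc]⟩
      have hcU : ∀ u ∈ U, c u = u := hfix c hcN
      have hcU' : ∀ u, a⁻¹ u ∈ U → c u = u := fun u hu => by
        have h' := hfix _ (hNA a⁻¹ (A.inv_mem ha) c hcN) _ hu
        rw [inv_inv, MulAut.mul_apply, MulAut.mul_apply] at h'
        rw [show a (a⁻¹ u) = u from MulEquiv.apply_symm_apply a u] at h'
        exact (a⁻¹ : MulAut W).injective h'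
      let U' : Subgroup W := U.comap (a⁻¹ : MulAut W).toMonoidHom
      have d1 : ∀ w, dl M w ∈ U := fun w => hrot.range_eq ▸ ⟨w, rfl⟩
      have d1' : ∀ w, dl M⁻¹ w ∈ U := fun w => by rw [dl_inv]; exact U.inv_mem (d1 _)
      have d2 : ∀ w, dl M' w ∈ U' := fun w => (hrot.conj_range a).mp ⟨w, rfl⟩
      have d2' : ∀ w, dl M'⁻¹ w ∈ U' := fun w => by rw [dl_inv]; exact U'.inv_mem (d2 _)
      have hdc : ∀ w, dl c w ∈ U ⊔ U' := fun w => by
        rw [hc, dl_mul, dl_mul, dl_mul]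
        exact mul_mem (mul_mem (mul_mem (Subgroup.mem_sup_left (d1 _)) (Subgroup.mem_sup_right (d2 _)))
          (Subgroup.mem_sup_left (d1' _))) (Subgroup.mem_sup_right (d2' _))
      have hcone : c = 1 := MulEquiv.ext fun w => by
        refine fix_of_step hexp (coprime_orderOf hqt hT1t (hNT1 hcN)) ?_
        obtain ⟨u, hu, u', hu', e⟩ := Subgroup.mem_sup.mp (hdc w)
        rw [← e, map_mul, hcU u hu, hcU' u' hu']
      rw [hc, mul_inv_eq_one, mul_inv_eq_iff_eq_mul] at hcone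
      exact hcone
    · obtain ⟨ht2, M, m, hM, hMT, hMC, hdm, hMv, hMv'⟩ := h2 hq2
      have hq3 : q = 3 := by
        by_contra h
        have := (h3 h).1
        omega
      have hpge : 5 ≤ p := by
        have := hpp.two_le
        by_contra hlt
        interval_cases p <;> first | omega | exact absurd hpp (by norm_num)
      have hsq := hP.M_sq hexp hdm hMv hMv'
      have hinvM : ∀ u ∈ U, u⁻¹ = u → u = 1 := fun u hu h' => by
        have h3u : u * u * u = 1 := by rw [← pow_three']; exact hq3 ▸ hexp u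
        have h2u : u * u = 1 := by nth_rewrite 1 [← h']; exact inv_mul_cancel u
        rwa [h2u, one_mul] at h3u
      have hrot : Rot q M (M * M) U C :=
        ⟨Subgroup.mul_mem _ (Subgroup.mem_zpowers M) (Subgroup.mem_zpowers M),
          fun u hu => Pair.U_inv hMv hMv' hu, hMC, hP.dec hexp, fun u hu h' => hinvM u hu (by
            rw [← hsq u hu]; exact h'),
          hP.card_U hexp, fun I hI hinv => by
            by_cases hb : I = ⊥
            · exact Or.inl hb
            refine Or.inr (Subgroup.eq_of_le_of_card_ge hI ?_)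
            obtain ⟨⟨u, hu⟩, hu1⟩ := Subgroup.ne_bot_iff_exists_ne_one.mp hb
            have hu1' : u ≠ 1 := fun e => hu1 (Subtype.ext e)
            obtain ⟨j, hj, hjc⟩ := (Nat.dvd_prime_pow hqp).mp (hP.card_U hexp ▸ Subgroup.card_dvd_of_le hI)
            rw [hP.card_U hexp, hjc]
            refine Nat.pow_le_pow_right hqp.pos ?_
            by_contra hj2
            have hle : Nat.card I ≤ q := hjc ▸ (Nat.pow_le_pow_right hqp.pos (by omega : j ≤ 1)).trans (pow_one q).le
            have hz : Subgroup.zpowers u = I := Subgroup.eq_of_le_of_card_ge (Subgroup.zpowers_le.mpr hu)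
              (by rw [Nat.card_zpowers, orderOf_eq_prime (hexp u) hu1']; exact hle)
            obtain ⟨i, hi⟩ := Subgroup.mem_zpowers_iff.mp (hz.symm ▸ hinv u hu : M u ∈ Subgroup.zpowers u)
            have h' := hsq u (hI hu)
            rw [← hi, map_zpow, ← hi, ← zpow_mul, ← zpow_neg_one u] at h'
            have hd : (q : ℤ) ∣ i * i + 1 := zp_dvd hexp hu1' (by
              rw [zpow_add_one, h', zpow_neg_one, inv_mul_cancel])
            rw [hq3] at hd
            have h0 : ((i * i + 1 : ℤ) : ZMod 3) = 0 := (ZMod.intCast_zmod_eq_zero_iff_dvd _ 3).mpr hd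
            push_cast at h0
            generalize (i : ZMod 3) = r at h0
            revert r; decide⟩
      refine ⟨hpge, by omega, M, M * M, hMT, hP.not_fix hexp hdm hMv (by subst hq3; decide), hrot, fun a ha => ?_⟩
      refine (hclN M hM _ (hNA a ha _ ?_)).symm
      refine ⟨(⟨M, hMT⟩ : T1) ^ t, pow_mem_frattini_pGroup hT1t _, ?_⟩
      simp [ht2, pow_two]
  obtain ⟨hp5, hq3, f, e, hfT, hfv, hrot, hce⟩ := rot
  -- the product of the conjugates of `f`
  have := Fintype.ofFinite A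
  set O : Finset (MulAut W) := (Finset.univ : Finset A).image fun a : A => (a : MulAut W) * f * (a : MulAut W)⁻¹
    with hO
  have hOmem : ∀ o, o ∈ O ↔ ∃ a ∈ A, a * f * a⁻¹ = o := fun o => by simp [hO]
  have hcomm : Set.Pairwise (O : Set (MulAut W)) (Function.onFun Commute id) := by
    intro o ho o' ho' _
    obtain ⟨a, ha, rfl⟩ := (hOmem o).mp ho
    obtain ⟨b, hb, rfl⟩ := (hOmem o').mp ho'
    have h1 := (hrot.commute_conj hA hp5 hq3 hce (A.mul_mem (A.inv_mem ha) hb)).map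
      (MulAut.conj a : MulAut (MulAut W)).toMonoidHom
    show Commute (a * f * a⁻¹) (b * f * b⁻¹)
    simpa [mul_assoc] using h1
  set F := O.noncommProd id hcomm with hF
  have hFT : F ∈ T1 := Subgroup.noncommProd_mem _ _ fun o ho => by
    obtain ⟨a, ha, rfl⟩ := (hOmem o).mp ho
    exact conj_mem (hAT1 ha) hfT
  have hFA : ∀ a ∈ A, Commute a F := by
    intro a ha
    have h1 : (MulAut.conj a : MulAut (MulAut W)).toMonoidHom F = F := by
      rw [hF, Finset.map_noncommProd]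
      have himg : O.image (MulAut.conj a : MulAut (MulAut W)).toMonoidHom = O := by
        refine Finset.eq_of_subset_of_card_le (fun o ho => ?_)
          (Finset.card_image_of_injective _ (MulEquiv.injective _)).ge
        obtain ⟨o', ho', rfl⟩ := Finset.mem_image.mp ho
        obtain ⟨b, hb, rfl⟩ := (hOmem o').mp ho'
        exact (hOmem _).mpr ⟨a * b, A.mul_mem ha hb, by simp [mul_assoc]⟩
      have hms : O.val.map (fun o => (MulAut.conj a : MulAut (MulAut W)).toMonoidHom (id o)) = O.val.map id := by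
        rw [Multiset.map_id]
        conv_rhs => rw [← himg]
        exact (Finset.image_val_of_injOn (s := O) (f := fun o => (MulAut.conj a : MulAut (MulAut W)).toMonoidHom o)
          fun _ _ _ _ h => MulEquiv.injective _ h).symm
      simp only [Finset.noncommProd]
      congr 1
    show a * F = F * a
    exact mul_inv_eq_iff_eq_mul.mp h1
  have hfO : f ∈ O := (hOmem f).mpr ⟨1, A.one_mem, by simp⟩
  have hrest : (O.erase f).noncommProd id (hcomm.mono fun _ => Finset.mem_of_mem_erase) ∈ fixer U := by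
    refine Subgroup.noncommProd_mem _ _ fun o ho => ?_
    obtain ⟨hof, ho⟩ := Finset.mem_erase.mp ho
    obtain ⟨a, ha, rfl⟩ := (hOmem o).mp ho
    intro u hu
    rcases hrot.dichotomy hA hp5 hq3 (A.inv_mem ha) (hce _ (A.inv_mem ha)) with h' | h'
    · exfalso
      refine hof ?_
      have h4 : a⁻¹ * f * a = f := by simpa using h'
      show a * f * a⁻¹ = f
      conv_lhs => rw [← h4]
      group
    · show (a * f * a⁻¹) u = u
      have : f (a⁻¹ u) = a⁻¹ u := h' _ (by
        rw [inv_inv, show a (a⁻¹ u) = u from MulEquiv.apply_symm_apply a u]; exact hu)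
      rw [MulAut.mul_apply, MulAut.mul_apply, this]
      exact MulEquiv.apply_symm_apply a u
  have hvU : v ∈ U := Subgroup.mem_sup_left (Subgroup.mem_zpowers v)
  have hFv : F v = f v := by
    rw [hF, ← Finset.mul_noncommProd_erase _ hfO id hcomm, MulAut.mul_apply, hrest v hvU]
    rfl
  refine hfv ?_
  rw [← hFv, ← MulAut.mul_apply, ← (hfx F (hT1 hFT) hFA).eq, MulAut.mul_apply, hxv]

/-- The offender inequality for elementary abelian subgroups of `P`. -/
theorem offender_aut (hexp : ∀ w : W, w ^ q = 1) (hqt : q ≠ t) (hpq : p ≠ q) (hpt : p ≠ t)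
    {P T A : Subgroup (MulAut W)} (hP : IsPGroup q P) (hT : IsPGroup t T) (hA : IsPGroup p A)
    (hAT : A ≤ normalizer (T : Set (MulAut W))) (hPT : P ≤ normalizer (T : Set (MulAut W)))
    (hfaith : ∀ r ∈ P, (∀ τ ∈ T, Commute r τ) → r = 1)
    (hfx : ∀ c ∈ T, (∀ a ∈ A, Commute a c) → ∀ r ∈ P, Commute c r)
    (B : Subgroup (MulAut W)) (hBP : B ≤ P) (hBc : ∀ a ∈ B, ∀ b ∈ B, a * b = b * a)
    (hBe : ∀ b ∈ B, b ^ q = 1) (hB1 : B ≠ ⊥) :
    Nat.card B * Nat.card (fixS B) < Nat.card W := by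
  induction hn : Nat.card B using Nat.strong_induction_on generalizing B with
  | _ n ih =>
    subst hn
    have hqp : q.Prime := Fact.out
    have hBq : IsPGroup q B := hP.to_le hBP
    have hWq : IsPGroup q W := isPGroup_W hexp
    obtain ⟨⟨b, hb⟩, hb1'⟩ := Subgroup.ne_bot_iff_exists_ne_one.mp hB1
    have hb1 : b ≠ 1 := fun e => hb1' (Subtype.ext e)
    have hbcard : ∀ {z : MulAut W}, z ∈ B → z ≠ 1 → Nat.card (Subgroup.zpowers z) = q := fun {z} hz hz1 => by
      rw [Nat.card_zpowers]; exact orderOf_eq_prime (hBe z hz) hz1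
    by_cases hsmall : B ≤ Subgroup.zpowers b
    · have hBeq : B = Subgroup.zpowers b := le_antisymm hsmall (Subgroup.zpowers_le.mpr hb)
      have hfixeq : fixS B = fix b := by
        refine le_antisymm (fun w hw => hw b hb) fun w hw σ hσ => ?_
        have : b ∈ fixer (Subgroup.zpowers w) := fun z hz => by
          obtain ⟨i, rfl⟩ := Subgroup.mem_zpowers_iff.mp hz
          rw [map_zpow, hw]
        rw [hBeq] at hσ
        exact (Subgroup.zpowers_le.mpr this hσ) w (Subgroup.mem_zpowers w)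
      have hmoved : ∃ g ∈ T, ¬ Commute g b := by
        by_contra h
        push Not at h
        exact hb1 (hfaith b (hBP hb) fun τ hτ => (h τ hτ).symm)
      have hne := no_transvection hexp hqt hpq hpt hT hA hAT (hPT (hBP hb))
        (hBq.to_le (Subgroup.zpowers_le.mpr hb)) hmoved (fun c hc hca => hfx c hc hca b (hBP hb))
      rw [hfixeq, hBeq, hbcard hb hb1]
      -- proper subgroup of a `q`-group
      have hproper : fix b ≠ ⊤ := fun e => hb1 (MulEquiv.ext fun w =>
        mem_fix.mp (e ▸ Subgroup.mem_top w))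
      obtain ⟨i, hi⟩ := (hWq.to_subgroup (fix b)).exists_card_eq
      obtain ⟨m, hm⟩ := hWq.exists_card_eq
      have him : i < m := by
        rw [← Nat.pow_lt_pow_iff_right hqp.one_lt, ← hi, ← hm]
        refine (Nat.le_of_dvd Nat.card_pos (Subgroup.card_subgroup_dvd_card _)).lt_of_ne fun e => hproper ?_
        exact Subgroup.eq_top_of_card_eq _ e
      refine lt_of_le_of_ne ?_ (Ne.symm hne)
      rw [hi, hm, ← pow_succ']
      exact Nat.pow_le_pow_right hqp.pos him
    -- maximal proper subgroups with a moved centraliser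
    set Good := {B0 : Subgroup (MulAut W) | B0 ≤ B ∧ B0 ≠ B ∧
      ∃ τ ∈ T, (∀ z ∈ B0, Commute z τ) ∧ ∃ c ∈ B, ¬ Commute c τ} with hGood
    have hTn : B ≤ normalizer (T : Set (MulAut W)) := hBP.trans hPT
    obtain ⟨B0, ⟨hB0, hB0ne, τ, hτ, hτB0, c, hc, hcτ⟩, hmax⟩ := Set.exists_max_image Good
      (fun S => Nat.card S) (Set.toFinite _) ⟨⊥, bot_le, fun e => hB1 e.symm, by
        by_contra h
        push Not at h
        exact hb1 (hfaith b (hBP hb) fun τ hτ => h τ hτ (fun z hz => by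
          rw [Subgroup.mem_bot.mp hz]; exact Commute.one_left τ) b hb)⟩
    have hlt : B0 < B := lt_of_le_of_ne hB0 hB0ne
    obtain ⟨b1, hb1B, hb1B0⟩ := SetLike.exists_of_lt hlt
    have hb11 : b1 ≠ 1 := fun e => hb1B0 (e ▸ B0.one_mem)
    have hcommB : ∀ z : MulAut W, z ∈ B → B ≤ normalizer (Subgroup.zpowers z : Set (MulAut W)) := fun z hz w hw => by
      refine Subgroup.mem_normalizer_iff.mpr fun u => ?_
      constructor
      · intro hu
        rw [hBc w hw u ((Subgroup.zpowers_le.mpr hz) hu), mul_inv_cancel_right]; exact hu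
      · intro hu
        have hu' : w * u * w⁻¹ ∈ B := (Subgroup.zpowers_le.mpr hz) hu
        have : u = w * u * w⁻¹ := by
          have e := hBc w⁻¹ (B.inv_mem hw) _ hu'
          calc u = w⁻¹ * (w * u * w⁻¹) * w := by group
            _ = _ := by rw [e, inv_mul_cancel_right]
        exact this.symm ▸ hu
    have hsup : ∀ z ∈ B, z ∉ B0 → Nat.card (B0 ⊔ Subgroup.zpowers z : Subgroup (MulAut W)) = Nat.card B0 * q ∧
        B0 ⊔ Subgroup.zpowers z ≤ B := by
      intro z hz hz0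
      have hle : B0 ⊔ Subgroup.zpowers z ≤ B := sup_le hB0 (Subgroup.zpowers_le.mpr hz)
      refine ⟨?_, hle⟩
      have hzcard := hbcard hz (fun e => hz0 (e ▸ B0.one_mem))
      rw [← hzcard, ← Nat.card_prod]
      refine (Nat.card_congr (Equiv.ofBijective (fun w : B0 × Subgroup.zpowers z =>
        (⟨(w.1 : MulAut W) * w.2, Subgroup.mul_mem_sup w.1.2 w.2.2⟩ :
          (B0 ⊔ Subgroup.zpowers z : Subgroup (MulAut W)))) ⟨?_, ?_⟩)).symm
      · intro w w' e
        have e' : (w.1 : MulAut W) * w.2 = w'.1 * w'.2 := congrArg Subtype.val e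
        have h1 : (w'.1 : MulAut W)⁻¹ * w.1 = w'.2 * (w.2 : MulAut W)⁻¹ := by
          rw [eq_mul_inv_iff_mul_eq, mul_assoc, e', inv_mul_cancel_left]
        have hm : (w'.1 : MulAut W)⁻¹ * w.1 ∈ B0 := B0.mul_mem (B0.inv_mem w'.1.2) w.1.2
        have hm' : (w'.1 : MulAut W)⁻¹ * w.1 ∈ Subgroup.zpowers z :=
          h1 ▸ Subgroup.mul_mem _ w'.2.2 (Subgroup.inv_mem _ w.2.2)
        have h0 : B0 ⊓ Subgroup.zpowers z = ⊥ := by
          refine Subgroup.eq_bot_of_card_eq _ ?_
          rcases (Nat.dvd_prime hqp).mp (hzcard ▸ Subgroup.card_dvd_of_le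
            (inf_le_right : B0 ⊓ Subgroup.zpowers z ≤ _)) with h' | h'
          · exact h'
          · have := Subgroup.eq_of_le_of_card_ge (inf_le_right : B0 ⊓ Subgroup.zpowers z ≤ _)
              (by rw [h', hzcard])
            exact absurd (this.symm ▸ Subgroup.mem_zpowers z : z ∈ B0 ⊓ Subgroup.zpowers z).1 hz0
        have h2 : (w'.1 : MulAut W)⁻¹ * w.1 = 1 := Subgroup.mem_bot.mp (h0 ▸ ⟨hm, hm'⟩)
        rw [inv_mul_eq_one] at h2
        rw [h2] at e'
        exact Prod.ext (Subtype.ext h2.symm) (Subtype.ext (mul_left_cancel e'))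
      · intro w
        obtain ⟨a, ha, d, hd, e⟩ := mem_sup_of_le_normalizer
          (hB0.trans (hcommB z hz)) ((sup_comm B0 (Subgroup.zpowers z)).le w.2)
        refine ⟨(⟨d, hd⟩, ⟨a, ha⟩), Subtype.ext ?_⟩
        show d * a = w
        rw [← e]
        exact hBc d (hB0 hd) a ((Subgroup.zpowers_le.mpr hz) ha)
    obtain ⟨hcard1, hle1⟩ := hsup b1 hb1B hb1B0
    by_cases hfull : B0 ⊔ Subgroup.zpowers b1 = B
    · -- `B0` is a hyperplane
      have hB0bot : B0 ≠ ⊥ := by
        intro e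
        refine hsmall ?_
        rw [← hfull, e, bot_sup_eq]
        refine (Subgroup.eq_of_le_of_card_ge (Subgroup.zpowers_le.mpr (show b ∈ Subgroup.zpowers b1 by
          have := hfull.symm ▸ hb
          rwa [e, bot_sup_eq] at this)) ?_).ge
        rw [hbcard hb1B hb11, hbcard hb hb1]
      have hltc : Nat.card B0 < Nat.card B := by
        rw [← hfull, hcard1]
        exact lt_mul_of_one_lt_right Nat.card_pos hqp.one_lt
      have hIH := ih _ hltc B0 (hB0.trans hBP) (fun a ha b' hb' => hBc a (hB0 ha) b' (hB0 hb'))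
        (fun a ha => hBe a (hB0 ha)) hB0bot rfl
      have hFle : fixS B ≤ fixS B0 := fun w hw σ hσ => hw σ (hB0 hσ)
      have hFne : fixS B ≠ fixS B0 := by
        intro e
        refine hcτ ?_
        -- `[c, τ]` centralises `B0` and fixes `C(B0)`
        have hcomT : c * τ * c⁻¹ * τ⁻¹ ∈ T := T.mul_mem (conj_mem (hTn hc) hτ) (T.inv_mem hτ)
        have hcomB : ∀ z ∈ B0, Commute z (c * τ * c⁻¹ * τ⁻¹) := fun z hz => by
          have h1 : Commute z c := hBc z (hB0 hz) c hc
          exact ((h1.mul_right (hτB0 z hz)).mul_right h1.inv_right).mul_right (hτB0 z hz).inv_right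
        have h1 : c * τ * c⁻¹ * τ⁻¹ = 1 := axb_aut hexp (hBq.to_le hB0) (coprime_orderOf hqt hT hcomT) hcomB
          fun w hw => by
            have hτi : τ⁻¹ w ∈ fixS B0 := fun σ hσ => by
              rw [← MulAut.mul_apply, (hτB0 σ hσ).inv_right.eq, MulAut.mul_apply, hw σ hσ]
            have hτi' : τ⁻¹ w ∈ fixS B := e.symm ▸ hτi
            have hw' : w ∈ fixS B := e.symm ▸ hw
            rw [MulAut.mul_apply, MulAut.mul_apply, MulAut.mul_apply, hτi' _ (B.inv_mem hc),
              show τ (τ⁻¹ w) = w from MulEquiv.apply_symm_apply τ w, hw' c hc]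
        show c * τ = τ * c
        rwa [mul_inv_eq_one, mul_inv_eq_iff_eq_mul] at h1
      have hqF : q * Nat.card (fixS B) ≤ Nat.card (fixS B0) := by
        obtain ⟨i, hi⟩ := (hWq.to_subgroup (fixS B)).exists_card_eq
        obtain ⟨k, hk⟩ := (hWq.to_subgroup (fixS B0)).exists_card_eq
        have hlt' : Nat.card (fixS B) < Nat.card (fixS B0) :=
          (Subgroup.card_le_of_le hFle).lt_of_ne fun e' =>
            hFne (Subgroup.eq_of_le_of_card_ge hFle e'.ge)
        rw [hi, hk, Nat.pow_lt_pow_iff_right hqp.one_lt] at hlt'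
        rw [hi, hk, ← pow_succ']
        exact Nat.pow_le_pow_right hqp.pos hlt'
      refine lt_of_le_of_lt ?_ hIH
      rw [← hfull, hcard1, hfull, mul_assoc]
      exact Nat.mul_le_mul_left _ hqF
    -- otherwise a larger subgroup is good
    exfalso
    obtain ⟨b2, hb2B, hb2⟩ := SetLike.exists_of_lt (lt_of_le_of_ne hle1 hfull)
    set B' := Subgroup.closure ({b1, b2} : Set (MulAut W)) with hB'
    have hB'B : B' ≤ B := (Subgroup.closure_le _).mpr (by rintro z (rfl | rfl) <;> assumption)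
    have : IsMulCommutative B' := ⟨⟨fun a b' => Subtype.ext (hBc _ (hB'B a.2) _ (hB'B b'.2))⟩⟩
    have hb1' : b1 ∈ B' := Subgroup.subset_closure (Set.mem_insert _ _)
    have hb2' : b2 ∈ B' := Subgroup.subset_closure (Set.mem_insert_of_mem _ rfl)
    have hncyc : ¬ IsCyclic B' := by
      intro hcy
      obtain ⟨⟨z, hz⟩, hgen⟩ := hcy.exists_generator
      have hz1 : z ≠ 1 := by
        rintro rfl
        obtain ⟨i, hi⟩ := Subgroup.mem_zpowers_iff.mp (hgen ⟨b1, hb1'⟩)
        exact hb11 (by simpa using (congrArg Subtype.val hi).symm)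
      have hB'z : B' ≤ Subgroup.zpowers z := fun w hw => by
        obtain ⟨i, hi⟩ := Subgroup.mem_zpowers_iff.mp (hgen ⟨w, hw⟩)
        exact Subgroup.mem_zpowers_iff.mpr ⟨i, congrArg Subtype.val hi⟩
      have heq : Subgroup.zpowers b1 = Subgroup.zpowers z :=
        Subgroup.eq_of_le_of_card_ge (Subgroup.zpowers_le.mpr (hB'z hb1'))
          (by rw [hbcard (hB'B hz) hz1, hbcard hb1B hb11])
      exact hb2 (Subgroup.mem_sup_right (heq.symm ▸ hB'z hb2'))
    set T0 := T ⊓ Subgroup.centralizer (B0 : Set (MulAut W)) with hT0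
    have hB'T0 : B' ≤ normalizer (T0 : Set (MulAut W)) := by
      have hin : ∀ w ∈ B', ∀ u ∈ T0, w * u * w⁻¹ ∈ T0 := fun w hw u hu =>
        ⟨conj_mem (hTn (hB'B hw)) hu.1, fun z hz => by
          have h1 : Commute z w := hBc z (hB0 hz) w (hB'B hw)
          have h2 : Commute z u := hu.2 z hz
          exact ((h1.mul_right h2).mul_right h1.inv_right).eq⟩
      intro w hw
      refine Subgroup.mem_normalizer_iff.mpr fun u => ⟨hin w hw u, fun hu => ?_⟩
      have := hin w⁻¹ (B'.inv_mem hw) _ hu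
      simpa [mul_assoc] using this
    have hcop : (Nat.card B').Coprime (Nat.card T0) := by
      obtain ⟨i, hi⟩ := (hBq.to_le hB'B).exists_card_eq
      obtain ⟨k, hk⟩ := (hT.to_le (inf_le_left : T0 ≤ T)).exists_card_eq
      rw [hi, hk]
      exact ((Nat.coprime_primes hqp Fact.out).mpr hqt).pow i k
    have hgen := coprime_generated_by_centralizers hncyc hB'T0 hcop
    have hτ0 : τ ∈ T0 := ⟨hτ, fun z hz => (hτB0 z hz).eq⟩
    have hall : T0 ≤ Subgroup.centralizer ({c} : Set (MulAut W)) := by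
      rw [← hgen]
      refine iSup₂_le fun z hz => fun u hu => ?_
      rw [Subgroup.mem_centralizer_singleton_iff]
      by_contra huc
      -- `B0⟨z⟩` is good
      have hzu : Commute z u := (Subgroup.mem_centralizer_singleton_iff.mp hu.2).symm
      have hz0 : z ∉ B0 ⊔ Subgroup.zpowers z → False := fun h => h (Subgroup.mem_sup_right (Subgroup.mem_zpowers z))
      by_cases hzB0 : z ∈ B0
      · -- then every element of `B'` not in `B0` still gives a good subgroup
        have hzB : z ∈ B := hB'B hz.1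
        exfalso
        have h1 : B0 ⊓ B' = ⊥ := by
          rw [eq_bot_iff]
          intro w hw
          rw [Subgroup.mem_bot]
          by_contra hw1
          obtain ⟨i, hi, j, hj, e⟩ : ∃ i ∈ Subgroup.zpowers b1, ∃ j ∈ Subgroup.zpowers b2, w = i * j := by
            have hw' : w ∈ Subgroup.zpowers b1 ⊔ Subgroup.zpowers b2 := by
              refine (Subgroup.closure_le _).mpr ?_ hw.2
              rintro u (rfl | rfl)
              · exact Subgroup.mem_sup_left (Subgroup.mem_zpowers _)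
              · exact Subgroup.mem_sup_right (Subgroup.mem_zpowers _)
            obtain ⟨i, hi, j, hj, e⟩ := mem_sup_of_le_normalizer ((Subgroup.zpowers_le.mpr hb2B).trans (hcommB b1 hb1B)) hw'
            exact ⟨i, hi, j, hj, e.symm⟩
          have hj' : j ∈ B0 ⊔ Subgroup.zpowers b1 := by
            have : j = i⁻¹ * w := by rw [e, inv_mul_cancel_left]
            rw [this]
            exact mul_mem (Subgroup.mem_sup_right (Subgroup.inv_mem _ hi)) (Subgroup.mem_sup_left hw.1)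
          by_cases hj1 : j = 1
          · have hib : i ∈ B0 := by rw [hj1, mul_one] at e; exact e ▸ hw.1
            have hi1 : i ≠ 1 := fun e1 => hw1 (by rw [e, e1, hj1, one_mul])
            have hb1mem : Subgroup.zpowers i = Subgroup.zpowers b1 :=
              Subgroup.eq_of_le_of_card_ge (Subgroup.zpowers_le.mpr hi)
                (by rw [hbcard (hB0 hib) hi1, hbcard hb1B hb11])
            exact hb1B0 ((Subgroup.zpowers_le.mpr hib) (hb1mem.symm ▸ Subgroup.mem_zpowers b1))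
          · have hjB : j ∈ B := (Subgroup.zpowers_le.mpr hb2B) hj
            have hb2mem : Subgroup.zpowers j = Subgroup.zpowers b2 :=
              Subgroup.eq_of_le_of_card_ge (Subgroup.zpowers_le.mpr hj)
                (by rw [hbcard hjB hj1, hbcard hb2B (fun e2 => hb2 (e2 ▸ Subgroup.one_mem _))])
            exact hb2 ((Subgroup.zpowers_le.mpr hj') (hb2mem.symm ▸ Subgroup.mem_zpowers b2))
        exact hz.2 (Subgroup.mem_bot.mp (h1 ▸ ⟨hzB0, hz.1⟩))
      obtain ⟨hcz, hlez⟩ := hsup z (hB'B hz.1) hzB0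
      have hne' : B0 ⊔ Subgroup.zpowers z ≠ B := by
        intro e
        refine hfull (Subgroup.eq_of_le_of_card_ge hle1 ?_)
        rw [← e, hcz, hcard1]
      have hgood : B0 ⊔ Subgroup.zpowers z ∈ Good := by
        refine ⟨hlez, hne', u, hu.1.1, ?_, c, hc, fun h => huc h.eq.symm⟩
        intro w hw
        have hle2 : B0 ⊔ Subgroup.zpowers z ≤ Subgroup.centralizer ({u} : Set (MulAut W)) := by
          refine sup_le (fun y hy => ?_) (Subgroup.zpowers_le.mpr ?_)
          · exact Subgroup.mem_centralizer_singleton_iff.mpr (hu.1.2 y hy)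
          · exact Subgroup.mem_centralizer_singleton_iff.mpr hzu.eq
        exact Subgroup.mem_centralizer_singleton_iff.mp (hle2 hw)
      have := hmax _ hgood
      rw [hcz] at this
      exact absurd this (not_le.mpr (lt_mul_of_one_lt_right Nat.card_pos hqp.one_lt))
    exact hcτ (Subgroup.mem_centralizer_singleton_iff.mp (hall hτ0)).symm

end Aut

end Offender

variable {G : Type u} [Group G] [Finite G] {p : ℕ} [Fact p.Prime] {A : Subgroup G} {θ : G → Subgroup G}

open Offender in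
/-- No offenders: `R` and `T` act on the elementary abelian group `V`, modulo `C(V)`. -/
theorem offender_in_group {q t : ℕ} [Fact q.Prime] [Fact t.Prime] (hqt : q ≠ t) (hpq : p ≠ q) (hpt : p ≠ t)
    {R T V B : Subgroup G} (hA : IsElementaryAbelian p A) (hV : IsElementaryAbelian q V)
    (hR : IsPGroup q R) (hT : IsPGroup t T)
    (hAV : A ≤ normalizer (V : Set G)) (hRV : R ≤ normalizer (V : Set G)) (hTV : T ≤ normalizer (V : Set G))
    (hAR : A ≤ normalizer (R : Set G)) (hAT : A ≤ normalizer (T : Set G))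
    (hRT : ∀ r ∈ R, ∀ x ∈ T, ∃ x' ∈ T, x'⁻¹ * (r * x * r⁻¹) ∈ centralizer (V : Set G))
    (hfaith : ∀ r ∈ R, (∀ x ∈ T, r * x * r⁻¹ * x⁻¹ ∈ centralizer (V : Set G)) → r ∈ centralizer (V : Set G))
    (hCA : T ⊓ centralizer (A : Set G) ≤ normalizer (R : Set G))
    (hB : B ≤ R) (hBe : IsElementaryAbelian q B) (hBV : ¬ B ≤ centralizer (V : Set G)) :
    Nat.card B * Nat.card (V ⊓ centralizer (B : Set G) : Subgroup G) <
      Nat.card V * Nat.card (B ⊓ centralizer (V : Set G) : Subgroup G) := by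
  have := hV.1
  let _ : CommGroup V := { (inferInstance : Group V) with mul_comm := fun a b => (IsMulCommutative.is_comm (M := V)).comm a b }
  have hexp : ∀ w : V, w ^ q = 1 := fun w => Subtype.ext (by simpa using hV.2 w w.2)
  set N := normalizer (V : Set G) with hN
  set φ := V.normalizerMonoidHom with hφ
  have hker : ∀ n : N, φ n = 1 ↔ (n : G) ∈ centralizer (V : Set G) := fun n => by
    rw [← MonoidHom.mem_ker, Subgroup.normalizerMonoidHom_ker, Subgroup.mem_subgroupOf]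
  have himg : ∀ {S : Subgroup G}, S ≤ N → ∀ {σ : MulAut V}, σ ∈ (S.subgroupOf N).map φ →
      ∃ g, ∃ hg : g ∈ N, g ∈ S ∧ φ ⟨g, hg⟩ = σ := by
    rintro S - σ ⟨⟨g, hg⟩, hgS, rfl⟩
    exact ⟨g, hg, hgS, rfl⟩
  have hmap : ∀ {S : Subgroup G} {g : G} (hg : g ∈ N), g ∈ S → φ ⟨g, hg⟩ ∈ (S.subgroupOf N).map φ :=
    fun hg hgS => ⟨⟨_, hg⟩, hgS, rfl⟩
  have hpg : ∀ {r : ℕ} {S : Subgroup G}, S ≤ N → IsPGroup r S → IsPGroup r ((S.subgroupOf N).map φ) :=
    fun {r S} hS h => (h.of_equiv (Subgroup.subgroupOfEquivOfLe hS).symm).map φ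
  have hAp : IsPGroup p A := fun a => ⟨1, Subtype.ext (by simpa using hA.2 a a.2)⟩
  have hBN : B ≤ N := hB.trans hRV
  set P' := (R.subgroupOf N).map φ with hP'
  set T' := (T.subgroupOf N).map φ with hT'
  set A' := (A.subgroupOf N).map φ with hA'
  set B' := (B.subgroupOf N).map φ with hB'
  have hnorm : ∀ {S : Subgroup (MulAut V)} {S₀ : Subgroup (MulAut V)},
      (∀ σ ∈ S₀, ∀ τ ∈ S, σ * τ * σ⁻¹ ∈ S) → S₀ ≤ normalizer (S : Set (MulAut V)) := by
    intro S S₀ h σ hσ
    refine Subgroup.mem_normalizer_iff.mpr fun τ => ⟨h σ hσ τ, fun hu => ?_⟩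
    have := h σ⁻¹ (S₀.inv_mem hσ) _ hu
    simpa [mul_assoc] using this
  have hAT' : A' ≤ normalizer (T' : Set (MulAut V)) := hnorm fun σ hσ τ hτ => by
    obtain ⟨a, haN, ha, rfl⟩ := himg hAV hσ
    obtain ⟨x, hxN, hx, rfl⟩ := himg hTV hτ
    rw [← map_inv, ← map_mul, ← map_mul]
    exact ⟨_, show a * x * a⁻¹ ∈ T from (Subgroup.mem_normalizer_iff.mp (hAT ha) x).mp hx, rfl⟩
  have hPT' : P' ≤ normalizer (T' : Set (MulAut V)) := hnorm fun σ hσ τ hτ => by
    obtain ⟨r, hrN, hr, rfl⟩ := himg hRV hσ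
    obtain ⟨x, hxN, hx, rfl⟩ := himg hTV hτ
    obtain ⟨x', hx', hc⟩ := hRT r hr x hx
    rw [← map_inv, ← map_mul, ← map_mul]
    refine ⟨⟨x', hTV hx'⟩, hx', ?_⟩
    rw [← inv_mul_eq_one, ← map_inv, ← map_mul, hker]
    exact hc
  have hfaith' : ∀ σ ∈ P', (∀ τ ∈ T', Commute σ τ) → σ = 1 := by
    intro σ hσ hc
    obtain ⟨r, hrN, hr, rfl⟩ := himg hRV hσ
    refine (hker _).mpr (hfaith r hr fun x hx => ?_)
    have h1 := hc _ (hmap (hTV hx) hx)
    refine (hker ⟨r * x * r⁻¹ * x⁻¹, N.mul_mem (N.mul_mem (N.mul_mem hrN (hTV hx)) (N.inv_mem hrN))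
      (N.inv_mem (hTV hx))⟩).mp ?_
    show φ (⟨r, hrN⟩ * ⟨x, hTV hx⟩ * ⟨r, hrN⟩⁻¹ * ⟨x, hTV hx⟩⁻¹) = 1
    rw [map_mul, map_mul, map_mul, map_inv, map_inv, h1.eq]
    group
  have hfx : ∀ c ∈ T', (∀ σ ∈ A', Commute σ c) → ∀ σ ∈ P', Commute c σ := by
    intro c hcT hcA
    obtain ⟨x, hxN, hx, rfl⟩ := himg hTV hcT
    have hcop : (Nat.card A).Coprime (Nat.card T) := by
      obtain ⟨i, hi⟩ := hAp.exists_card_eq
      obtain ⟨k, hk⟩ := hT.exists_card_eq
      rw [hi, hk]
      exact ((Nat.coprime_primes Fact.out Fact.out).mpr hpt).pow i k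
    have hsolv : Group.IsSolvable A ∨ Group.IsSolvable T := Or.inl (by have := hAp.isNilpotent; infer_instance)
    set K := T ⊓ centralizer (V : Set G) with hK
    have hKn : ∀ {S : Subgroup G}, S ≤ normalizer (T : Set G) → S ≤ N →
        S ≤ normalizer (K : Set G) := by
      intro S hS hSN s hs
      have hin : ∀ n ∈ N, ∀ z ∈ centralizer (V : Set G), n * z * n⁻¹ ∈ centralizer (V : Set G) := by
        intro n hn z hz w hw
        have h1 : n⁻¹ * w * n ∈ V := by
          have := (Subgroup.mem_normalizer_iff.mp (N.inv_mem hn) w).mp hw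
          simpa using this
        have h2 := hz _ h1
        calc w * (n * z * n⁻¹) = n * (n⁻¹ * w * n * z) * n⁻¹ := by group
          _ = n * (z * (n⁻¹ * w * n)) * n⁻¹ := by rw [h2]
          _ = _ := by group
      have hc : N ≤ normalizer ((centralizer (V : Set G) : Subgroup G) : Set G) := fun n hn =>
        Subgroup.mem_normalizer_iff.mpr fun z => ⟨hin n hn z, fun hz => by
          simpa [mul_assoc] using hin n⁻¹ (N.inv_mem hn) _ hz⟩
      refine Subgroup.mem_normalizer_iff.mpr fun u => ?_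
      simp only [hK, Subgroup.mem_inf]
      rw [← Subgroup.mem_normalizer_iff.mp (hS hs) u, ← Subgroup.mem_normalizer_iff.mp (hc (hSN hs)) u]
    obtain ⟨x', ⟨hx'T, hx'A⟩, hxx'⟩ := coprime_fixed_quotient hAT hcop hsolv (inf_le_left : K ≤ T)
      (hKn Subgroup.le_normalizer hTV) (hKn hAT hAV) hx (fun a ha => by
        refine ⟨T.mul_mem ((Subgroup.mem_normalizer_iff.mp (hAT ha) x).mp hx) (T.inv_mem hx), ?_⟩
        refine (hker ⟨a * x * a⁻¹ * x⁻¹, N.mul_mem (N.mul_mem (N.mul_mem (hAV ha) hxN) (N.inv_mem (hAV ha)))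
          (N.inv_mem hxN)⟩).mp ?_
        show φ (⟨a, hAV ha⟩ * ⟨x, hxN⟩ * ⟨a, hAV ha⟩⁻¹ * ⟨x, hxN⟩⁻¹) = 1
        rw [map_mul, map_mul, map_mul, map_inv, map_inv, (hcA _ (hmap (hAV ha) ha)).eq]
        group)
    have heq : φ ⟨x, hxN⟩ = φ ⟨x', hTV hx'T⟩ := by
      rw [← inv_mul_eq_one, ← map_inv, ← map_mul, hker]
      exact hxx'.2
    intro σ hσ
    obtain ⟨r, hrN, hr, rfl⟩ := himg hRV hσ
    rw [heq]
    set τ := φ ⟨x', hTV hx'T⟩ with hτ
    set ρ := φ ⟨r, hrN⟩ with hρ
    have h1 : τ * ρ * τ⁻¹ * ρ⁻¹ ∈ P' := by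
      refine P'.mul_mem ?_ (P'.inv_mem (hmap hrN hr))
      rw [hτ, hρ, ← map_inv, ← map_mul, ← map_mul]
      exact ⟨_, show x' * r * x'⁻¹ ∈ R from
        (Subgroup.mem_normalizer_iff.mp (hCA ⟨hx'T, hx'A⟩) r).mp hr, rfl⟩
    have h2 : τ * ρ * τ⁻¹ * ρ⁻¹ ∈ T' := by
      have hτT : τ ∈ T' := hmap _ hx'T
      have h3 : ρ * τ⁻¹ * ρ⁻¹ ∈ T' :=
        (Subgroup.mem_normalizer_iff.mp (hPT' (hmap hrN hr)) _).mp (T'.inv_mem hτT)
      have := T'.mul_mem hτT h3
      simpa [mul_assoc] using this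
    obtain ⟨i, hi⟩ := hpg hRV hR ⟨_, h1⟩
    have hco := (coprime_orderOf hqt (hpg hTV hT) h2).pow_right i
    have h4 := Nat.dvd_gcd (dvd_refl (orderOf (τ * ρ * τ⁻¹ * ρ⁻¹)))
      (orderOf_dvd_of_pow_eq_one (congrArg Subtype.val hi))
    rw [hco.gcd_eq_one] at h4
    have h5 := orderOf_eq_one_iff.mp (Nat.dvd_one.mp h4)
    rwa [mul_inv_eq_one, mul_inv_eq_iff_eq_mul] at h5
  have := hBe.1
  have key := offender_aut hexp hqt hpq hpt (hpg hRV hR) (hpg hTV hT) (hpg hAV hAp) hAT' hPT' hfaith' hfx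
    B' (Subgroup.map_mono fun b hb => hB hb)
    (fun a ha b hb => by
      obtain ⟨a', haN, ha', rfl⟩ := himg hBN ha
      obtain ⟨b', hbN, hb', rfl⟩ := himg hBN hb
      rw [← map_mul, ← map_mul]
      congr 1
      exact Subtype.ext (show a' * b' = b' * a' from
        congrArg Subtype.val ((IsMulCommutative.is_comm (M := B)).comm ⟨a', ha'⟩ ⟨b', hb'⟩)))
    (fun a ha => by
      obtain ⟨a', haN, ha', rfl⟩ := himg hBN ha
      rw [← map_pow, show (⟨a', haN⟩ : N) ^ q = 1 from Subtype.ext (by simpa using hBe.2 a' ha'), map_one])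
    (fun e => hBV fun b hb => (hker ⟨b, hBN hb⟩).mp
      (Subgroup.mem_bot.mp (e ▸ hmap (hBN hb) hb)))
  -- orders
  have hcardB : Nat.card B' * Nat.card (B ⊓ centralizer (V : Set G) : Subgroup G) = Nat.card B := by
    let f : B →* MulAut V := φ.comp (Subgroup.inclusion hBN)
    have h := Subgroup.card_eq_card_quotient_mul_card_subgroup f.ker
    rw [Nat.card_congr (QuotientGroup.quotientKerEquivRange f).toEquiv] at h
    have hr : f.range = B' := by
      ext σ
      constructor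
      · rintro ⟨b, rfl⟩; exact hmap (hBN b.2) b.2
      · intro hσ
        obtain ⟨b, hbN, hb, rfl⟩ := himg hBN hσ
        exact ⟨⟨b, hb⟩, rfl⟩
    have hk : Nat.card f.ker = Nat.card (B ⊓ centralizer (V : Set G) : Subgroup G) :=
      Nat.card_congr
        { toFun := fun b => ⟨((b : B) : G), (b : B).2, (hker _).mp b.2⟩
          invFun := fun b => ⟨⟨(b : G), b.2.1⟩, (hker ⟨(b : G), hBN b.2.1⟩).mpr b.2.2⟩
          left_inv := fun b => rfl
          right_inv := fun b => rfl }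
    rw [hr, hk] at h
    exact h.symm
  have hfix : Nat.card (fixS B') = Nat.card (V ⊓ centralizer (B : Set G) : Subgroup G) :=
    Nat.card_congr
      { toFun := fun w => ⟨((w : V) : G), (w : V).2, fun b hb => by
          have h := congrArg Subtype.val (w.2 _ (hmap (hBN hb) hb))
          change b * ((w : V) : G) * b⁻¹ = ((w : V) : G) at h
          exact mul_inv_eq_iff_eq_mul.mp h⟩
        invFun := fun w => ⟨⟨(w : G), w.2.1⟩, fun σ hσ => by
          obtain ⟨b, hbN, hb, rfl⟩ := himg hBN hσ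
          refine Subtype.ext ?_
          show b * (w : G) * b⁻¹ = (w : G)
          rw [w.2.2 b hb, mul_inv_cancel_right]⟩
        left_inv := fun w => rfl
        right_inv := fun w => rfl }
  rw [← hcardB, mul_right_comm, ← hfix]
  exact (mul_lt_mul_iff_of_pos_right Nat.card_pos).mpr key

end CfsgLib.SolvSF
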