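import Cfsg.Agent.Lib.SolvSF.Multi.Cycle

/-! At least three primes. -/

set_option autoImplicit false
set_option linter.unusedSectionVars false

namespace CfsgLib.SolvSF

open Cfsg Subgroup CfsgLib.Signalizer

universe u
variable {G : Type u} [Group G] [Finite G] {p : ℕ} [Fact p.Prime] {A : Subgroup G} {θ : G → Subgroup G}

/-- There are at most two primes. -/
theorem multiPrime (h : Ctx p A θ) {q r s : ℕ} (hq : Pr A θ q) (hr : Pr A θ r) (hs : Pr A θ s)
    (hqr : q ≠ r) (hrs : r ≠ s) (hqs : q ≠ s) : False := by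
  obtain ⟨M, hf⟩ := Multi.exists_fam h
  refine Multi.cycle h hf fun a b => ?_
  by_cases h1 : q ≠ a ∧ q ≠ b
  · exact ⟨q, hq, h1⟩
  by_cases h2 : r ≠ a ∧ r ≠ b
  · exact ⟨r, hr, h2⟩
  exact ⟨s, hs, by omega, by omega⟩

end CfsgLib.SolvSF
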