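import Cfsg.Agent.Lib.SolvSF.Top
import Cfsg.Agent.Lib.SolvSF.Cores
import Cfsg.Agent.Lib.SolvSF.Two.Mixed
import Cfsg.Agent.Lib.SolvSF.Two.Simple
import Cfsg.Agent.Lib.SolvSF.Two.Multi

/-! Exactly two primes. -/

set_option autoImplicit false
set_option linter.unusedSectionVars false
set_option linter.style.haveILetI false

namespace CfsgLib.SolvSF

open Cfsg Subgroup CfsgLib.Signalizer

universe u
variable {G : Type u} [Group G] [Finite G] {p : ℕ} [Fact p.Prime] {A : Subgroup G} {θ : G → Subgroup G}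

namespace Two

/-- No member with two cores contains `W q`: impossible. -/
theorem no_multi {q t : ℕ} (s : Two p A θ q t) [Fact q.Prime] [Fact t.Prime]
    (hnm : ∀ K, MM p A θ K → W p A θ q ≤ K → O q K = ⊥ ∨ O t K = ⊥) : False := by
  have hall : AllType p A θ q t := fun K hK hW =>
    (hnm K hK hW).resolve_left fun e => no_wrong_type s hK hW e
  have hno : NoOther p A θ t := fun K hK hW e => no_wrong_type s.symm hK hW e
  by_cases hin : ∃ K, MM p A θ K ∧ W p A θ t ≤ K ∧ O q K ≠ ⊥
  · obtain ⟨K, hK, hW, hKq⟩ := hin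
    exact multi_in s hall hno hK hW hKq
  push Not at hin
  by_cases hsimp : ∀ K, MM p A θ K → O q K = ⊥ ∨ O t K = ⊥
  · exact simple s hall hin hsimp
  push Not at hsimp
  obtain ⟨K, hK, hKq, hKt⟩ := hsimp
  exact multi_out s hall hin hK hKq hKt

end Two

/-- Two primes are impossible. -/
theorem twoPrime (h : Ctx p A θ) {q t : ℕ} (hq : Pr A θ q) (ht : Pr A θ t) (hqt : q ≠ t)
    (honly : ∀ r, Pr A θ r → r = q ∨ r = t) : False := by
  haveI := Fact.mk hq.1
  haveI := Fact.mk ht.1
  have s : Two.Two p A θ q t := ⟨h, noTop h, hq, ht, hqt, honly⟩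
  by_cases hnm : ∀ K, MM p A θ K → W p A θ q ≤ K → O q K = ⊥ ∨ O t K = ⊥
  · exact Two.no_multi s hnm
  push Not at hnm
  obtain ⟨K, hK, hW, hKq, hKt⟩ := hnm
  refine Two.no_multi s.symm fun L hL hWL => ?_
  by_contra hcon
  push Not at hcon
  exact Two.multi_both s hK hW hKq hKt hL hWL hcon.2 hcon.1

end CfsgLib.SolvSF
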