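import Cfsg.Agent.Lib.SolvSF.Minimal
import Cfsg.Agent.Lib.SolvSF.MultiPrime
import Cfsg.Agent.Lib.SolvSF.TwoPrime

/-! The solvable signalizer functor theorem. -/

set_option autoImplicit false
set_option linter.unusedSectionVars false

namespace CfsgLib.SolvSF

open Cfsg Subgroup CfsgLib.Signalizer

universe u
variable {G : Type u} [Group G] [Finite G] {p : ℕ} [Fact p.Prime] {A : Subgroup G} {θ : G → Subgroup G}

theorem noCtx : NoCtx.{u} := by
  intro G _ _ p _ A θ h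
  obtain ⟨q, r, hq, hr, hqr⟩ := h.twoPrimes
  by_cases h3 : ∃ s, Pr A θ s ∧ s ≠ q ∧ s ≠ r
  · obtain ⟨s, hs, hsq, hsr⟩ := h3
    exact multiPrime h hq hr hs hqr hsr.symm hsq.symm
  · push Not at h3
    exact twoPrime h hq hr hqr fun s hs => (em (s = q)).imp_right fun e => h3 s hs e

theorem complete (hA : IsElementaryAbelian p A) (hA3 : p ^ 3 ≤ Nat.card A)
    (hθ : IsSolvableSignalizerFunctor p A θ) :
    ∃ X, Mem p A θ X ∧ ∀ a ∈ A, a ≠ 1 → θ a ≤ X :=
  complete_of_noCtx noCtx hA hA3 hθ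

end CfsgLib.SolvSF
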