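import Cfsg.Agent.Lib.SolvSF.Engine
import Cfsg.Agent.Lib.SolvSF.Cores
import Cfsg.Agent.Lib.Elementary

/-! A maximal member containing every W r. -/

set_option autoImplicit false
set_option linter.unusedSectionVars false

namespace CfsgLib.SolvSF

open Cfsg Subgroup CfsgLib.Signalizer
open scoped commutatorElement

universe u
variable {G : Type u} [Group G] [Finite G] {p : ℕ} [Fact p.Prime] {A : Subgroup G} {θ : G → Subgroup G}

/-- If `x` normalises `N` and `g` centralises it, their commutator centralises it. -/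
theorem commutator_mem_centralizer {N : Subgroup G} {x g : G} (hx : x ∈ normalizer (N : Set G))
    (hg : g ∈ centralizer (N : Set G)) : ⁅x, g⁆ ∈ centralizer (N : Set G) := by
  rw [commutatorElement_def]
  exact mul_mem (centralizer_conj hx hg) (inv_mem hg)

/-- A nontrivial subgroup normalised by the `q`-group `R` containing it meets `ZOm q R`. -/
theorem exists_mem_ZOm {q : ℕ} [Fact q.Prime] {R Y : Subgroup G} (hR : IsPGroup q R) (hYR : Y ≤ R)
    (hn : R ≤ normalizer (Y : Set G)) (hY : Y ≠ ⊥) : ∃ z, z ∈ Y ∧ z ∈ ZOm q R ∧ z ≠ 1 := by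
  haveI : Group.IsNilpotent ↥R := hR.isNilpotent
  haveI : (Y.subgroupOf R).Normal := (Subgroup.normal_subgroupOf_iff_le_normalizer hYR).mpr hn
  have hne : Y.subgroupOf R ≠ ⊥ := fun e => hY (by
    rw [← map_subtype_subgroupOf hYR, e, Subgroup.map_bot])
  obtain ⟨⟨⟨w, hwR⟩, hwY, hwC⟩, hw1⟩ :=
    Subgroup.ne_bot_iff_exists_ne_one.mp (CfsgLib.inf_center_ne_bot_of_nilpotent hne)
  have hw1' : w ≠ 1 := fun e => hw1 (Subtype.ext (Subtype.ext e))
  obtain ⟨k, hk⟩ := IsPGroup.iff_orderOf.mp hR ⟨w, hwR⟩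
  rw [Subgroup.orderOf_mk] at hk
  have hk0 : k ≠ 0 := fun e => hw1' (orderOf_eq_one_iff.mp (by rw [hk, e, pow_zero]))
  have hwcent : w ∈ centralizer (R : Set G) := fun y hy =>
    congrArg Subtype.val (Subgroup.mem_center_iff.mp hwC ⟨y, hy⟩)
  refine ⟨w ^ q ^ (k - 1), pow_mem hwY _, Subgroup.subset_closure ⟨⟨pow_mem hwR _, pow_mem hwcent _⟩, ?_⟩, ?_⟩
  · rw [← pow_mul, ← pow_succ, Nat.sub_add_cancel (Nat.one_le_iff_ne_zero.mpr hk0), ← hk]
    exact pow_orderOf_eq_one w
  · intro e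
    have h1 := orderOf_dvd_of_pow_eq_one e
    rw [hk] at h1
    have := (Nat.pow_dvd_pow_iff_le_right (Fact.out : q.Prime).one_lt).mp h1
    omega

/-- `H` and a point outside generate `A`. -/
theorem mem_centralizer_A (h : Ctx p A θ) {H : Subgroup G} (hH : Line p A H) {a : G} (ha : a ∈ A) (haH : a ∉ H)
    {y : G} (hyH : y ∈ centralizer (H : Set G)) (hya : y ∈ centralizer ({a} : Set G)) :
    y ∈ centralizer (A : Set G) := by
  have hzA : zpowers a ≤ A := zpowers_le.mpr ha
  have hsup : H ⊔ zpowers a = A := by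
    refine Subgroup.eq_of_le_of_card_ge (sup_le hH.1 hzA) ?_
    obtain ⟨k, hk, hk'⟩ := (Nat.dvd_prime_pow (Fact.out : p.Prime)).mp
      (h.hA3 ▸ Subgroup.card_dvd_of_le (sup_le hH.1 hzA))
    have hcl : Nat.card H < Nat.card ↥(H ⊔ zpowers a) :=
      lt_of_le_of_ne (Subgroup.card_le_of_le le_sup_left) fun e => haH
        (Subgroup.eq_of_le_of_card_ge (le_sup_left : H ≤ H ⊔ zpowers a) e.ge ▸
          Subgroup.mem_sup_right (mem_zpowers a))
    rw [hH.2, hk'] at hcl
    have h2 := (Nat.pow_lt_pow_iff_right (Fact.out : p.Prime).one_lt).mp hcl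
    rw [h.hA3, hk', show k = 3 by omega]
  have hle : A ≤ centralizer ({y} : Set G) := by
    rw [← hsup]
    exact sup_le (fun w hw => mem_centralizer_singleton_iff.mpr (hyH w hw))
      (zpowers_le.mpr (mem_centralizer_singleton_iff.mpr (mem_centralizer_singleton_iff.mp hya).symm))
  exact fun z hz => mem_centralizer_singleton_iff.mp (hle hz)

/-- Inside a layer the centraliser of `O_q` is covered by `O_q` and `O_t`. -/
theorem Lay_centralizer_le {q t : ℕ} [Fact q.Prime] [Fact t.Prime] (hqt : t ≠ q) {K : Subgroup G} :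
    Lay q t K ⊓ centralizer (O q K : Set G) ≤ O q K ⊔ O t K := by
  set P0 := pCore q ↥K with hP0
  set C : Subgroup ↥K := ((pCore t (↥K ⧸ P0)).comap (QuotientGroup.mk' P0)) ⊓ centralizer (P0 : Set ↥K) with hC
  haveI : C.Normal := by rw [hC]; infer_instance
  let f : ↥C →* ↥(pCore t (↥K ⧸ P0)) :=
    ((QuotientGroup.mk' P0).comp C.subtype).codRestrict _ fun c => c.2.1
  have hfk : ∀ c : ↥C, c ∈ f.ker ↔ (c : ↥K) ∈ P0 := fun c => by
    rw [MonoidHom.mem_ker, Subtype.ext_iff]
    exact QuotientGroup.eq_one_iff _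
  haveI : Group.IsNilpotent ↥(pCore t (↥K ⧸ P0)) := (isPGroup_pCore t).isNilpotent
  haveI hnil : Group.IsNilpotent ↥C := Subgroup.isNilpotent_of_ker_le_center f (fun c hc =>
    Subgroup.mem_center_iff.mpr fun d => Subtype.ext ((d.2.2 (c : ↥K) ((hfk c).mp hc)).symm))
  obtain ⟨P⟩ : Nonempty (Sylow t ↥C) := inferInstance
  haveI hPn : (P : Subgroup ↥C).Normal :=
    (((Group.isNilpotent_of_finite_tfae (G := ↥C)).out 0 3).mp hnil : ∀ (r : ℕ) (_ : Fact r.Prime)
      (R : Sylow r ↥C), (R : Subgroup ↥C).Normal) t inferInstance P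
  haveI : (P : Subgroup ↥C).Characteristic := Sylow.characteristic_of_normal P hPn
  have hPle : (P : Subgroup ↥C).map C.subtype ≤ pCore t ↥K := le_pCore (P.2.map _)
  have hker : (Nat.card ↥C) ∣ Nat.card f.ker * Nat.card ↥(pCore t (↥K ⧸ P0)) := by
    rw [Subgroup.card_eq_card_quotient_mul_card_subgroup f.ker, mul_comm,
      Nat.card_congr (QuotientGroup.quotientKerEquivRange f).toEquiv]
    exact mul_dvd_mul_left _ (Subgroup.card_subgroup_dvd_card _)
  have htop : f.ker ⊔ (P : Subgroup ↥C) = ⊤ := by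
    rw [← Subgroup.index_eq_one]
    refine Nat.eq_one_of_dvd_coprimes ?_ (Subgroup.index_dvd_of_le le_sup_left)
      (Subgroup.index_dvd_of_le le_sup_right)
    obtain ⟨n, hn⟩ := IsPGroup.iff_card.mp (isPGroup_pCore (G := ↥K ⧸ P0) t)
    have h1 : f.ker.index ∣ t ^ n := by
      refine (Nat.mul_dvd_mul_iff_left (Nat.card_pos (α := f.ker))).mp ?_
      rw [Subgroup.card_mul_index, ← hn]
      exact hker
    refine Nat.Coprime.coprime_dvd_left h1 (Nat.Coprime.pow_left n ?_)
    exact (Fact.out : t.Prime).coprime_iff_not_dvd.mpr P.not_dvd_index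
  rintro y ⟨⟨y', hy', rfl⟩, hyc⟩
  have hyC : y' ∈ C := ⟨hy', fun x hx => Subtype.ext (hyc x ⟨x, hx, rfl⟩)⟩
  have hmem : y' ∈ P0 ⊔ pCore t ↥K := by
    have h1 : (⟨y', hyC⟩ : ↥C) ∈ f.ker ⊔ (P : Subgroup ↥C) := htop ▸ Subgroup.mem_top _
    have h2 : (f.ker ⊔ (P : Subgroup ↥C)).map C.subtype ≤ P0 ⊔ pCore t ↥K := by
      rw [Subgroup.map_sup]
      refine sup_le_sup ?_ hPle
      rintro _ ⟨c, hc, rfl⟩
      exact (hfk c).mp hc
    exact h2 ⟨⟨y', hyC⟩, h1, rfl⟩
  have := Subgroup.mem_map_of_mem K.subtype hmem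
  rwa [Subgroup.map_sup] at this

/-- A top member's `q`-core centralises the other cores of every maximal member it meets. -/
theorem top_centralizes_core (h : Ctx p A θ) {q t : ℕ} [Fact q.Prime] [Fact t.Prime] (htq : t ≠ q)
    {U K : Subgroup G} (hall : W p A θ t ≤ U) (hK : MM p A θ K) :
    O q U ⊓ K ≤ centralizer (O t K : Set G) := by
  refine commute_of_normalize (Nat.Coprime.coprime_dvd_left (Subgroup.card_dvd_of_le inf_le_left)
    (O_coprime htq.symm)) (inf_le_right.trans O_normal) ?_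
  intro x hx
  have hxU := (O_normal (q := q)) (hall (O_le_W h hK hx))
  have hxK : x ∈ normalizer (K : Set G) := Subgroup.le_normalizer (O_le hx)
  exact Comp.mem_normalizer_of_maps fun w hw =>
    ⟨(mem_normalizer_iff.mp hxU w).mp hw.1, (mem_normalizer_iff.mp hxK w).mp hw.2⟩

/-- Each core of a top member gives the engine's hypotheses. -/
theorem top_engineHyp (h : Ctx p A θ) {U : Subgroup G} (hU : MM p A θ U)
    (hall : ∀ r : ℕ, r.Prime → W p A θ r ≤ U) {q : ℕ} [Fact q.Prime] (hO : O q U ≠ ⊥) :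
    EngineHyp p A θ q ∧ Qual p A θ q (O q U) ∧ T0 p A θ q ≤ O q U := by
  have hq : q.Prime := Fact.out
  have hqual : ∀ K, MM p A θ K → O q K = ⊥ → O q U ⊓ K = ⊥ := fun K hK hOK =>
    eq_bot_of_centralizes h hK.1 inf_le_right (O_isPGroup.to_le inf_le_left) hOK fun r hr hrq => by
      haveI := Fact.mk hr
      exact top_centralizes_core h hrq (hall r hr) hK
  have hYW : O q U ≤ W p A θ q := O_le_W h hU
  obtain ⟨z, hzY, hzZ, hz1⟩ :=
    exists_mem_ZOm (W_isPGroup h) hYW ((hall q hq).trans O_normal) hO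
  have hzW : z ∈ W p A θ q ⊓ centralizer (W p A θ q : Set G) := ZOm_le hzZ
  have hzE : ∀ K, MM p A θ K → W p A θ q ≤ K → z ∈ O q K := by
    intro K hK hWK
    refine le_O_of_centralizes h hK.1 (zpowers_le.mpr (hWK hzW.1))
      ((W_isPGroup h).to_le (zpowers_le.mpr hzW.1)) (fun r hr => zpowers_le.mpr ?_) (mem_zpowers z)
    haveI := Fact.mk hr
    by_cases hrq : r = q
    · subst hrq
      exact Subgroup.centralizer_le (O_le_W h hK : O r K ≤ W p A θ r) hzW.2
    · exact top_centralizes_core h hrq (hall r hr) hK ⟨hzY, hWK hzW.1⟩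
  have hTY : T0 p A θ q ≤ O q U := inf_le_right.trans
    (iInf_le (fun K : {K : Subgroup G // MM p A θ K ∧ W p A θ q ≤ K} => O q (K : Subgroup G))
      ⟨U, hU, hall q hq⟩)
  refine ⟨engineHyp_of h (W_ne_bot h hU hO)
    (fun K hK hWK e => hz1 (Subgroup.mem_bot.mp (e ▸ hzE K hK hWK))) ?_ ?_ ?_ ?_,
    ⟨O_mem h hU.1, hqual⟩, hTY⟩
  · intro e
    have : z ∈ T0 p A θ q := ⟨hzW.1, Subgroup.mem_iInf.mpr fun K => hzE K K.2.1 K.2.2⟩
    exact hz1 (Subgroup.mem_bot.mp (e ▸ this))
  · intro K hK _ t ht htq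
    haveI := Fact.mk ht
    exact (inf_le_inf_right K hTY).trans (top_centralizes_core h htq (hall t ht) hK)
  · intro K hK hOK
    exact le_bot_iff.mp ((inf_le_inf_right K hTY).trans (hqual K hK hOK).le)
  · intro K hK hOK hle
    have : z ∈ O q U ⊓ K := ⟨hzY, hle hzZ⟩
    rw [hqual K hK hOK, Subgroup.mem_bot] at this
    exact hz1 this

/-- No maximal member contains every `W r`. -/
theorem noTop (h : Ctx p A θ) : NoTop p A θ := by
  rintro ⟨U, hU, hall⟩
  obtain ⟨q, hq, -, hO⟩ := exists_O_ne_bot h hU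
  haveI := Fact.mk hq
  -- every core is centralised by a line
  have hline : ∀ r : ℕ, r.Prime → O r U ≠ ⊥ → ∃ R, Line p A R ∧ O r U ≤ centralizer (R : Set G) := by
    intro r hr hOr
    haveI := Fact.mk hr
    obtain ⟨hE, hY, -⟩ := top_engineHyp h hU hall hOr
    by_contra hne
    push Not at hne
    exact engine h hE hY hne
  obtain ⟨hE, -, hTY⟩ := top_engineHyp h hU hall hO
  obtain ⟨R, hR, hYR⟩ := hline q hq hO
  refine not_all_normalize h hE fun H hH => ?_
  by_contra hbad
  obtain ⟨d, hd, hd1, ⟨Kd, hKd, hθd, hOd⟩, -, hlack⟩ := bad_line h hE hH hbad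
  set T := T0 p A θ q with hT
  have hnlR : ∀ a ∈ R, a ≠ 1 → NonLack p A θ q a := by
    intro a ha ha1
    by_contra hl
    refine hE.tne (le_bot_iff.mp ?_)
    rw [← lacking_meet h hE.qual ⟨hR.1 ha, ha1⟩ hl]
    exact le_inf le_rfl ((hTY.trans hYR).trans
      (Subgroup.centralizer_le (Set.singleton_subset_iff.mpr ha)))
  have hzd : ∀ g ∈ H, g ≠ 1 → g ∈ zpowers d → d ∈ zpowers g := by
    intro g hg hg1 hgd
    have e : zpowers g = zpowers d := by
      refine Subgroup.eq_of_le_of_card_ge (zpowers_le.mpr hgd) ?_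
      rw [Nat.card_zpowers, Nat.card_zpowers, orderOf_eq_prime_of_ea h.hA (hH.1 hd) hd1,
        orderOf_eq_prime_of_ea h.hA (hH.1 hg) hg1]
    exact e ▸ mem_zpowers d
  have hdR : d ∈ R := by
    obtain ⟨g, hgH, hgR, hg1⟩ := lines_meet h hH hR
    refine zpowers_le.mpr hgR (hzd g hgH hg1 ?_)
    by_contra hgd
    exact hlack g hgH hgd (hnlR g hgR hg1)
  obtain ⟨a, haR, haH⟩ : ∃ a ∈ R, a ∉ H := by
    refine SetLike.not_le_iff_exists.mp fun hle => ?_
    have e : R ≤ zpowers d := fun g hg => by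
      by_contra hgd
      exact hlack g (hle hg) hgd (hnlR g hg fun e => hgd (e ▸ one_mem _))
    have h2 := Subgroup.card_le_of_le e
    rw [hR.2, Nat.card_zpowers, orderOf_eq_prime_of_ea h.hA (hH.1 hd) hd1] at h2
    have := (Fact.out : p.Prime).one_lt
    nlinarith
  have hHA := hH.1
  have hcx : ∀ c ∈ signalizerInf H θ, ∀ x ∈ H, Commute x c := fun c hc x hx =>
    (inf_le_centralizer h hHA hc) x hx
  -- conjugates of `T` lie in `O q U`
  have hkey : ∀ c ∈ signalizerInf H θ, ∀ n ∈ T, c * n * c⁻¹ ∈ O q U := by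
    intro c hc
    have hcθ : c ∈ θ d := Subgroup.mem_iInf.mp hc ⟨d, hd, hd1⟩
    set S := T.map (MulAut.conj c).toMonoidHom with hS
    suffices hSY : S ≤ O q U from fun n hn => hSY ⟨n, hn, rfl⟩
    have hSKd : S ≤ O q Kd := by
      rintro _ ⟨y, hy, rfl⟩
      exact (mem_normalizer_iff.mp (O_normal (hθd hcθ)) y).mp (hE.t_le Kd hKd hOd hy)
    have hSU : S ≤ U := (hSKd.trans (O_le_W h hKd)).trans (hall q hq)
    have hSp : IsPGroup q S := O_isPGroup.to_le hSKd
    have hTmem : Mem p A θ T := hE.qual.1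
    have hSnp : ¬ p ∣ Nat.card S := by
      rw [hS, Subgroup.card_map_of_injective (MulAut.conj c).injective]
      exact hTmem.2.1
    have hSH : H ≤ normalizer (S : Set G) := fun x hx => by
      refine Comp.mem_normalizer_of_maps ?_
      rintro _ ⟨y, hy, rfl⟩
      refine ⟨x * y * x⁻¹, hTmem.2.2.1 x (hHA hx) y hy, ?_⟩
      show c * (x * y * x⁻¹) * c⁻¹ = x * (c * y * c⁻¹) * x⁻¹
      calc c * (x * y * x⁻¹) * c⁻¹ = (c * x) * y * (c * x)⁻¹ := by group
        _ = (x * c) * y * (x * c)⁻¹ := by rw [(hcx c hc x hx).eq]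
        _ = _ := by group
    refine le_O_of_layers h hU.1 hSU hSp fun t ht htq => ?_
    haveI := Fact.mk ht
    -- `S` centralises `O t U`
    have hSQ : ∀ s ∈ S, ∀ y ∈ O t U, s * y * s⁻¹ * y⁻¹ = 1 := by
      by_cases hQ : O t U = ⊥
      · intro s _ y hy
        rw [hQ, Subgroup.mem_bot] at hy
        simp [hy]
      obtain ⟨Rt, hRt, hQR⟩ := hline t ht hQ
      obtain ⟨g, hgH, hgR, hg1⟩ := lines_meet h hH hRt
      have hgQ : g ∈ centralizer (O t U : Set G) := fun y hy => ((hQR hy) g hgR).symm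
      by_cases hgd : g ∈ zpowers d
      · intro s hs y hy
        have hdQ : y ∈ centralizer ({d} : Set G) := by
          obtain ⟨j, hj⟩ := Subgroup.mem_zpowers_iff.mp (hzd g hgH hg1 hgd)
          rw [← hj]
          exact mem_centralizer_singleton_iff.mpr ((show Commute y g from hgQ y hy).zpow_right j).eq
        have hyK : y ∈ Kd := hθd (theta_le_of_mem (O_mem h hU.1) ⟨hHA hd, hd1⟩ ⟨hy, hdQ⟩)
        have h1 : s * y * s⁻¹ * y⁻¹ ∈ O t U :=
          mul_mem ((mem_normalizer_iff.mp (O_normal (hSU hs)) y).mp hy) (inv_mem hy)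
        have h2 : s * y * s⁻¹ * y⁻¹ ∈ O q Kd := by
          rw [mul_assoc, mul_assoc, ← mul_assoc y]
          exact mul_mem (hSKd hs) ((mem_normalizer_iff.mp (O_normal hyK) _).mp (inv_mem (hSKd hs)))
        exact Subgroup.mem_bot.mp ((Subgroup.inf_eq_bot_of_coprime (O_coprime htq)).le ⟨h1, h2⟩)
      · have hfix : S ⊓ centralizer (zpowers g : Set G) = ⊥ := by
          refine le_bot_iff.mp ?_
          rintro _ ⟨⟨y, hy, rfl⟩, hyg⟩
          have hyg' : Commute g (c * y * c⁻¹) := hyg g (mem_zpowers g)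
          have hgy : y ∈ T ⊓ centralizer ({g} : Set G) := by
            refine ⟨hy, mem_centralizer_singleton_iff.mpr ?_⟩
            have hgc : Commute g c := hcx c hc g hgH
            have := ((hgc.inv_right.mul_right hyg').mul_right hgc)
            simpa [mul_assoc] using this.symm.eq
          rw [lacking_meet h hE.qual ⟨hHA hgH, hg1⟩ (hlack g hgH hgd), Subgroup.mem_bot] at hgy
          simp [hgy]
        have hzg : zpowers g ≤ A := zpowers_le.mpr (hHA hgH)
        have hSle : S ≤ centralizer (O t U : Set G) := by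
          rw [← coprime_commutator_sup ((zpowers_le.mpr hgH).trans hSH) (ea_coprime (ea_le h.hA hzg) hSnp)
            (Or.inl (ea_solvable (ea_le h.hA hzg))), hfix, sup_bot_eq]
          refine Subgroup.commutator_le.mpr fun s hs k hk => ?_
          exact commutator_mem_centralizer (O_normal (hSU hs)) (zpowers_le.mpr hgQ hk)
        intro s hs y hy
        have := (hSle hs y hy : y * s = s * y)
        rw [← this]
        group
    -- the elements of `U` centralised by `S` modulo `O q U`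
    let M : Subgroup G :=
      { carrier := {y | y ∈ U ∧ ∀ s ∈ S, s * y * s⁻¹ * y⁻¹ ∈ O q U}
        one_mem' := ⟨one_mem _, fun s _ => by simp⟩
        mul_mem' := fun {y z} hy hz => ⟨mul_mem hy.1 hz.1, fun s hs => by
          have := mul_mem (hy.2 s hs) ((mem_normalizer_iff.mp (O_normal hy.1) _).mp (hz.2 s hs))
          simpa [mul_assoc] using this⟩
        inv_mem' := fun {y} hy => ⟨inv_mem hy.1, fun s hs => by
          have := (mem_normalizer_iff''.mp (O_normal hy.1) _).mp (inv_mem (hy.2 s hs))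
          simpa [mul_assoc] using this⟩ }
    suffices hLM : Lay q t U ≤ M from fun s hs y hy => (hLM hy).2 s hs
    have hzA : zpowers d ≤ A := zpowers_le.mpr (hHA hd)
    have hLmem : Mem p A θ (Lay q t U) := Lay_mem h hU.1
    rw [← coprime_commutator_sup (hzA.trans (mem_normalizes hLmem)) (ea_coprime (ea_le h.hA hzA) hLmem.2.1)
      (Or.inl (ea_solvable (ea_le h.hA hzA)))]
    refine sup_le ?_ ?_
    · refine Subgroup.commutator_le.mpr fun x hx g hg => ?_
      have hgY : g ∈ centralizer (O q U : Set G) := fun y hy =>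
        ((hYR hy) g (zpowers_le.mpr hdR hg)).symm
      have h1 : ⁅x, g⁆ ∈ Lay q t U ⊓ centralizer (O q U : Set G) := by
        refine ⟨?_, commutator_mem_centralizer (O_normal (Lay_le hx)) hgY⟩
        rw [commutatorElement_def, mul_assoc, mul_assoc, ← mul_assoc g]
        exact mul_mem hx ((mem_normalizer_iff.mp (hzA.trans (mem_normalizes hLmem) hg) _).mp (inv_mem hx))
      refine (sup_le ?_ ?_ : O q U ⊔ O t U ≤ M) (Lay_centralizer_le htq h1)
      · exact fun y hy => ⟨O_le hy, fun s hs =>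
          mul_mem ((mem_normalizer_iff.mp (O_normal (hSU hs)) y).mp hy) (inv_mem hy)⟩
      · exact fun y hy => ⟨O_le hy, fun s hs => (hSQ s hs y hy).symm ▸ one_mem _⟩
    · rintro y ⟨hy, hyd⟩
      refine ⟨Lay_le hy, fun s hs => ?_⟩
      have hyd' : y ∈ centralizer ({d} : Set G) :=
        Subgroup.centralizer_le (Set.singleton_subset_iff.mpr (mem_zpowers d)) hyd
      have hyK : y ∈ Kd := hθd (theta_le_of_mem hLmem ⟨hHA hd, hd1⟩ ⟨hy, hyd'⟩)
      refine Lay_sylow htq (Q := O q Kd ⊓ Lay q t U) inf_le_right (O_isPGroup.to_le inf_le_left) ⟨?_, ?_⟩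
      · rw [mul_assoc, mul_assoc, ← mul_assoc y]
        exact mul_mem (hSKd hs) ((mem_normalizer_iff.mp (O_normal hyK) _).mp (inv_mem (hSKd hs)))
      · exact (Lay q t U).mul_mem ((mem_normalizer_iff.mp (Lay_normal (hSU hs)) y).mp hy) ((Lay q t U).inv_mem hy)
  -- hence the line normalises `T`
  apply hbad
  have hHne : H ≠ ⊥ := fun e => by rw [e, Subgroup.mem_bot] at hd; exact hd1 hd
  have hXmem : Mem p A θ (signalizerInf H θ) := inf_mem_family h.hA h.hθ hHA hHne
  have haA := hR.1 haR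
  have hzA : zpowers a ≤ A := zpowers_le.mpr haA
  rw [← coprime_commutator_sup (hzA.trans (mem_normalizes hXmem)) (ea_coprime (ea_le h.hA hzA) hXmem.2.1)
    (Or.inl (ea_solvable (ea_le h.hA hzA)))]
  refine sup_le ?_ ?_
  · refine Subgroup.commutator_le.mpr fun x hx g hg => ?_
    have hgR : g ∈ R := zpowers_le.mpr haR hg
    have hgY : ∀ n ∈ O q U, g * n = n * g := fun n hn => hYR hn g hgR
    refine Subgroup.centralizer_le_normalizer _ fun n hn => ?_
    have h2 : Commute g (x⁻¹ * n * x) := by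
      have := hgY _ (hkey x⁻¹ (inv_mem hx) n hn)
      rwa [inv_inv] at this
    have h3 : Commute g⁻¹ n := (show Commute g n from hgY n (hTY hn)).inv_left
    rw [commutatorElement_def]
    calc n * (x * g * x⁻¹ * g⁻¹) = x * ((x⁻¹ * n * x) * g) * x⁻¹ * g⁻¹ := by group
      _ = x * (g * (x⁻¹ * n * x)) * x⁻¹ * g⁻¹ := by rw [h2.eq]
      _ = x * g * x⁻¹ * (n * g⁻¹) := by group
      _ = x * g * x⁻¹ * (g⁻¹ * n) := by rw [h3.eq]
      _ = _ := by group
  · rintro y ⟨hy, hya⟩
    refine dd_normalizes_T0 h (inf_centralizer_A_le h hXmem ⟨hy, ?_⟩)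
    exact mem_centralizer_A h hH haA haH (inf_le_centralizer h hHA hy)
      (Subgroup.centralizer_le (Set.singleton_subset_iff.mpr (mem_zpowers a)) hya)

end CfsgLib.SolvSF
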